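import Cfsg.Agent.Lib.Helper21.PComponents
import Mathlib.GroupTheory.Schreier

/-!
# The subgroup generated by the `p`-elements, and the structure of `p`-components (helper21)
-/

set_option autoImplicit false

namespace Cfsg.Agent.Helper21

open Subgroup
open scoped commutatorElement

section Abstract

variable {Y : Type*} [Group Y]

/-- If `H` is subnormal in `Y`, `O` is a normal `p'`-subgroup and `H ⊔ O = ⊤`, then `H` contains
every `p`-element of `Y`. -/
theorem mem_of_subnormal_sup_eq_top [Finite Y] (p : ℕ) [Fact p.Prime] (O : Subgroup Y) [O.Normal]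
    (hO : (Nat.card O).Coprime p) (H : Subgroup Y) (hH : H.IsSubnormal) (hHO : H ⊔ O = ⊤) :
    ∀ g : Y, (∃ k : ℕ, g ^ p ^ k = 1) → g ∈ H := by
  induction hH with
  | top => intro g _; exact mem_top g
  | step H K hHK hK hN ih =>
    intro g hg
    have hKO : K ⊔ O = ⊤ := top_le_iff.1 (hHO ▸ sup_le_sup_right hHK O)
    have hgK : g ∈ K := ih hKO g hg
    obtain ⟨k, hk⟩ := hg
    have hgHO : g ∈ H ⊔ O := hHO ▸ mem_top g
    obtain ⟨h, hh, o, ho, rfl⟩ := Subgroup.mem_sup_of_normal_right.1 hgHO
    have hoK : o ∈ K := by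
      have : o = h⁻¹ * (h * o) := by group
      rw [this]; exact K.mul_mem (K.inv_mem (hHK hh)) hgK
    -- work in the quotient K / H
    let q := QuotientGroup.mk' (H.subgroupOf K)
    have e1 : q ⟨h * o, hgK⟩ = q ⟨o, hoK⟩ := by
      have : (⟨h * o, hgK⟩ : K) = ⟨h, hHK hh⟩ * ⟨o, hoK⟩ := rfl
      rw [this, map_mul]
      have : q ⟨h, hHK hh⟩ = 1 := by
        rw [QuotientGroup.mk'_apply, QuotientGroup.eq_one_iff, Subgroup.mem_subgroupOf]
        exact hh
      rw [this, one_mul]
    have e2 : (q ⟨h * o, hgK⟩) ^ p ^ k = 1 := by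
      rw [← map_pow]
      have : (⟨h * o, hgK⟩ : K) ^ p ^ k = 1 := Subtype.ext (by simpa using hk)
      rw [this, map_one]
    have e3 : (q ⟨o, hoK⟩) ^ Nat.card O = 1 := by
      rw [← map_pow]
      have : (⟨o, hoK⟩ : K) ^ Nat.card O = 1 := by
        apply Subtype.ext
        have h1 : (⟨o, ho⟩ : O) ^ Nat.card O = 1 := pow_card_eq_one'
        have h2 : ((⟨o, ho⟩ : O) ^ Nat.card O : O).1 = (1 : O).1 := congrArg Subtype.val h1
        rw [Subgroup.coe_pow, Subgroup.coe_one] at h2
        rw [Subgroup.coe_pow, Subgroup.coe_one]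
        exact h2
      rw [this, map_one]
    rw [e1] at e2
    have e4 : q ⟨o, hoK⟩ = 1 := by
      have hcop : (p ^ k).Coprime (Nat.card O) := (Nat.Coprime.pow_left k hO.symm)
      have := pow_gcd_eq_one.2 ⟨e2, e3⟩
      rw [hcop, pow_one] at this
      exact this
    rw [← e1, QuotientGroup.mk'_apply, QuotientGroup.eq_one_iff, Subgroup.mem_subgroupOf] at e4
    exact e4

end Abstract

section Concrete

variable {X : Type*} [Group X]

/-- The subgroup generated by the `p`-elements of `Y`. -/
def pGen (p : ℕ) (Y : Subgroup X) : Subgroup X :=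
  closure {g | g ∈ Y ∧ ∃ k : ℕ, g ^ p ^ k = 1}

theorem pGen_le (p : ℕ) (Y : Subgroup X) : pGen p Y ≤ Y :=
  (closure_le _).2 (fun _ hg => hg.1)

theorem mem_pGen {p : ℕ} {Y : Subgroup X} {g : X} (hg : g ∈ Y) (hk : ∃ k : ℕ, g ^ p ^ k = 1) :
    g ∈ pGen p Y := subset_closure ⟨hg, hk⟩

theorem pGen_le_of_forall {p : ℕ} {Y H : Subgroup X}
    (h : ∀ g ∈ Y, (∃ k : ℕ, g ^ p ^ k = 1) → g ∈ H) : pGen p Y ≤ H :=
  (closure_le _).2 (fun g hg => h g hg.1 hg.2)

theorem pGen_conj_mem (p : ℕ) (Y : Subgroup X) {x : X} (hx : x ∈ normalizer (Y : Set X)) :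
    ∀ g ∈ pGen p Y, x * g * x⁻¹ ∈ pGen p Y := by
  intro g hg
  unfold pGen at hg
  induction hg using closure_induction with
  | mem g hg =>
    apply mem_pGen
    · exact (Subgroup.mem_normalizer_iff.1 hx g).1 hg.1
    · obtain ⟨k, hk⟩ := hg.2
      exact ⟨k, by rw [conj_pow, hk]; simp⟩
  | one => simp
  | mul a b _ _ iha ihb =>
    have : x * (a * b) * x⁻¹ = (x * a * x⁻¹) * (x * b * x⁻¹) := by group
    rw [this]; exact mul_mem iha ihb
  | inv a _ iha =>
    have : x * a⁻¹ * x⁻¹ = (x * a * x⁻¹)⁻¹ := by group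
    rw [this]; exact inv_mem iha

theorem normalizer_le_normalizer_pGen (p : ℕ) (Y : Subgroup X) :
    normalizer (Y : Set X) ≤ normalizer (pGen p Y : Set X) := by
  intro x hx
  rw [Subgroup.mem_normalizer_iff]
  intro g
  constructor
  · exact pGen_conj_mem p Y hx g
  · intro h
    have := pGen_conj_mem p Y (inv_mem hx) _ h
    have e : x⁻¹ * (x * g * x⁻¹) * x⁻¹⁻¹ = g := by group
    rwa [e] at this

theorem pGen_subgroupOf_normal (p : ℕ) (Y : Subgroup X) : ((pGen p Y).subgroupOf Y).Normal := by
  rw [Subgroup.normal_subgroupOf_iff_le_normalizer (pGen_le p Y)]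
  exact (Subgroup.le_normalizer).trans (normalizer_le_normalizer_pGen p Y)

theorem pGen_isSubnormal (p : ℕ) {Y : Subgroup X} (hY : Y.IsSubnormal) :
    (pGen p Y).IsSubnormal :=
  Subgroup.IsSubnormal.trans (pGen_le p Y) (pGen_subgroupOf_normal p Y).isSubnormal hY

/-- The index of `pGen p Y` in `Y` is prime to `p`. -/
theorem pGen_index_coprime [Finite X] (p : ℕ) [Fact p.Prime] (Y : Subgroup X) :
    (((pGen p Y).subgroupOf Y).index).Coprime p := by
  obtain ⟨P⟩ : Nonempty (Sylow p ↥Y) := inferInstance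
  have hP : (P : Subgroup ↥Y) ≤ (pGen p Y).subgroupOf Y := by
    intro g hg
    rw [Subgroup.mem_subgroupOf]
    apply mem_pGen g.2
    obtain ⟨k, hk⟩ := P.isPGroup' ⟨g, hg⟩
    refine ⟨k, ?_⟩
    have h1 : g ^ p ^ k = 1 := by
      have := congrArg Subtype.val hk
      simpa using this
    have h2 := congrArg Subtype.val h1
    simpa using h2
  have hdvd := Subgroup.index_dvd_of_le hP
  have hnd : ¬ p ∣ (P : Subgroup ↥Y).index := P.not_dvd_index
  have hcop : ((P : Subgroup ↥Y).index).Coprime p :=
    ((Nat.Prime.coprime_iff_not_dvd Fact.out).2 hnd).symm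
  exact Nat.Coprime.coprime_dvd_left hdvd hcop

/-- If `H ≤ Y` is subnormal in `X`, and `H ⊔ O_{p'}(X) = Y`, then `pGen p Y ≤ H`. -/
theorem pGen_le_of_subnormal [Finite X] (p : ℕ) [Fact p.Prime] {H Y : Subgroup X}
    (hH : H.IsSubnormal) (hHY : H ⊔ pPrimeCore p X = Y) : pGen p Y ≤ H := by
  have hHleY : H ≤ Y := hHY ▸ le_sup_left
  have hOleY : pPrimeCore p X ≤ Y := hHY ▸ le_sup_right
  apply pGen_le_of_forall
  intro g hg hk
  have hO' : ((pPrimeCore p X).subgroupOf Y).Normal := inferInstance
  have hcard : (Nat.card ((pPrimeCore p X).subgroupOf Y)).Coprime p := by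
    rw [Nat.card_congr (Subgroup.subgroupOfEquivOfLe hOleY).toEquiv]
    exact Cfsg.Agent.Helper30.pPrimeCore_coprime p
  have hsup : H.subgroupOf Y ⊔ (pPrimeCore p X).subgroupOf Y = ⊤ := by
    rw [← Subgroup.subgroupOf_sup hHleY hOleY, hHY, Subgroup.subgroupOf_self]
  have := mem_of_subnormal_sup_eq_top p ((pPrimeCore p X).subgroupOf Y) hcard
    (H.subgroupOf Y) hH.subgroupOf hsup ⟨g, hg⟩
    (by
      obtain ⟨k, hk⟩ := hk
      exact ⟨k, Subtype.ext (by simpa using hk)⟩)
  rwa [Subgroup.mem_subgroupOf] at this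

/-- **Existence of `p`-components.** For a component `Kbar` of `X / O_{p'}(X)`, the subgroup
generated by the `p`-elements of the preimage of `Kbar` maps onto `Kbar`. -/
theorem map_pGen_comap_eq [Finite X] (p : ℕ) [Fact p.Prime]
    (Kbar : Subgroup (X ⧸ pPrimeCore p X)) (hK : IsComponent Kbar) :
    (pGen p (Kbar.comap (QuotientGroup.mk' (pPrimeCore p X)))).map
      (QuotientGroup.mk' (pPrimeCore p X)) = Kbar := by
  set π := QuotientGroup.mk' (pPrimeCore p X) with hπ
  set Y := Kbar.comap π with hY
  have hYmap : Y.map π = Kbar :=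
    Subgroup.map_comap_eq_self_of_surjective (QuotientGroup.mk'_surjective _) Kbar
  obtain ⟨hsn, hq⟩ := hK
  apply le_antisymm
  · rw [← hYmap]; exact Subgroup.map_mono (pGen_le p Y)
  -- the restricted map
  let φ : ↥Y →* ↥(Y.map π) := π.subgroupMap Y
  have hφ : Function.Surjective φ := π.subgroupMap_surjective Y
  have hq' : IsQuasisimple ↥(Y.map π) := by rw [hYmap]; exact hq
  have hsn' : (Y.map π).IsSubnormal := by rw [hYmap]; exact hsn
  have hn : ((pGen p Y).subgroupOf Y).Normal := pGen_subgroupOf_normal p Y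
  have hNn : (((pGen p Y).subgroupOf Y).map φ).Normal := Subgroup.Normal.map hn φ hφ
  rcases quasisimple_normal_eq_top_or_le_center hq' (((pGen p Y).subgroupOf Y).map φ) with h1 | h2
  · rw [← hYmap]
    rintro _ ⟨y, hy, rfl⟩
    have : (⟨π y, Subgroup.mem_map_of_mem π hy⟩ : ↥(Y.map π)) ∈ ((pGen p Y).subgroupOf Y).map φ :=
      h1 ▸ Subgroup.mem_top _
    obtain ⟨r, hr, hr'⟩ := this
    have hr2 : (r : X) ∈ pGen p Y := Subgroup.mem_subgroupOf.1 hr
    refine ⟨(r : X), hr2, ?_⟩
    exact congrArg Subtype.val hr'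
  · exfalso
    have hdvd1 : (Subgroup.center ↥(Y.map π)).index ∣ (((pGen p Y).subgroupOf Y).map φ).index :=
      Subgroup.index_dvd_of_le h2
    have hdvd2 : (((pGen p Y).subgroupOf Y).map φ).index ∣ ((pGen p Y).subgroupOf Y).index :=
      Subgroup.index_map_dvd _ hφ
    have hcop : ((Subgroup.center ↥(Y.map π)).index).Coprime p :=
      Nat.Coprime.coprime_dvd_left (hdvd1.trans hdvd2) (pGen_index_coprime p Y)
    have hcard : (Nat.card ↥(Y.map π)).Coprime p := by
      have h4 := Subgroup.card_commutator_dvd_index_center_pow (G := ↥(Y.map π))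
      rw [hq'.1.commutator_eq_top, Subgroup.card_top] at h4
      exact Nat.Coprime.coprime_dvd_left h4 (Nat.Coprime.pow_left _ hcop)
    have hle : Y.map π ≤ pPrimeCore p (X ⧸ pPrimeCore p X) :=
      Cfsg.Agent.Helper30.subnormal_le_pPrimeCore p hsn' hcard
    rw [Cfsg.Agent.Helper30.pPrimeCore_quotient_eq_bot] at hle
    have hnt := quasisimple_nontrivial hq'
    rw [le_bot_iff.1 hle] at hnt
    exact not_subsingleton _ (inferInstance : Subsingleton (⊥ : Subgroup (X ⧸ pPrimeCore p X)))

theorem comap_map_mk_pPrimeCore (p : ℕ) (H : Subgroup X) :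
    (H.map (QuotientGroup.mk' (pPrimeCore p X))).comap (QuotientGroup.mk' (pPrimeCore p X))
      = H ⊔ pPrimeCore p X := by
  rw [Subgroup.comap_map_eq, QuotientGroup.ker_mk']

/-- `pGen p (preimage of a component)` is a `p`-component. -/
theorem isPComponent_pGen_comap [Finite X] (p : ℕ) [Fact p.Prime]
    (Kbar : Subgroup (X ⧸ pPrimeCore p X)) (hK : IsComponent Kbar) :
    IsPComponent p (pGen p (Kbar.comap (QuotientGroup.mk' (pPrimeCore p X)))) := by
  have hmap := map_pGen_comap_eq p Kbar hK
  have hYsn : (Kbar.comap (QuotientGroup.mk' (pPrimeCore p X))).IsSubnormal := hK.1.comap _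
  refine ⟨pGen_isSubnormal p hYsn, by rw [hmap]; exact hK, ?_⟩
  intro H hH hHle hHmap
  apply le_antisymm hHle
  apply pGen_le_of_subnormal p hH
  rw [← comap_map_mk_pPrimeCore, hHmap, hmap]

/-- **Uniqueness of `p`-components**: a `p`-component is `pGen p` of the preimage of its image. -/
theorem pComponent_eq_pGen [Finite X] (p : ℕ) [Fact p.Prime] {K : Subgroup X}
    (hK : IsPComponent p K) :
    K = pGen p ((K.map (QuotientGroup.mk' (pPrimeCore p X))).comap
      (QuotientGroup.mk' (pPrimeCore p X))) := by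
  obtain ⟨hsn, hcomp, hmin⟩ := hK
  have h1 : pGen p ((K.map (QuotientGroup.mk' (pPrimeCore p X))).comap
      (QuotientGroup.mk' (pPrimeCore p X))) ≤ K :=
    pGen_le_of_subnormal p hsn (comap_map_mk_pPrimeCore p K).symm
  have h2 := map_pGen_comap_eq p _ hcomp
  have h3 := pGen_isSubnormal p (hcomp.1.comap (QuotientGroup.mk' (pPrimeCore p X)))
  exact (hmin _ h3 h1 h2).symm

theorem isPComponent_iff [Finite X] (p : ℕ) [Fact p.Prime] (K : Subgroup X) :
    IsPComponent p K ↔ IsComponent (K.map (QuotientGroup.mk' (pPrimeCore p X))) ∧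
      K = pGen p ((K.map (QuotientGroup.mk' (pPrimeCore p X))).comap
        (QuotientGroup.mk' (pPrimeCore p X))) :=
  ⟨fun h => ⟨h.2.1, pComponent_eq_pGen p h⟩, fun h => by
    rw [h.2]; exact isPComponent_pGen_comap p _ h.1⟩

/-- Two `p`-components with the same image are equal. -/
theorem pComponent_eq_of_map_eq [Finite X] (p : ℕ) [Fact p.Prime] {K L : Subgroup X}
    (hK : IsPComponent p K) (hL : IsPComponent p L)
    (h : K.map (QuotientGroup.mk' (pPrimeCore p X)) = L.map (QuotientGroup.mk' (pPrimeCore p X))) :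
    K = L := by
  rw [pComponent_eq_pGen p hK, pComponent_eq_pGen p hL, h]

end Concrete

end Cfsg.Agent.Helper21

namespace Cfsg.Agent.Helper21

open Subgroup

section More

variable {X : Type*} [Group X]

/-- A component normalizes every component. -/
theorem component_le_normalizer_component {K L : Subgroup X} (hK : IsComponent K)
    (hL : IsComponent L) : L ≤ normalizer (K : Set X) := by
  by_cases h : L = K
  · subst h; exact Subgroup.le_normalizer
  · have := component_commutator_eq_bot_of_ne L K hL hK h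
    rw [Subgroup.commutator_eq_bot_iff_le_centralizer] at this
    exact this.trans (Subgroup.centralizer_le_normalizer _)

/-- A `p`-component normalizes every `p`-component. -/
theorem pComponent_le_normalizer_pComponent [Finite X] (p : ℕ) [Fact p.Prime] {K L : Subgroup X}
    (hK : IsPComponent p K) (hL : IsPComponent p L) : L ≤ normalizer (K : Set X) := by
  set π := QuotientGroup.mk' (pPrimeCore p X) with hπ
  have h1 : L.map π ≤ normalizer ((K.map π : Subgroup _) : Set (X ⧸ pPrimeCore p X)) :=
    component_le_normalizer_component hK.2.1 hL.2.1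
  have h2 : L ≤ (normalizer ((K.map π : Subgroup _) : Set (X ⧸ pPrimeCore p X))).comap π :=
    Subgroup.map_le_iff_le_comap.1 h1
  have h3 := h2.trans (Subgroup.le_normalizer_comap π)
  have h4 := h3.trans (normalizer_le_normalizer_pGen p _)
  rw [← pComponent_eq_pGen p hK] at h4
  exact h4

theorem pLayer_le_normalizer_pComponent [Finite X] (p : ℕ) [Fact p.Prime] {K : Subgroup X}
    (hK : IsPComponent p K) : pLayer p X ≤ normalizer (K : Set X) :=
  sSup_le (fun _ hL => pComponent_le_normalizer_pComponent p hK hL)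

theorem pComponent_le_pLayer (p : ℕ) {K : Subgroup X} (hK : IsPComponent p K) :
    K ≤ pLayer p X := le_sSup hK

end More

end Cfsg.Agent.Helper21

namespace Cfsg.Agent.Helper21

open Subgroup

/-- A nontrivial homomorphic image of a quasisimple group is quasisimple. -/
theorem isQuasisimple_of_surjective {L M : Type*} [Group L] [Group M] (f : L →* M)
    (hf : Function.Surjective f) (hL : IsQuasisimple L) (hM : Nontrivial M) :
    IsQuasisimple M := by
  have hperf : Group.IsPerfect M := by
    have := hL.1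
    exact Group.IsPerfect.ofSurjective hf
  refine ⟨hperf, ?_⟩
  let ψ : L →* M ⧸ center M := (QuotientGroup.mk' (center M)).comp f
  have hψ : Function.Surjective ψ := (QuotientGroup.mk'_surjective _).comp hf
  have hmem : ∀ z : L, z ∈ ψ.ker ↔ f z ∈ center M := by
    intro z
    rw [MonoidHom.mem_ker]
    show (QuotientGroup.mk' (center M)) (f z) = 1 ↔ _
    rw [QuotientGroup.mk'_apply, QuotientGroup.eq_one_iff]
  have hker : center L = ψ.ker := by
    rcases quasisimple_normal_eq_top_or_le_center hL ψ.ker with h1 | h2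
    · exfalso
      -- then M is commutative and perfect, hence trivial
      have hc : center M = ⊤ := by
        rw [eq_top_iff]
        intro m _
        obtain ⟨l, rfl⟩ := hf m
        exact (hmem l).1 (h1 ▸ mem_top l)
      have : IsMulCommutative M := Subgroup.center_eq_top_iff.1 hc
      have hs : Subsingleton M := Group.IsPerfect.subsingleton_of_isMulCommutative
      exact not_subsingleton M hs
    · apply le_antisymm _ h2
      intro z hz
      rw [hmem, Subgroup.mem_center_iff]
      intro y
      obtain ⟨k, rfl⟩ := hf y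
      rw [← map_mul, ← map_mul, Subgroup.mem_center_iff.1 hz k]
  have hs : IsSimpleGroup (L ⧸ center L) := hL.2
  exact ((QuotientGroup.quotientMulEquivOfEq hker).trans
    (QuotientGroup.quotientKerEquivOfSurjective ψ hψ)).isSimpleGroup_congr.1 hs

/-- The image of a component under a surjective homomorphism is trivial or a component. -/
theorem component_map_eq_bot_or_isComponent {X Q : Type*} [Group X] [Group Q] (f : X →* Q)
    (hf : Function.Surjective f) {L : Subgroup X} (hL : IsComponent L) :
    L.map f = ⊥ ∨ IsComponent (L.map f) := by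
  by_cases h : L.map f = ⊥
  · exact Or.inl h
  · right
    refine ⟨hL.1.map hf, ?_⟩
    apply isQuasisimple_of_surjective (f.subgroupMap L) (f.subgroupMap_surjective L) hL.2
    exact (Subgroup.nontrivial_iff_ne_bot _).2 h

/-- The image of the layer lies in the layer of the image. -/
theorem layer_map_le {X Q : Type*} [Group X] [Group Q] (f : X →* Q)
    (hf : Function.Surjective f) : (layer X).map f ≤ layer Q := by
  unfold layer
  rw [Subgroup.map_le_iff_le_comap]
  apply sSup_le
  intro L hL
  rw [← Subgroup.map_le_iff_le_comap]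
  rcases component_map_eq_bot_or_isComponent f hf hL with h | h
  · rw [h]; exact bot_le
  · exact le_sSup h

end Cfsg.Agent.Helper21
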