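import Cfsg.Agent.Lib.Helper21.Layer
import Cfsg.Agent.Lib.Helper94.Solvable
import Cfsg.Agent.Lib.Helper62.PiCore
import Cfsg.Agent.Lib.Helper70.Fitting

/-!
# The generalized Fitting subgroup: `C_G(F*(G)) ≤ F*(G)` (helper21)
-/

set_option autoImplicit false

namespace Cfsg.Agent.Helper21

open Subgroup
open scoped commutatorElement

variable {G : Type*} [Group G]

/-- Descent along the derived series of a solvable subgroup `N`. -/
theorem derived_descent_subgroup (N Z : Subgroup G) (hs : Group.IsSolvable ↥N)
    (hstep : ∀ A : Subgroup G, A ≤ N → (A.subgroupOf N).Normal → ⁅A, A⁆ ≤ Z → A ≤ Z) :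
    N ≤ Z := by
  obtain ⟨n, hn⟩ := (Group.isSolvable_def ↥N).1 hs
  have key : ∀ k m : ℕ, m + k = n → (derivedSeries ↥N m).map N.subtype ≤ Z := by
    intro k
    induction k with
    | zero =>
      intro m hm
      rw [add_zero] at hm
      rw [hm, hn, Subgroup.map_bot]
      exact bot_le
    | succ k ih =>
      intro m hm
      have h1 := ih (m + 1) (by omega)
      apply hstep
      · rintro _ ⟨x, _, rfl⟩
        exact x.2
      · have hnorm : (derivedSeries ↥N m).Normal := inferInstance
        have : ((derivedSeries ↥N m).map N.subtype).subgroupOf N = derivedSeries ↥N m := by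
          ext x
          rw [Subgroup.mem_subgroupOf]
          constructor
          · rintro ⟨y, hy, hxy⟩
            have : y = x := Subtype.ext hxy
            rwa [← this]
          · intro hx
            exact ⟨x, hx, rfl⟩
        rw [this]
        exact hnorm
      · rw [← Subgroup.map_commutator]
        rw [derivedSeries_succ] at h1
        exact h1
  have := key n 0 (by omega)
  rw [derivedSeries_zero, ← MonoidHom.range_eq_map, Subgroup.range_subtype] at this
  exact this

/-- A subnormal solvable subgroup of `C_G(F(G))` lies in `F(G)`. -/
theorem subnormal_solvable_le_fitting [Finite G] (N : Subgroup G) (hNsn : N.IsSubnormal)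
    (hN : N ≤ centralizer (fittingSubgroup G : Set G)) (hsolv : Group.IsSolvable ↥N) :
    N ≤ centralizer (fittingSubgroup G : Set G) ⊓ fittingSubgroup G := by
  apply derived_descent_subgroup N _ hsolv
  intro A hAN hAn hAA
  have hAC : A ≤ centralizer (fittingSubgroup G : Set G) := hAN.trans hN
  refine le_inf hAC ?_
  have hAsn : A.IsSubnormal := Subgroup.IsSubnormal.trans hAN hAn.isSubnormal hNsn
  have hnil : Group.IsNilpotent ↥A :=
    Cfsg.Agent.Helper94.isNilpotent_of_commutators_central A
      (Cfsg.Agent.Helper94.commutators_central_of_le_centralizer A (fittingSubgroup G) hAC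
        (hAA.trans inf_le_right))
  exact Cfsg.Agent.Helper62.subnormal_nilpotent_le_fitting hAsn hnil

/-- **S1264**: a solvable subgroup of `C_G(F(G))` normalized by `C_G(F(G))` lies in `F(G)`. -/
theorem solvable_le_fitting_of_le_centralizer [Finite G] (N : Subgroup G)
    (hN : N ≤ centralizer (fittingSubgroup G : Set G))
    (hnorm : centralizer (fittingSubgroup G : Set G) ≤ normalizer (N : Set G))
    (hsolv : Group.IsSolvable ↥N) :
    N ≤ centralizer (fittingSubgroup G : Set G) ⊓ fittingSubgroup G := by
  have hFn : (fittingSubgroup G).Normal := Cfsg.Agent.Helper70.fittingSubgroup_normal G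
  have hCn : (centralizer (fittingSubgroup G : Set G)).Normal := inferInstance
  have hNsn : N.IsSubnormal := by
    apply Subgroup.IsSubnormal.trans hN _ hCn.isSubnormal
    exact ((Subgroup.normal_subgroupOf_iff_le_normalizer hN).2 hnorm).isSubnormal
  exact subnormal_solvable_le_fitting N hNsn hN hsolv

/-- In a finite group the derived series stabilizes: there is a perfect normal subgroup `D`
(the last term) which is trivial only if the group is solvable. -/
theorem exists_perfect_core (H : Type*) [Group H] [Finite H] :
    ∃ D : Subgroup H, D.Normal ∧ ⁅D, D⁆ = D ∧ (D = ⊥ → Group.IsSolvable H) := by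
  have hstab : ∃ n, derivedSeries H (n + 1) = derivedSeries H n := by
    by_contra hcon
    push Not at hcon
    have hlt : ∀ n, Nat.card (derivedSeries H (n + 1)) < Nat.card (derivedSeries H n) := by
      intro n
      have hle : derivedSeries H (n + 1) ≤ derivedSeries H n := by
        rw [derivedSeries_succ]; exact Subgroup.commutator_le_self _
      have hne := hcon n
      have h1 := Subgroup.card_le_of_le hle
      rcases Nat.lt_or_ge (Nat.card (derivedSeries H (n + 1))) (Nat.card (derivedSeries H n))
        with h2 | h2
      · exact h2
      · exact absurd (Subgroup.eq_of_le_of_card_ge hle h2) hne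
    have hbound : ∀ n, Nat.card (derivedSeries H n) + n ≤ Nat.card (derivedSeries H 0) := by
      intro n
      induction n with
      | zero => simp
      | succ n ih => have := hlt n; omega
    have h1 := hbound (Nat.card (derivedSeries H 0) + 1)
    omega
  obtain ⟨n, hn⟩ := hstab
  refine ⟨derivedSeries H n, inferInstance, ?_, ?_⟩
  · rw [← derivedSeries_succ, hn]
  · intro h
    exact (Group.isSolvable_def H).2 ⟨n, h⟩

theorem fittingSubgroup_le_generalizedFittingSubgroup :
    fittingSubgroup G ≤ generalizedFittingSubgroup G := le_sup_right

theorem layer_le_generalizedFittingSubgroup :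
    layer G ≤ generalizedFittingSubgroup G := le_sup_left

/-- if every proper normal subgroup of a nontrivial perfect group is central, it is quasisimple -/
theorem isQuasisimple_of_forall_normal_le_center {K : Type*} [Group K] [Nontrivial K]
    (hp : Group.IsPerfect K)
    (h : ∀ N : Subgroup K, N.Normal → N ≠ ⊤ → N ≤ center K) : IsQuasisimple K := by
  refine ⟨hp, ?_⟩
  have hZ : center K ≠ ⊤ := by
    intro hc
    have : IsMulCommutative K := Subgroup.center_eq_top_iff.1 hc
    have hs : Subsingleton K := Group.IsPerfect.subsingleton_of_isMulCommutative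
    exact not_subsingleton K hs
  have hnt : Nontrivial (K ⧸ center K) := by
    by_contra hn
    rw [not_nontrivial_iff_subsingleton] at hn
    apply hZ
    rw [eq_top_iff]
    intro x _
    have : (QuotientGroup.mk' (center K)) x = 1 := Subsingleton.elim _ _
    rwa [QuotientGroup.mk'_apply, QuotientGroup.eq_one_iff] at this
  refine { exists_pair_ne := hnt.exists_pair_ne, eq_bot_or_eq_top_of_normal := ?_ }
  intro M hM
  by_cases hN : M.comap (QuotientGroup.mk' (center K)) = ⊤
  · right
    rw [eq_top_iff]
    intro q _
    obtain ⟨x, rfl⟩ := QuotientGroup.mk'_surjective (center K) q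
    have : x ∈ M.comap (QuotientGroup.mk' (center K)) := hN ▸ mem_top x
    exact this
  · left
    have hle := h _ (hM.comap _) hN
    rw [eq_bot_iff]
    intro q hq
    obtain ⟨x, rfl⟩ := QuotientGroup.mk'_surjective (center K) q
    have hx : x ∈ center K := hle hq
    rw [Subgroup.mem_bot, QuotientGroup.mk'_apply, QuotientGroup.eq_one_iff]
    exact hx

/-- **Lemma P**: no nontrivial perfect subnormal subgroup lies in `C_G(F*(G))`. -/
theorem perfect_subnormal_le_centralizer_eq_bot [Finite G] :
    ∀ K : Subgroup G, K.IsSubnormal → ⁅K, K⁆ = K →
      K ≤ centralizer (generalizedFittingSubgroup G : Set G) → K = ⊥ := by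
  intro K
  induction' hcard : Nat.card K using Nat.strong_induction_on with n ih generalizing K
  intro hKsn hKp hKC
  by_contra hK1
  have hnt : Nontrivial ↥K := (Subgroup.nontrivial_iff_ne_bot K).2 hK1
  have hperf : Group.IsPerfect ↥K := Subgroup.isPerfect_iff.2 hKp
  have hCF : centralizer (generalizedFittingSubgroup G : Set G)
      ≤ centralizer (fittingSubgroup G : Set G) :=
    Subgroup.centralizer_le fittingSubgroup_le_generalizedFittingSubgroup
  have hq : IsQuasisimple ↥K := by
    apply isQuasisimple_of_forall_normal_le_center hperf
    intro N hNn hNtop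
    -- perfect core of N
    obtain ⟨D, hDn, hDp, hDs⟩ := exists_perfect_core ↥N
    set D' : Subgroup G := (D.map N.subtype).map K.subtype with hD'
    have hD'sn : D'.IsSubnormal :=
      ((hDn.isSubnormal).trans' hNn.isSubnormal).trans' hKsn
    have hD'p : ⁅D', D'⁆ = D' := by
      rw [hD', ← Subgroup.map_commutator, ← Subgroup.map_commutator, hDp]
    have hD'K : D' ≤ K := by
      rintro _ ⟨x, _, rfl⟩; exact x.2
    have hcardD : Nat.card D' < n := by
      have e1 : Nat.card D' = Nat.card D := by
        rw [hD']
        rw [← Nat.card_congr ((D.map N.subtype).equivMapOfInjective K.subtype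
          K.subtype_injective).toEquiv,
          ← Nat.card_congr (D.equivMapOfInjective N.subtype N.subtype_injective).toEquiv]
      have e2 : Nat.card D ≤ Nat.card N := Subgroup.card_le_card_group D
      have e3 : Nat.card N < Nat.card K := by
        rcases Nat.lt_or_ge (Nat.card N) (Nat.card K) with h | h
        · exact h
        · exact absurd (Subgroup.card_eq_iff_eq_top N |>.1
            (le_antisymm (Subgroup.card_le_card_group N) h)) hNtop
      omega
    have hD'bot : D' = ⊥ := ih _ hcardD D' rfl hD'sn hD'p (hD'K.trans hKC)
    have hDbot : D = ⊥ := by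
      rw [hD', Subgroup.map_eq_bot_iff_of_injective _ K.subtype_injective,
        Subgroup.map_eq_bot_iff_of_injective _ N.subtype_injective] at hD'bot
      exact hD'bot
    have hNsolv : Group.IsSolvable ↥N := hDs hDbot
    -- N mapped to G
    set N' : Subgroup G := N.map K.subtype with hN'
    have hN'sn : N'.IsSubnormal := (hNn.isSubnormal).trans' hKsn
    have hN'K : N' ≤ K := by
      rintro _ ⟨x, _, rfl⟩; exact x.2
    have hN'solv : Group.IsSolvable ↥N' :=
      Group.isSolvable_of_isSolvable_injective
        (f := (N.equivMapOfInjective K.subtype K.subtype_injective).symm.toMonoidHom)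
        (N.equivMapOfInjective K.subtype K.subtype_injective).symm.injective
    have hN'F := subnormal_solvable_le_fitting N' hN'sn ((hN'K.trans hKC).trans hCF) hN'solv
    have hN'Fs : N' ≤ generalizedFittingSubgroup G :=
      (hN'F.trans inf_le_right).trans fittingSubgroup_le_generalizedFittingSubgroup
    intro x hx
    rw [Subgroup.mem_center_iff]
    intro k
    have hxN' : (x : G) ∈ N' := ⟨x, hx, rfl⟩
    have := Subgroup.mem_centralizer_iff.1 (hKC k.2) (x : G) (hN'Fs hxN')
    exact Subtype.ext this.symm
  have hKcomp : IsComponent K := ⟨hKsn, hq⟩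
  have hKF : K ≤ generalizedFittingSubgroup G :=
    (component_le_layer hKcomp).trans layer_le_generalizedFittingSubgroup
  apply component_not_le_of_commutative K hKcomp
  rw [Subgroup.commutator_eq_bot_iff_le_centralizer]
  exact hKC.trans (Subgroup.centralizer_le hKF)

/-- **Bender / Fitting**: `C_G(F*(G)) ≤ F*(G)` for finite `G`. -/
theorem centralizer_generalizedFittingSubgroup_le [Finite G] :
    centralizer (generalizedFittingSubgroup G : Set G) ≤ generalizedFittingSubgroup G := by
  set C := centralizer (generalizedFittingSubgroup G : Set G) with hC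
  have hFsn : (generalizedFittingSubgroup G).Normal := by
    have h1 : (layer G).Normal := by
      unfold layer
      refine ⟨fun x hx g => ?_⟩
      have hmap : (sSup {K : Subgroup G | IsComponent K}).map (MulAut.conj g).toMonoidHom
          ≤ sSup {K : Subgroup G | IsComponent K} := by
        rw [Subgroup.map_le_iff_le_comap]
        apply sSup_le
        intro L hL
        rw [← Subgroup.map_le_iff_le_comap]
        apply le_sSup
        refine ⟨hL.1.map (MulAut.conj g).surjective, ?_⟩
        exact isQuasisimple_of_mulEquiv
          (L.equivMapOfInjective (MulAut.conj g).toMonoidHom (MulAut.conj g).injective) hL.2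
      exact hmap ⟨x, hx, rfl⟩
    have h2 : (fittingSubgroup G).Normal := Cfsg.Agent.Helper70.fittingSubgroup_normal G
    unfold generalizedFittingSubgroup
    infer_instance
  have hCn : C.Normal := inferInstance
  have hCF : C ≤ centralizer (fittingSubgroup G : Set G) :=
    Subgroup.centralizer_le fittingSubgroup_le_generalizedFittingSubgroup
  -- C is solvable
  obtain ⟨D, hDn, hDp, hDs⟩ := exists_perfect_core ↥C
  have hD' : D.map C.subtype = ⊥ := by
    apply perfect_subnormal_le_centralizer_eq_bot
    · exact (hDn.isSubnormal).trans' hCn.isSubnormal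
    · rw [← Subgroup.map_commutator, hDp]
    · rintro _ ⟨x, _, rfl⟩; exact x.2
  rw [Subgroup.map_eq_bot_iff_of_injective _ C.subtype_injective] at hD'
  have hCsolv : Group.IsSolvable ↥C := hDs hD'
  have := subnormal_solvable_le_fitting C hCn.isSubnormal hCF hCsolv
  exact (this.trans inf_le_right).trans fittingSubgroup_le_generalizedFittingSubgroup

end Cfsg.Agent.Helper21
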