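import Cfsg.Agent.Lib.Helper21.Quasisimple

/-!
# Components: basic theory (helper21)

Main results (all in namespace `Cfsg.Agent.Helper21`):
* `commutator_eq_bot_of_perfect_subnormal` (Lemma A): a perfect subnormal subgroup `L`
  normalizing `H` with `⁅L ⊓ H, L⁆ = ⊥` centralizes `H`.
* `component_le_or_commutator_eq_bot_of_le_normalizer` : component `L` normalizing `H`.
* `component_le_or_commutator_eq_bot` : component vs subnormal subgroup.
* `component_commutator_eq_bot_of_solvable`.
* `component_commutator_eq_bot_of_ne` : distinct components commute.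
-/

set_option autoImplicit false

namespace Cfsg.Agent.Helper21

open Subgroup
open scoped commutatorElement

variable {G : Type*} [Group G]

/-- if `A ⊴ B` then `⁅B, A⁆ ≤ A`. -/
theorem commutator_le_of_normal_subgroupOf {A B : Subgroup G} (hAB : A ≤ B)
    (hn : (A.subgroupOf B).Normal) : ⁅B, A⁆ ≤ A := by
  rw [Subgroup.normal_subgroupOf_iff_le_normalizer hAB] at hn
  rw [commutator_comm]
  exact le_normalizer_iff_commutator_le_left.1 hn

/-- iterated commutators `[H, L, L, ..., L]`. -/
def iterComm (H L : Subgroup G) : ℕ → Subgroup G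
  | 0 => H
  | (i + 1) => ⁅iterComm H L i, L⁆

/-- **Lemma A**: a perfect subnormal subgroup `L` normalizing `H` with `⁅L ⊓ H, L⁆ = ⊥`
centralizes `H`. -/
theorem commutator_eq_bot_of_perfect_subnormal (L H : Subgroup G) (hLsn : L.IsSubnormal)
    (hLp : ⁅L, L⁆ = L) (hn : L ≤ normalizer H) (hc : ⁅L ⊓ H, L⁆ = ⊥) : ⁅H, L⁆ = ⊥ := by
  obtain ⟨n, f, hmono, hnorm, hf0, hfn⟩ := hLsn.exists_chain
  have hHL : ⁅H, L⁆ ≤ H := le_normalizer_iff_commutator_le_left.1 hn
  -- Claim 1
  have c1 : ∀ i, iterComm H L i ≤ H := by
    intro i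
    induction i with
    | zero => exact le_rfl
    | succ i ih => exact (commutator_mono ih le_rfl).trans hHL
  -- Claim 2
  have c2 : ∀ i, i ≤ n → iterComm H L i ≤ f (n - i) := by
    intro i
    induction i with
    | zero => intro _; simp [hfn]
    | succ i ih =>
      intro hi
      have h1 : iterComm H L i ≤ f (n - i) := ih (by omega)
      have h2 : L ≤ f (n - (i + 1)) := hf0 ▸ hmono (Nat.zero_le _)
      have h3 : n - i = (n - (i + 1)) + 1 := by omega
      have h4 : ⁅f (n - i), f (n - (i + 1))⁆ ≤ f (n - (i + 1)) := by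
        rw [h3]
        exact commutator_le_of_normal_subgroupOf (hmono (Nat.le_succ _)) (hnorm _)
      exact (commutator_mono h1 h2).trans h4
  -- Claim 3
  have c3 : iterComm H L (n + 1) = ⊥ := by
    have h1 : iterComm H L n ≤ L ⊓ H := by
      refine le_inf ?_ (c1 n)
      have := c2 n le_rfl
      rwa [Nat.sub_self, hf0] at this
    exact le_bot_iff.1 ((commutator_mono h1 le_rfl).trans hc.le)
  -- Claim 4
  have c4 : ∀ i, iterComm H L (i + 2) = ⊥ → iterComm H L (i + 1) = ⊥ := by
    intro i hi
    have h2 : ⁅⁅iterComm H L i, L⁆, L⁆ = ⊥ := hi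
    have h1 : ⁅⁅L, iterComm H L i⁆, L⁆ = ⊥ := by rw [commutator_comm L]; exact h2
    have h3 := commutator_commutator_eq_bot_of_rotate h1 h2
    rw [hLp, commutator_comm] at h3
    exact h3
  have c5 : ∀ k, iterComm H L (k + 1) = ⊥ → iterComm H L 1 = ⊥ := by
    intro k
    induction k with
    | zero => exact id
    | succ k ih => exact fun h => ih (c4 k h)
  exact c5 n c3

/-- A component `L` normalizing a subgroup `H` is contained in `H` or centralizes it. -/
theorem component_le_or_commutator_eq_bot_of_le_normalizer (L H : Subgroup G)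
    (hL : IsComponent L) (hn : L ≤ normalizer H) : L ≤ H ∨ ⁅L, H⁆ = ⊥ := by
  obtain ⟨hsn, hq⟩ := hL
  have hnorm : ((L ⊓ H).subgroupOf L).Normal := by
    rw [Subgroup.normal_subgroupOf_iff_le_normalizer inf_le_left]
    intro x hx
    rw [Subgroup.mem_normalizer_iff]
    intro y
    have hxn := (Subgroup.mem_normalizer_iff.1 (hn hx)) y
    constructor
    · rintro ⟨hyL, hyH⟩
      exact ⟨L.mul_mem (L.mul_mem hx hyL) (L.inv_mem hx), hxn.1 hyH⟩
    · rintro ⟨hyL, hyH⟩
      refine ⟨?_, hxn.2 hyH⟩
      have : y = x⁻¹ * (x * y * x⁻¹) * x := by group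
      rw [this]
      exact L.mul_mem (L.mul_mem (L.inv_mem hx) hyL) hx
  rcases quasisimple_normal_eq_top_or_le_center hq ((L ⊓ H).subgroupOf L) with h1 | h2
  · left
    rw [Subgroup.subgroupOf_eq_top] at h1
    exact le_inf_iff.1 h1 |>.2
  · right
    rw [commutator_comm]
    apply commutator_eq_bot_of_perfect_subnormal L H hsn _ hn
    · rw [Subgroup.commutator_eq_bot_iff_le_centralizer]
      intro x hx y hy
      have h3 : (⟨x, hx.1⟩ : L) ∈ (L ⊓ H).subgroupOf L := by
        rw [Subgroup.mem_subgroupOf]; exact hx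
      have h4 := Subgroup.mem_center_iff.1 (h2 h3) ⟨y, hy⟩
      exact congrArg Subtype.val h4
    · have := hq.1
      exact Subgroup.commutator_eq_self

/-- A component and a subnormal subgroup: containment or commuting. -/
theorem component_le_or_commutator_eq_bot (L H : Subgroup G) (hL : IsComponent L)
    (hH : H.IsSubnormal) : L ≤ H ∨ ⁅L, H⁆ = ⊥ := by
  induction hH with
  | top => left; exact le_top
  | step H K hHK hK hN ih =>
    rcases ih with h1 | h2
    · apply component_le_or_commutator_eq_bot_of_le_normalizer L H hL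
      rw [Subgroup.normal_subgroupOf_iff_le_normalizer hHK] at hN
      exact h1.trans hN
    · right
      exact le_bot_iff.1 ((commutator_mono le_rfl hHK).trans h2.le)

/-- A component centralizes every solvable subgroup it normalizes. -/
theorem component_commutator_eq_bot_of_solvable (L H : Subgroup G) (hL : IsComponent L)
    (hsolv : Group.IsSolvable ↥H) (hinv : L ≤ normalizer H) : ⁅L, H⁆ = ⊥ := by
  rcases component_le_or_commutator_eq_bot_of_le_normalizer L H hL hinv with h1 | h2
  · exfalso
    have : Group.IsSolvable ↥L :=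
      Group.isSolvable_of_isSolvable_injective (Subgroup.inclusion_injective h1)
    exact quasisimple_not_isSolvable hL.2 this
  · exact h2

/-- a component is not commutative. -/
theorem component_not_le_of_commutative (L : Subgroup G) (hL : IsComponent L) :
    ⁅L, L⁆ ≠ ⊥ := by
  have := hL.2.1
  rw [Subgroup.commutator_eq_self]
  intro h
  have hnt := quasisimple_nontrivial hL.2
  rw [h] at hnt
  obtain ⟨x, y, hxy⟩ := hnt
  exact hxy (Subsingleton.elim _ _)

/-- Distinct components commute. -/
theorem component_commutator_eq_bot_of_ne (L₁ L₂ : Subgroup G) (h₁ : IsComponent L₁)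
    (h₂ : IsComponent L₂) (hne : L₁ ≠ L₂) : ⁅L₁, L₂⁆ = ⊥ := by
  rcases component_le_or_commutator_eq_bot L₁ L₂ h₁ h₂.1 with h12 | h
  · rcases component_le_or_commutator_eq_bot L₂ L₁ h₂ h₁.1 with h21 | h
    · exact absurd (le_antisymm h12 h21) hne
    · -- L₁ ≤ L₂ and [L₂, L₁] = 1: then [L₁, L₁] = 1, contradiction
      exfalso
      apply component_not_le_of_commutative L₁ h₁
      exact le_bot_iff.1 ((commutator_mono h12 le_rfl).trans h.le)
  · exact h

end Cfsg.Agent.Helper21
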