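import Mathlib
set_option autoImplicit false

namespace Cfsg.Agent.Helper21.UT

/-- the pure field content of (C3) -/
theorem h21_c3_field {F : Type*} [Field F] (σ : F →+* F) (lam c a β : F)
    (hl0 : lam ≠ 0) (hσl : σ lam = lam⁻¹) (h1 : lam - 1 ≠ 0) (h2 : lam + 1 ≠ 0)
    (h3 : 2 * lam + 1 ≠ 0) (h4 : lam + 2 ≠ 0) (hβ0 : β ≠ 0) (ha0 : a ≠ 0)
    (hσc : σ c = -c)
    (hbc : β * c * lam ^ 3 = -((lam - 1) ^ 2 * (2 * lam + 1)))
    (hσβ : σ β * (2 * lam + 1) = -(lam ^ 3 * (lam + 2)) * β)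
    (haa : a * σ a * (2 * lam + 1) = -(β * (1 - lam) * (1 + lam) ^ 3)) :
    (c / (1 - lam) + σ (c / (1 - lam)) +
        (-(a * (2 * lam + 1)) / ((lam + 1) * β)) * σ (-(a * (2 * lam + 1)) / ((lam + 1) * β)) = 0) ∧
    (lam * β + σ (lam * β) + (-(lam ^ 2 * a) / (1 + lam)) * σ (-(lam ^ 2 * a) / (1 + lam)) = 0) ∧
    (!![1, 0, 0; -(σ (-(a * (2 * lam + 1)) / ((lam + 1) * β))), 1, 0;
          c / (1 - lam), -(a * (2 * lam + 1)) / ((lam + 1) * β), 1] *
        !![1, -(lam ^ 2 * a) / (1 + lam), lam * β; 0, 1, -(σ (-(lam ^ 2 * a) / (1 + lam))); 0, 0, 1] =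
      !![lam, 0, 0; 0, lam⁻¹ ^ 2, 0; 0, 0, lam] * !![1, 0, 0; -(σ 0), 1, 0; c, 0, 1] *
        !![1, a, β; 0, 1, -(σ a); 0, 0, 1] *
        !![1, 0, 0; -(σ (-(a * (2 * lam + 1)) / ((lam + 1) * β))), 1, 0;
          c / (1 - lam), -(a * (2 * lam + 1)) / ((lam + 1) * β), 1]) := by
  have h1' : 1 - lam ≠ 0 := by intro h; apply h1; linear_combination -h
  have h2' : 1 + lam ≠ 0 := by rwa [add_comm]
  have h3a : 1 + lam * 2 ≠ 0 := by intro h; apply h3; linear_combination h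
  have h3b : 1 + 2 * lam ≠ 0 := by intro h; apply h3; linear_combination h
  have h3c : lam * 2 + 1 ≠ 0 := by intro h; apply h3; linear_combination h
  have h4a : 2 + lam ≠ 0 := by intro h; apply h4; linear_combination h
  have h1a : lam - 1 ≠ 0 := h1
  have h1b : -1 + lam ≠ 0 := by intro h; apply h1; linear_combination h
  have hc : c = -((lam - 1) ^ 2 * (2 * lam + 1)) / (β * lam ^ 3) := by
    rw [eq_div_iff (mul_ne_zero hβ0 (pow_ne_zero 3 hl0))]; linear_combination hbc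
  have hsb : σ β = -(lam ^ 3 * (lam + 2) * β) / (2 * lam + 1) := by
    rw [eq_div_iff h3]; linear_combination hσβ
  have hsa : σ a = -(β * (1 - lam) * (1 + lam) ^ 3) / (a * (2 * lam + 1)) := by
    rw [eq_div_iff (mul_ne_zero ha0 h3)]; linear_combination haa
  have e1 : σ (c / (1 - lam)) = -c / (1 - lam⁻¹) := by
    simp [map_div₀, hσc, hσl]
  have e2 : σ (-(a * (2 * lam + 1)) / ((lam + 1) * β)) =
      -(σ a * (2 * lam⁻¹ + 1)) / ((lam⁻¹ + 1) * σ β) := by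
    simp [map_div₀, hσl, map_ofNat]
  have e3 : σ (-(lam ^ 2 * a) / (1 + lam)) = -(lam⁻¹ ^ 2 * σ a) / (1 + lam⁻¹) := by
    simp [map_div₀, hσl]
  have e4 : σ (lam * β) = lam⁻¹ * σ β := by simp [hσl]
  have hli1 : lam⁻¹ + 1 ≠ 0 := by
    intro h; apply h2; field_simp at h; linear_combination h
  have hli1' : 1 + lam⁻¹ ≠ 0 := by rwa [add_comm]
  have hli2 : 1 - lam⁻¹ ≠ 0 := by
    intro h; apply h1; field_simp at h; linear_combination h
  refine ⟨?_, ?_, ?_⟩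
  · rw [e1, e2, hsa, hsb, hc]
    field_simp
    ring
  · rw [e3, e4, hsa, hsb]
    field_simp
    ring
  · rw [e2, e3, map_zero, hsa, hsb, hc]
    ext i j
    fin_cases i <;> fin_cases j <;>
      simp [Matrix.mul_apply, Fin.sum_univ_three] <;> field_simp <;> ring

end Cfsg.Agent.Helper21.UT
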