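import Mathlib
import Cfsg.Agent.Lib.Helper98.UT0
import Cfsg.Agent.Lib.Helper66.UTD2
import Cfsg.Agent.Lib.Helper83.UTR1
import Cfsg.Agent.Lib.Helper21.UTC3Core

/-!
# UT server (S2283), piece (C3): the key 3x3 identity, with the (D3) matrices as explicit hypotheses
(`conj_lower_of`); the VERBATIM `conj_lower` is in `UTC3V.lean` (needs a landed (D3)).
-/

set_option autoImplicit false
set_option quotPrecheck false
set_option linter.unusedSectionVars false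
set_option linter.unusedVariables false

namespace Cfsg.Agent.Helper21.UT

open Matrix Cfsg Cfsg.Agent.Helper13 Cfsg.Agent.Helper87.PsuA Cfsg.Agent.Helper87.PsuB0
  Cfsg.Agent.Helper98.UT

variable {F : Type*} [Field F] [Fintype F] {q : ℕ}

local notation "G" => ↥(Cfsg.SU 3 F q)
local notation "H" => Cfsg.hermForm 3 F q

variable (hF : Fintype.card F = q ^ 2) {b : Fin 3 → Fin 3 → F}

/-- (C3) with the three (D3) coordinate matrices as hypotheses (exactly the statements of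
`cm_yEl`, `cm_lEl`, `cm_dEl` of the sigs file). -/
theorem conj_lower_of {lam c a β θ : F} (hb : HB q b) (hR : Rel q lam c a β θ)
    (hy : ∀ a β : F, β + β ^ q + a * a ^ q = 0 →
      cm b (yEl hF b a β) = !![1, a, β; 0, 1, -(a ^ q); 0, 0, 1])
    (hl : ∀ a β : F, β + β ^ q + a * a ^ q = 0 →
      cm b (lEl hF b a β) = !![1, 0, 0; -(a ^ q), 1, 0; β, a, 1])
    (hd : ∀ d0 d1 d2 : F, d0 * d2 ^ q = 1 → d1 * d1 ^ q = 1 → d0 * d1 * d2 = 1 →
      cm b (dEl hF b d0 d1 d2) = !![d0, 0, 0; 0, d1, 0; 0, 0, d2]) :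
    lEl hF b (-(a * (2 * lam + 1)) / ((lam + 1) * β)) (c / (1 - lam)) *
        yEl hF b (-(lam ^ 2 * a) / (1 + lam)) (lam * β) *
        (lEl hF b (-(a * (2 * lam + 1)) / ((lam + 1) * β)) (c / (1 - lam)))⁻¹ =
      dEl hF b lam (lam⁻¹ ^ 2) lam * lEl hF b 0 c * yEl hF b a β := by
  obtain ⟨hl0, hlq, h1, h2, h3, h4, hβ0, hβq, haa, ha0⟩ := Cfsg.Agent.Helper83.UT.rel_facts hF hR
  have key := h21_c3_field (frobQ hF) lam c a β hl0 (by rw [frobQ_apply]; exact hlq) h1 h2 h3 h4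
    hβ0 ha0 (by rw [frobQ_apply]; linear_combination hR.cT) hR.bc
    (by rw [frobQ_apply]; exact hβq) (by rw [frobQ_apply]; exact haa)
  simp only [frobQ_apply] at key
  obtain ⟨k1, k2, k3⟩ := key
  have h11 : lam⁻¹ ^ 2 * (lam⁻¹ ^ 2) ^ q = 1 := by
    have h5 : (lam⁻¹ ^ 2) ^ q = lam ^ 2 := by
      rw [← pow_mul, mul_comm, pow_mul, inv_pow, hlq, inv_inv]
    rw [h5]
    field_simp
  have hdet : lam * lam⁻¹ ^ 2 * lam = 1 := by
    field_simp
  have hc0 : c + c ^ q + (0 : F) * 0 ^ q = 0 := by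
    rw [zero_mul, add_zero]; exact hR.cT
  rw [mul_inv_eq_iff_eq_mul]
  apply Cfsg.Agent.Helper66.UT.cm_inj hb
  rw [Cfsg.Agent.Helper66.UT.cm_mul hb, Cfsg.Agent.Helper66.UT.cm_mul hb,
    Cfsg.Agent.Helper66.UT.cm_mul hb, Cfsg.Agent.Helper66.UT.cm_mul hb,
    hl _ _ k1, hy _ _ k2, hd _ _ _ hR.lamN h11 hdet, hl 0 c hc0, hy a β hR.ab]
  exact k3

end Cfsg.Agent.Helper21.UT
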