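import Mathlib
import Cfsg.Agent.Lib.Helper30.CharP
import Cfsg.Agent.Lib.Helper22.Fitting

/-!
# Self-centralizing subnormal subgroups of `F*(X)` (helper21)

Let `X` be a finite group, `S ≤ F*(X)` subnormal with `C_{F*(X)}(S) ≤ S`.  Then
* `layer_le_of_selfCentralizing` : `E(X) ≤ S`;
* `pCore_inf_centralizer_le` : `C_{O_r(X)}(S ∩ O_r(X)) ≤ S`;
and for a `q`-subgroup `D` normalized by `S`:
* `layer_le_centralizer_of_le_normalizer` : `D` centralizes `E(X)`;
* `pCore_le_centralizer_of_le_normalizer` : `D` centralizes `O_r(X)` for `r ≠ q`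
  (Thompson `A × B`);
* `eq_bot_of_le_normalizer_of_not_dvd` : `D = 1` if `q` does not divide `|F(X)|`.
-/

set_option autoImplicit false

namespace Cfsg.Agent.Helper21

open Subgroup Cfsg

section Internal

variable {X : Type*} [Group X] [Finite X]

/-- The layer commutes with the Fitting subgroup. -/
theorem layer_le_centralizer_fittingSubgroup :
    layer X ≤ centralizer (fittingSubgroup X : Set X) := by
  have hn : (fittingSubgroup X).Normal := Helper70.fittingSubgroup_normal X
  have hs : Group.IsSolvable ↥(fittingSubgroup X) := Helper22.isSolvable_fittingSubgroup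
  have := Helper30.layer_commutator_eq_bot_of_solvable_normal (fittingSubgroup X) hs
  rwa [Subgroup.commutator_eq_bot_iff_le_centralizer] at this

/-- `O_r(X)` and `O_{r'}(X)` commute. -/
theorem pPrimeCore_le_centralizer_pCore (r : ℕ) [Fact r.Prime] :
    pPrimeCore r X ≤ centralizer (pCore r X : Set X) := by
  have h1 : (pCore r X).Normal := Helper70.pCore_normal r X
  have h2 : (pPrimeCore r X).Normal := pPrimeCore_normal r X
  have hdis : Disjoint (pPrimeCore r X) (pCore r X) := by
    apply Subgroup.disjoint_of_coprime_natCard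
    obtain ⟨n, hn⟩ := IsPGroup.iff_card.mp (Helper70.pCore_isPGroup (G := X) (p := r))
    rw [hn]
    exact Nat.Coprime.pow_right n (Helper30.pPrimeCore_coprime r)
  intro x hx
  rw [Subgroup.mem_centralizer_iff]
  intro y hy
  exact (Subgroup.commute_of_normal_of_disjoint _ _ h2 h1 hdis x y hx hy).symm.eq

/-- `O_r(X)` and `O_s(X)` commute for distinct primes. -/
theorem pCore_le_centralizer_pCore_of_ne (r s : ℕ) [Fact r.Prime] [Fact s.Prime] (hne : r ≠ s) :
    pCore r X ≤ centralizer (pCore s X : Set X) :=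
  (Helper22.pCore_le_pPrimeCore_of_ne hne).trans (pPrimeCore_le_centralizer_pCore s)

/-- `E(X) ≤ S` for a subnormal subgroup `S` of `F*(X)` with `C_{F*(X)}(S) ≤ S`. -/
theorem layer_le_of_selfCentralizing (S : Subgroup X) (hsn : S.IsSubnormal)
    (hSC : generalizedFittingSubgroup X ⊓ centralizer (S : Set X) ≤ S) : layer X ≤ S := by
  apply sSup_le
  intro K hK
  rcases component_le_or_commutator_eq_bot K S hK hsn with h | h
  · exact h
  · rw [Subgroup.commutator_eq_bot_iff_le_centralizer] at h
    have h1 : K ≤ generalizedFittingSubgroup X := (le_sSup hK).trans le_sup_left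
    exact (le_inf h1 h).trans hSC

/-- Decomposition of the elements of `S`. -/
theorem exists_mul_of_mem_selfCentralizing (S : Subgroup X)
    (hSF : S ≤ generalizedFittingSubgroup X) (hE : layer X ≤ S) {s : X} (hs : s ∈ S) :
    ∃ e ∈ layer X, ∃ n ∈ S ⊓ fittingSubgroup X, s = e * n := by
  have h1 : s ∈ layer X ⊔ fittingSubgroup X := hSF hs
  have h2 : fittingSubgroup X ≤ centralizer (layer X : Set X) :=
    Subgroup.le_centralizer_iff.1 layer_le_centralizer_fittingSubgroup
  obtain ⟨e, he, n, hn, rfl⟩ := mem_sup_of_le_centralizer h2 h1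
  refine ⟨e, he, n, Subgroup.mem_inf.2 ⟨?_, hn⟩, rfl⟩
  have : n = e⁻¹ * (e * n) := by group
  rw [this]
  exact S.mul_mem (S.inv_mem (hE he)) hs

/-- `C_{O_r(X)}(S ∩ O_r(X)) ≤ S`. -/
theorem pCore_inf_centralizer_le (S : Subgroup X) (hSF : S ≤ generalizedFittingSubgroup X)
    (hE : layer X ≤ S)
    (hSC : generalizedFittingSubgroup X ⊓ centralizer (S : Set X) ≤ S) (r : ℕ) [Fact r.Prime] :
    pCore r X ⊓ centralizer ((S ⊓ pCore r X : Subgroup X) : Set X) ≤ S := by
  intro c hc
  obtain ⟨hcR, hcT⟩ := Subgroup.mem_inf.1 hc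
  have hcN : c ∈ fittingSubgroup X := Helper70.pCore_le_fittingSubgroup hcR
  apply hSC
  refine Subgroup.mem_inf.2 ⟨(le_sup_right : fittingSubgroup X ≤ generalizedFittingSubgroup X) hcN, ?_⟩
  rw [Subgroup.mem_centralizer_iff]
  intro s hs
  obtain ⟨e, he, n, hn, rfl⟩ := exists_mul_of_mem_selfCentralizing S hSF hE hs
  obtain ⟨hnS, hnN⟩ := Subgroup.mem_inf.1 hn
  -- `c` commutes with `e`
  have hce : e * c = c * e :=
    (Subgroup.mem_centralizer_iff.1 (layer_le_centralizer_fittingSubgroup he) c hcN).symm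
  -- `c` commutes with `n`
  have hcn : n * c = c * n := by
    have h3 := Helper22.fittingSubgroup_le_pCore_sup_pPrimeCore (G := X) r hnN
    obtain ⟨a, ha, b, hb, rfl⟩ := mem_sup_of_le_centralizer (pPrimeCore_le_centralizer_pCore r) h3
    have hab : Commute a b :=
      (Subgroup.mem_centralizer_iff.1 (pPrimeCore_le_centralizer_pCore r hb) a ha)
    set m := Nat.card ↥(pPrimeCore r X) with hm
    have hbm : b ^ m = 1 := Helper24.pow_card_subgroup_eq_one _ b hb
    have ham : a ^ m ∈ S ⊓ pCore r X := by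
      refine Subgroup.mem_inf.2 ⟨?_, Subgroup.pow_mem _ ha m⟩
      have : (a * b) ^ m = a ^ m := by rw [hab.mul_pow, hbm, mul_one]
      rw [← this]
      exact Subgroup.pow_mem _ hnS m
    have hcam : Commute (a ^ m) c := Subgroup.mem_centralizer_iff.1 hcT _ ham
    -- `a` is a power of `a ^ m`
    have hcop : m.Coprime (orderOf a) := by
      obtain ⟨k, hk⟩ := (Helper70.pCore_isPGroup (G := X) (p := r)) ⟨a, ha⟩
      have hk' : a ^ r ^ k = 1 := by
        have := congrArg Subtype.val hk
        simpa using this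
      have hdvd : orderOf a ∣ r ^ k := orderOf_dvd_of_pow_eq_one hk'
      have h4 : m.Coprime (r ^ k) := Nat.Coprime.pow_right k (Helper30.pPrimeCore_coprime r)
      exact Nat.Coprime.coprime_dvd_right hdvd h4
    obtain ⟨j, hj⟩ := exists_pow_eq_self_of_coprime hcop
    have hca : Commute a c := by
      rw [← hj]
      exact hcam.pow_left j
    have hcb : Commute b c :=
      (Subgroup.mem_centralizer_iff.1 (pPrimeCore_le_centralizer_pCore r hb) c hcR).symm
    exact (hca.mul_left hcb).eq
  calc e * n * c = e * (n * c) := mul_assoc _ _ _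
    _ = e * (c * n) := by rw [hcn]
    _ = (e * c) * n := (mul_assoc _ _ _).symm
    _ = (c * e) * n := by rw [hce]
    _ = c * (e * n) := mul_assoc _ _ _

/-- A `q`-subgroup normalized by `S` centralizes the layer. -/
theorem layer_le_centralizer_of_le_normalizer (S : Subgroup X) (hE : layer X ≤ S)
    (D : Subgroup X) {q : ℕ} [Fact q.Prime] (hD : IsPGroup q D)
    (hSD : S ≤ normalizer (D : Set X)) : layer X ≤ centralizer (D : Set X) := by
  apply sSup_le
  intro K hK
  have hKS : K ≤ S := (le_sSup hK).trans hE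
  rcases component_le_or_commutator_eq_bot_of_le_normalizer K D hK (hKS.trans hSD) with h | h
  · exfalso
    have hsolv : Group.IsSolvable ↥D := Helper30.isSolvable_of_isPGroup hD
    exact Helper22.IsComponent.not_le_of_isSolvable hK hsolv h
  · rwa [Subgroup.commutator_eq_bot_iff_le_centralizer] at h

/-- A `q`-subgroup normalized by `S` centralizes `O_r(X)` for every prime `r ≠ q`. -/
theorem pCore_le_centralizer_of_le_normalizer (S : Subgroup X)
    (hSF : S ≤ generalizedFittingSubgroup X) (hE : layer X ≤ S)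
    (hSC : generalizedFittingSubgroup X ⊓ centralizer (S : Set X) ≤ S)
    (D : Subgroup X) {q : ℕ} [hq : Fact q.Prime] (hD : IsPGroup q D)
    (hSD : S ≤ normalizer (D : Set X)) (r : ℕ) [hr : Fact r.Prime] (hrq : r ≠ q) :
    pCore r X ≤ centralizer (D : Set X) := by
  have hRn : (pCore r X).Normal := Helper70.pCore_normal r X
  have hRp : IsPGroup r ↥(pCore r X) := Helper70.pCore_isPGroup
  set T : Subgroup X := S ⊓ pCore r X with hT
  have hTr : IsPGroup r ↥T := hRp.to_le inf_le_right
  have hdisj : D ⊓ pCore r X = ⊥ :=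
    (IsPGroup.disjoint_of_ne q r (Ne.symm hrq) _ _ hD hRp).eq_bot
  have hDT : ⁅D, T⁆ = ⊥ := by
    rw [eq_bot_iff, ← hdisj]
    apply le_inf
    · exact Helper24.commutator_le_of_le_normalizer D T (inf_le_left.trans hSD)
    · exact (Subgroup.commutator_mono le_top inf_le_right).trans (Subgroup.commutator_le_right ⊤ (pCore r X))
  have hTD : ⁅T, D⁆ = ⊥ := by rw [Subgroup.commutator_comm]; exact hDT
  have hcard : (Nat.card ↥D).Coprime r := by
    obtain ⟨n, hn⟩ := IsPGroup.iff_card.1 hD
    rw [hn]
    exact Nat.Coprime.pow_left n ((Nat.coprime_primes hq.out hr.out).2 (Ne.symm hrq))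
  have hTcD : T ≤ centralizer (D : Set X) := by
    rw [Subgroup.commutator_eq_bot_iff_le_centralizer] at hTD
    exact hTD
  have hntop : normalizer ((pCore r X : Subgroup X) : Set X) = ⊤ := Subgroup.normalizer_eq_top (pCore r X)
  have hC : pCore r X ⊓ centralizer (T : Set X) ≤ centralizer (D : Set X) := by
    intro c hc
    have h1 : c ∈ S := pCore_inf_centralizer_le S hSF hE hSC r hc
    exact hTcD (Subgroup.mem_inf.2 ⟨h1, (Subgroup.mem_inf.1 hc).1⟩)
  have := Helper30.thompson_AxB T D hTr hcard hTD (pCore r X) hRp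
    (by rw [hntop]; exact le_top) (by rw [hntop]; exact le_top) hC
  rwa [Subgroup.commutator_eq_bot_iff_le_centralizer] at this

/-- `F* ∩ C(F*)` lies in the Fitting subgroup. -/
theorem generalizedFittingSubgroup_inf_centralizer_le :
    generalizedFittingSubgroup X ⊓ centralizer (generalizedFittingSubgroup X : Set X) ≤
      fittingSubgroup X := by
  have hFn : (generalizedFittingSubgroup X).Normal := Helper29.generalizedFittingSubgroup_normal
  set Zf : Subgroup X :=
    generalizedFittingSubgroup X ⊓ centralizer (generalizedFittingSubgroup X : Set X) with hZf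
  have hZn : Zf.Normal := inferInstance
  have hZc : IsMulCommutative ↥Zf := by
    refine ⟨⟨fun a b => Subtype.ext ?_⟩⟩
    have ha := (Subgroup.mem_inf.1 a.2).2
    have hb := (Subgroup.mem_inf.1 b.2).1
    exact (Subgroup.mem_centralizer_iff.1 ha _ hb).symm
  have hZnil : Group.IsNilpotent ↥Zf := by
    let _ : CommGroup ↥Zf := { (inferInstance : Group ↥Zf) with mul_comm := fun a b => mul_comm' a b }
    exact CommGroup.isNilpotent
  exact le_sSup ⟨hZn, hZnil⟩

/-- A `q`-subgroup normalized by `S` is trivial if `q` does not divide `|F(X)|`. -/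
theorem eq_bot_of_le_normalizer_of_not_dvd (S : Subgroup X)
    (hSF : S ≤ generalizedFittingSubgroup X) (hsn : S.IsSubnormal)
    (hSC : generalizedFittingSubgroup X ⊓ centralizer (S : Set X) ≤ S)
    (D : Subgroup X) {q : ℕ} [hq : Fact q.Prime] (hD : IsPGroup q D)
    (hSD : S ≤ normalizer (D : Set X)) (hqN : ¬ q ∣ Nat.card ↥(fittingSubgroup X)) : D = ⊥ := by
  have hE := layer_le_of_selfCentralizing S hsn hSC
  have h1 := layer_le_centralizer_of_le_normalizer S hE D hD hSD
  -- a `q`-subgroup of `F(X)` is trivial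
  have key : ∀ Q : Subgroup X, IsPGroup q Q → Q ≤ fittingSubgroup X → Q = ⊥ := by
    intro Q hQ hQN
    obtain ⟨n, hn⟩ := IsPGroup.iff_card.1 hQ
    have hdvd : Nat.card ↥Q ∣ Nat.card ↥(fittingSubgroup X) := Subgroup.card_dvd_of_le hQN
    rcases Nat.eq_zero_or_pos n with rfl | hpos
    · rw [pow_zero] at hn
      exact Subgroup.card_eq_one.1 hn
    · exfalso
      apply hqN
      rw [hn] at hdvd
      exact (dvd_pow_self q hpos.ne').trans hdvd
  have hOq : pCore q X = ⊥ := key _ Helper70.pCore_isPGroup Helper70.pCore_le_fittingSubgroup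
  have h2 : fittingSubgroup X ≤ centralizer (D : Set X) := by
    rw [Helper22.fittingSubgroup_eq_iSup_pCore]
    apply iSup_le
    rintro ⟨r, hr⟩
    have := Fact.mk hr
    by_cases hrq : r = q
    · subst hrq
      show pCore r X ≤ _
      rw [hOq]; exact bot_le
    · exact pCore_le_centralizer_of_le_normalizer S hSF hE hSC D hD hSD r hrq
  have h3 : generalizedFittingSubgroup X ≤ centralizer (D : Set X) := sup_le h1 h2
  have h4 : D ≤ centralizer (generalizedFittingSubgroup X : Set X) :=
    Subgroup.le_centralizer_iff.1 h3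
  have h5 : D ≤ generalizedFittingSubgroup X :=
    h4.trans centralizer_generalizedFittingSubgroup_le
  exact key D hD ((le_inf h5 h4).trans generalizedFittingSubgroup_inf_centralizer_le)

/-- `O_p(X) ≠ 1` when `p` divides `|F(X)|`. -/
theorem pCore_ne_bot_of_dvd (p : ℕ) [hp : Fact p.Prime]
    (h : p ∣ Nat.card ↥(fittingSubgroup X)) : pCore p X ≠ ⊥ := by
  intro hbot
  have hle : fittingSubgroup X ≤ pPrimeCore p X := by
    rw [Helper22.fittingSubgroup_eq_iSup_pCore]
    apply iSup_le
    rintro ⟨r, hr⟩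
    have := Fact.mk hr
    by_cases hrp : r = p
    · subst hrp
      show pCore r X ≤ _
      rw [hbot]; exact bot_le
    · exact Helper22.pCore_le_pPrimeCore_of_ne hrp
  have hdvd : p ∣ Nat.card ↥(pPrimeCore p X) := h.trans (Subgroup.card_dvd_of_le hle)
  have hcop := Helper30.pPrimeCore_coprime (G := X) p
  have := Nat.Coprime.eq_one_of_dvd hcop.symm hdvd
  exact hp.out.one_lt.ne' this

/-- For `O_r(X) ≠ 1`, the subgroup `O_r(X) ∩ C(F*(X))` is nontrivial. -/
theorem pCore_inf_centralizer_ne_bot (r : ℕ) [Fact r.Prime] (hR : pCore r X ≠ ⊥) :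
    pCore r X ⊓ centralizer (generalizedFittingSubgroup X : Set X) ≠ ⊥ := by
  have hnt : Nontrivial ↥(pCore r X) := (Subgroup.nontrivial_iff_ne_bot _).2 hR
  have hRp : IsPGroup r ↥(pCore r X) := Helper70.pCore_isPGroup
  have hZnt : Nontrivial ↥(center ↥(pCore r X)) := hRp.center_nontrivial
  obtain ⟨z, hz⟩ := exists_ne (1 : ↥(center ↥(pCore r X)))
  have hzR : ((z : ↥(pCore r X)) : X) ∈ pCore r X := (z : ↥(pCore r X)).2
  have hzN : ((z : ↥(pCore r X)) : X) ∈ fittingSubgroup X := Helper70.pCore_le_fittingSubgroup hzR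
  set Cz : Subgroup X := centralizer ({((z : ↥(pCore r X)) : X)} : Set X) with hCz
  have h1 : layer X ≤ Cz := by
    intro e he
    rw [hCz, Subgroup.mem_centralizer_iff]
    intro g hg
    rw [Set.mem_singleton_iff] at hg
    subst hg
    exact (Subgroup.mem_centralizer_iff.1 (layer_le_centralizer_fittingSubgroup he) _ hzN)
  have h2 : fittingSubgroup X ≤ Cz := by
    rw [Helper22.fittingSubgroup_eq_iSup_pCore]
    apply iSup_le
    rintro ⟨s, hs⟩
    have := Fact.mk hs
    intro y hy
    rw [hCz, Subgroup.mem_centralizer_iff]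
    intro g hg
    rw [Set.mem_singleton_iff] at hg
    subst hg
    by_cases hsr : s = r
    · subst hsr
      have hy' : y ∈ pCore s X := hy
      have := Subgroup.mem_center_iff.1 z.2 ⟨y, hy'⟩
      have h3 := congrArg Subtype.val this
      simpa using h3.symm
    · have hy' : y ∈ pCore s X := hy
      exact (Subgroup.mem_centralizer_iff.1 (pCore_le_centralizer_pCore_of_ne s r hsr hy') _ hzR)
  have h3 : generalizedFittingSubgroup X ≤ Cz := sup_le h1 h2
  intro hbot
  have hmem : ((z : ↥(pCore r X)) : X) ∈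
      pCore r X ⊓ centralizer (generalizedFittingSubgroup X : Set X) := by
    refine Subgroup.mem_inf.2 ⟨hzR, ?_⟩
    rw [Subgroup.mem_centralizer_iff]
    intro h hh
    have := Subgroup.mem_centralizer_iff.1 (h3 hh) _ (Set.mem_singleton _)
    exact this.symm
  rw [hbot, Subgroup.mem_bot] at hmem
  apply hz
  apply Subtype.ext
  apply Subtype.ext
  simpa using hmem

/-- `O_r(X) ∩ C(F*(X)) ≤ S`. -/
theorem pCore_inf_centralizer_generalizedFittingSubgroup_le (S : Subgroup X)
    (hSF : S ≤ generalizedFittingSubgroup X)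
    (hSC : generalizedFittingSubgroup X ⊓ centralizer (S : Set X) ≤ S) (r : ℕ) [Fact r.Prime] :
    pCore r X ⊓ centralizer (generalizedFittingSubgroup X : Set X) ≤ S := by
  refine le_trans (le_inf ?_ ?_) hSC
  · exact inf_le_left.trans
      (Helper70.pCore_le_fittingSubgroup.trans (le_sup_right : _ ≤ generalizedFittingSubgroup X))
  · exact inf_le_right.trans (Subgroup.centralizer_le (by exact_mod_cast hSF))

/-- The `p'`-elements of `F*(X)` lie in `E(X) ⊔ ⨆_{r ≠ p} O_r(X)`. -/
theorem mem_layer_sup_of_coprime_orderOf (p : ℕ) [Fact p.Prime] {z : X}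
    (hz : z ∈ generalizedFittingSubgroup X) (hzp : (orderOf z).Coprime p) :
    z ∈ layer X ⊔ ⨆ r : {r : ℕ // r.Prime ∧ r ≠ p}, pCore (r : ℕ) X := by
  set M' : Subgroup X := ⨆ r : {r : ℕ // r.Prime ∧ r ≠ p}, pCore (r : ℕ) X with hM'
  set M : Subgroup X := layer X ⊔ M' with hM
  -- `F(X) ≤ M' ⊔ O_p(X)`
  have h1 : fittingSubgroup X ≤ M' ⊔ pCore p X := by
    rw [Helper22.fittingSubgroup_eq_iSup_pCore]
    apply iSup_le
    rintro ⟨r, hr⟩
    by_cases hrp : r = p
    · subst hrp; exact le_sup_right
    · exact le_trans (le_iSup (fun r : {r : ℕ // r.Prime ∧ r ≠ p} => pCore (r : ℕ) X) ⟨r, hr, hrp⟩)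
        le_sup_left
  have h2 : generalizedFittingSubgroup X ≤ M ⊔ pCore p X := by
    apply sup_le
    · exact le_sup_left.trans le_sup_left
    · exact h1.trans (sup_le_sup_right le_sup_right _)
  -- `O_p(X)` centralizes `M`
  have h3 : pCore p X ≤ centralizer (M : Set X) := by
    rw [Subgroup.le_centralizer_iff]
    apply sup_le
    · exact layer_le_centralizer_fittingSubgroup.trans
        (Subgroup.centralizer_le (by exact_mod_cast Helper70.pCore_le_fittingSubgroup))
    · apply iSup_le
      rintro ⟨r, hr, hrp⟩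
      have := Fact.mk hr
      exact pCore_le_centralizer_pCore_of_ne r p hrp
  obtain ⟨m, hm, o, ho, rfl⟩ := mem_sup_of_le_centralizer h3 (h2 hz)
  have hmo : Commute m o := (Subgroup.mem_centralizer_iff.1 (h3 ho) m hm)
  obtain ⟨k, hk⟩ := (Helper70.pCore_isPGroup (G := X) (p := p)) ⟨o, ho⟩
  have hk' : o ^ p ^ k = 1 := by
    have := congrArg Subtype.val hk
    simpa using this
  have h4 : (m * o) ^ p ^ k ∈ M := by
    rw [hmo.mul_pow, hk', mul_one]
    exact Subgroup.pow_mem _ hm _
  have hcop : (p ^ k).Coprime (orderOf (m * o)) := (Nat.Coprime.pow_right k hzp).symm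
  obtain ⟨j, hj⟩ := exists_pow_eq_self_of_coprime hcop
  rw [← hj]
  exact Subgroup.pow_mem _ h4 j

end Internal

end Cfsg.Agent.Helper21
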