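import Mathlib
import Cfsg.Agent.Lib.Helper30.CharP
import Cfsg.Agent.Lib.Helper54.PConstrained

/-!
# Characteristic `p` for centralizers of `p`-subgroups (helper21)

* `isCharP_iff_isPGroup` : `F*(X) = O_p(X)` iff `F*(X)` is a `p`-group;
* `isCharP_iff_centralizer_le` : `F*(X) = O_p(X)` iff `C_X(O_p(X)) ≤ O_p(X)`
  (links `Helper30.IsCharP` and `Helper54.IsCharP`);
* `isCharP_of_normal_of_isPGroup_quotient` : if `N ⊴ Y` has characteristic `p` and `Y / N` is a
  `p`-group then `Y` has characteristic `p`;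
* `isCharP_centralizer_of_le` : `V ≤ U` `p`-subgroups of `G`, `C_G(V)` of characteristic `p`
  implies `C_G(U)` of characteristic `p`.
-/

set_option autoImplicit false

namespace Cfsg.Agent.Helper21

open Subgroup Cfsg

/-- `F*(X) = O_p(X)` iff `F*(X)` is a `p`-group. -/
theorem isCharP_iff_isPGroup {X : Type*} [Group X] [Finite X] {p : ℕ} [Fact p.Prime] :
    Helper30.IsCharP p X ↔ IsPGroup p ↥(generalizedFittingSubgroup X) := by
  constructor
  · intro h
    unfold Helper30.IsCharP at h
    rw [h]
    exact Helper70.pCore_isPGroup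
  · intro h
    unfold Helper30.IsCharP
    have hn : (generalizedFittingSubgroup X).Normal := Helper29.generalizedFittingSubgroup_normal
    apply le_antisymm
    · exact Helper70.le_pCore _ h
    · exact Helper70.pCore_le_fittingSubgroup.trans le_sup_right

/-- `F*(X) = O_p(X)` iff `C_X(O_p(X)) ≤ O_p(X)`. -/
theorem isCharP_iff_centralizer_le {X : Type*} [Group X] [Finite X] {p : ℕ} [Fact p.Prime] :
    Helper30.IsCharP p X ↔ Helper54.IsCharP p X := by
  constructor
  · intro h
    exact h.centralizer_le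
  · intro h
    have hQn : (pCore p X).Normal := Helper70.pCore_normal p X
    have hO : pPrimeCore p X = ⊥ := Helper54.IsCharP.pPrimeCore_eq_bot h
    have hsolv : Group.IsSolvable ↥(pCore p X) :=
      Helper30.isSolvable_of_isPGroup (p := p) Helper70.pCore_isPGroup
    have hcomm := Helper30.layer_commutator_eq_bot_of_solvable_normal (pCore p X) hsolv
    rw [Subgroup.commutator_eq_bot_iff_le_centralizer] at hcomm
    have hle : layer X ≤ pCore p X := hcomm.trans h
    have hEp : IsPGroup p ↥(layer X) := (Helper70.pCore_isPGroup (G := X)).to_le hle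
    have hE : layer X = ⊥ := Helper30.eq_bot_of_isPGroup_of_perfect (layer X) hEp
    exact Helper30.generalizedFittingSubgroup_eq_pCore_of p hO hE

/-- If `N ⊴ Y` has characteristic `p` and `Y / N` is a `p`-group, then `Y` has
characteristic `p`. -/
theorem isCharP_of_normal_of_isPGroup_quotient {Y : Type*} [Group Y] [Finite Y] {p : ℕ}
    [Fact p.Prime] (N : Subgroup Y) [hN : N.Normal] (hNc : Helper54.IsCharP p ↥N)
    (hq : IsPGroup p (Y ⧸ N)) : Helper54.IsCharP p Y := by
  have hQn : (pCore p Y).Normal := Helper70.pCore_normal p Y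
  have hRn : (pCore p ↥N).Normal := Helper70.pCore_normal p ↥N
  have hDn : (centralizer (pCore p Y : Set Y)).Normal := inferInstance
  -- `O_p(N) ≤ O_p(Y)`
  have h1 : (pCore p ↥N).map N.subtype ≤ pCore p Y := by
    apply Helper62.subnormal_pGroup_le_pCore
    · exact hRn.isSubnormal.trans' hN.isSubnormal
    · exact (Helper70.pCore_isPGroup).map _
  -- the centralizer of `O_p(Y)` is a `p`-group
  have hDp : IsPGroup p ↥(centralizer (pCore p Y : Set Y)) := by
    intro d
    obtain ⟨k, hk⟩ := hq (QuotientGroup.mk (d : Y))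
    rw [← QuotientGroup.mk_pow, QuotientGroup.eq_one_iff] at hk
    -- `n = d^(p^k) ∈ N` centralizes `O_p(N)`
    have hn : (⟨(d : Y) ^ p ^ k, hk⟩ : ↥N) ∈ centralizer ((pCore p ↥N : Subgroup ↥N) : Set ↥N) := by
      rw [Subgroup.mem_centralizer_iff]
      intro r hr
      have hrQ : (r : Y) ∈ pCore p Y := h1 ⟨r, hr, rfl⟩
      have hd : (d : Y) ^ p ^ k ∈ centralizer (pCore p Y : Set Y) := Subgroup.pow_mem _ d.2 _
      have := (Subgroup.mem_centralizer_iff.mp hd) (r : Y) hrQ
      exact Subtype.ext this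
    have hn2 : (⟨(d : Y) ^ p ^ k, hk⟩ : ↥N) ∈ pCore p ↥N := hNc hn
    obtain ⟨j, hj⟩ := (Helper70.pCore_isPGroup (G := ↥N) (p := p)) ⟨_, hn2⟩
    refine ⟨k + j, ?_⟩
    have hj' : ((d : Y) ^ p ^ k) ^ p ^ j = 1 := by
      have := congrArg (fun z : ↥(pCore p ↥N) => ((z : ↥N) : Y)) hj
      simpa using this
    apply Subtype.ext
    rw [Subgroup.coe_pow, pow_add, pow_mul, hj', Subgroup.coe_one]
  exact Helper70.le_pCore _ hDp

/-- The normalizer of a subgroup normalizes its centralizer. -/
theorem normalizer_le_normalizer_centralizer' {G : Type*} [Group G] (V : Subgroup G) :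
    normalizer (V : Set G) ≤ normalizer ((centralizer (V : Set G) : Subgroup G) : Set G) := by
  intro g hg
  have key : ∀ g : G, g ∈ normalizer (V : Set G) → ∀ x ∈ centralizer (V : Set G),
      g * x * g⁻¹ ∈ centralizer (V : Set G) := by
    intro g hg x hx
    rw [Subgroup.mem_centralizer_iff]
    intro v hv
    have hv' : g⁻¹ * v * g⁻¹⁻¹ ∈ V :=
      (Subgroup.mem_normalizer_iff.1 (Subgroup.inv_mem _ hg) v).1 hv
    rw [inv_inv] at hv'
    have hc := (Subgroup.mem_centralizer_iff.1 hx) _ hv'
    calc v * (g * x * g⁻¹) = g * ((g⁻¹ * v * g) * x) * g⁻¹ := by group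
      _ = g * (x * (g⁻¹ * v * g)) * g⁻¹ := by rw [hc]
      _ = g * x * g⁻¹ * v := by group
  rw [Subgroup.mem_normalizer_iff]
  intro x
  constructor
  · exact key g hg x
  · intro hx
    have := key g⁻¹ (Subgroup.inv_mem _ hg) _ hx
    rw [inv_inv] at this
    have h2 : g⁻¹ * (g * x * g⁻¹) * g = x := by group
    rwa [h2] at this

/-- **Normal case**: `V ⊴ U` `p`-subgroups of `G`; if `C_G(V)` has characteristic `p` then so does
`C_G(U)`. -/
theorem isCharP_centralizer_of_le_of_le_normalizer {G : Type*} [Group G] [Finite G] {p : ℕ}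
    [Fact p.Prime] (U V : Subgroup G) (hVU : V ≤ U) (hUN : U ≤ normalizer (V : Set G))
    (hU : IsPGroup p U) (hV : Helper54.IsCharP p ↥(centralizer (V : Set G))) :
    Helper54.IsCharP p ↥(centralizer (U : Set G)) := by
  set X : Subgroup G := centralizer (V : Set G) with hX
  set Y : Subgroup G := X ⊔ U with hY
  have hXY : X ≤ Y := le_sup_left
  have hUY : U ≤ Y := le_sup_right
  have hUX : U ≤ normalizer (X : Set G) := hUN.trans (normalizer_le_normalizer_centralizer' V)
  have hYX : Y ≤ normalizer (X : Set G) := sup_le le_normalizer hUX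
  have hXn : (X.subgroupOf Y).Normal := (Subgroup.normal_subgroupOf_iff_le_normalizer hXY).2 hYX
  -- `X.subgroupOf Y` has characteristic `p`
  have h1 : Helper54.IsCharP p ↥(X.subgroupOf Y) :=
    Helper54.IsCharP.of_mulEquiv (Subgroup.subgroupOfEquivOfLe hXY).symm hV
  -- the quotient is a `p`-group
  have hq : IsPGroup p (↥Y ⧸ X.subgroupOf Y) := by
    have htop : X.subgroupOf Y ⊔ U.subgroupOf Y = ⊤ := by
      rw [← Subgroup.subgroupOf_sup hXY hUY]
      exact Subgroup.subgroupOf_self Y
    have hmap : (U.subgroupOf Y).map (QuotientGroup.mk' (X.subgroupOf Y)) = ⊤ := by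
      have h2 : (X.subgroupOf Y ⊔ U.subgroupOf Y).map (QuotientGroup.mk' (X.subgroupOf Y)) = ⊤ := by
        rw [htop, ← MonoidHom.range_eq_map, MonoidHom.range_eq_top]
        exact QuotientGroup.mk'_surjective _
      rw [Subgroup.map_sup] at h2
      have h3 : (X.subgroupOf Y).map (QuotientGroup.mk' (X.subgroupOf Y)) = ⊥ := by
        rw [Subgroup.map_eq_bot_iff, QuotientGroup.ker_mk']
      rwa [h3, bot_sup_eq] at h2
    have hU' : IsPGroup p ↥(U.subgroupOf Y) :=
      hU.of_equiv (Subgroup.subgroupOfEquivOfLe hUY).symm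
    intro q
    have hqm : q ∈ (U.subgroupOf Y).map (QuotientGroup.mk' (X.subgroupOf Y)) := by
      rw [hmap]; exact Subgroup.mem_top q
    obtain ⟨u, hu, rfl⟩ := hqm
    obtain ⟨k, hk⟩ := hU' ⟨u, hu⟩
    refine ⟨k, ?_⟩
    rw [← map_pow]
    have : u ^ p ^ k = 1 := by
      have := congrArg Subtype.val hk
      simpa using this
    rw [this, map_one]
  have hYc : Helper54.IsCharP p ↥Y := isCharP_of_normal_of_isPGroup_quotient (X.subgroupOf Y) h1 hq
  -- the centralizer of `U` in `Y`
  have hU' : IsPGroup p ↥(U.subgroupOf Y) :=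
    hU.of_equiv (Subgroup.subgroupOfEquivOfLe hUY).symm
  have h4 := Helper54.isCharP_centralizer hYc (U.subgroupOf Y) hU'
  have hCU : centralizer (U : Set G) ≤ Y := by
    refine le_trans ?_ hXY
    exact Subgroup.centralizer_le (by exact_mod_cast hVU)
  have heq : centralizer ((U.subgroupOf Y : Subgroup ↥Y) : Set ↥Y) =
      (centralizer (U : Set G)).subgroupOf Y := by
    ext z
    rw [Subgroup.mem_subgroupOf, Subgroup.mem_centralizer_iff, Subgroup.mem_centralizer_iff]
    constructor
    · intro h u hu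
      have := h ⟨u, hUY hu⟩ (Subgroup.mem_subgroupOf.2 hu)
      exact congrArg Subtype.val this
    · intro h u hu
      exact Subtype.ext (h (u : G) (Subgroup.mem_subgroupOf.1 hu))
  exact Helper54.IsCharP.of_mulEquiv
    ((MulEquiv.subgroupCongr heq).trans (Subgroup.subgroupOfEquivOfLe hCU)) h4

/-- `V ≤ U` `p`-subgroups of `G`; if `C_G(V)` has characteristic `p` then so does `C_G(U)`. -/
theorem isCharP_centralizer_of_le {G : Type*} [Group G] [Finite G] {p : ℕ} [Fact p.Prime]
    (U : Subgroup G) (hU : IsPGroup p U) (V : Subgroup G) :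
    V ≤ U → Helper54.IsCharP p ↥(centralizer (V : Set G)) →
      Helper54.IsCharP p ↥(centralizer (U : Set G)) := by
  induction V using WellFoundedGT.induction with
  | ind V ih =>
    intro hVU hV
    by_cases hVeq : V = U
    · subst hVeq; exact hV
    · have hnil : Group.IsNilpotent ↥U := hU.isNilpotent
      have hlt : V.subgroupOf U < ⊤ :=
        lt_top_iff_ne_top.2 (fun h => hVeq (le_antisymm hVU (Subgroup.subgroupOf_eq_top.1 h)))
      have hnc := normalizerCondition_of_isNilpotent (G := ↥U) (V.subgroupOf U) hlt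
      set V₁ : Subgroup G :=
        (normalizer ((V.subgroupOf U : Subgroup ↥U) : Set ↥U)).map U.subtype with hV₁
      have hVV₁ : V < V₁ := by
        have := (Subgroup.map_lt_map_iff_of_injective U.subtype_injective).2 hnc
        rwa [Subgroup.map_subgroupOf_eq_of_le hVU] at this
      have hV₁U : V₁ ≤ U := Subgroup.map_subtype_le _
      have hV₁N : V₁ ≤ normalizer (V : Set G) := by
        rintro _ ⟨g, hg, rfl⟩
        rw [Subgroup.mem_normalizer_iff]
        intro v
        constructor
        · intro hv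
          have h1 := (Subgroup.mem_normalizer_iff.1 hg ⟨v, hVU hv⟩).1 (Subgroup.mem_subgroupOf.2 hv)
          exact Subgroup.mem_subgroupOf.1 h1
        · intro hv
          have hvU : v ∈ U := by
            have h2 : v = (g : G)⁻¹ * ((g : G) * v * (g : G)⁻¹) * (g : G) := by group
            rw [h2]
            exact U.mul_mem (U.mul_mem (U.inv_mem g.2) (hVU hv)) g.2
          have h1 := (Subgroup.mem_normalizer_iff.1 hg ⟨v, hvU⟩).2 (Subgroup.mem_subgroupOf.2 hv)
          exact Subgroup.mem_subgroupOf.1 h1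
      have hV₁p : IsPGroup p V₁ := hU.to_le hV₁U
      have h1 := isCharP_centralizer_of_le_of_le_normalizer V₁ V hVV₁.le hV₁N hV₁p hV
      exact ih V₁ hVV₁ hV₁U h1

end Cfsg.Agent.Helper21
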