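import Mathlib
import Cfsg.Agent.Lib.Helper93.RU0
import Cfsg.Agent.Lib.Helper5.SL

set_option autoImplicit false

namespace Cfsg.Agent.Helper21.RU

open Matrix Cfsg.Agent.Helper93.RU

variable {F : Type*} [Field F] {m : ℕ}

theorem h21_tvM_single (i j : Fin (m + 3)) (c : F) :
    tvM (eV i) (c • eV j) = (1 : Matrix (Fin (m + 3)) (Fin (m + 3)) F) + Matrix.single i j c := by
  unfold tvM eV
  congr 1
  ext a b
  simp only [Matrix.vecMulVec_apply, Pi.smul_apply, Pi.single_apply, smul_eq_mul, Matrix.single_apply]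
  rcases eq_or_ne a i with rfl | h1
  · rcases eq_or_ne b j with rfl | h2
    · simp
    · simp [h2, h2.symm]
  · simp [h1, h1.symm]

/-- local copy of (A6) -/
theorem h21_transvection_eq (i j : Fin (m + 3)) (hij : i ≠ j) (c : F) :
    (Matrix.SpecialLinearGroup.transvection hij c : SLm m F) = tvS (eV i) (c • eV j) := by
  have hM : tvM (F := F) (eV i) (c • eV j) = Matrix.transvection i j c := by
    rw [h21_tvM_single]; rfl
  have hdet : (tvM (F := F) (eV i) (c • eV j)).det = 1 := by
    rw [hM]; exact Matrix.det_transvection_of_ne i j hij c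
  have htv : tvS (F := F) (eV i) (c • eV j) = ⟨tvM (eV i) (c • eV j), hdet⟩ := dif_pos hdet
  rw [htv]
  apply Subtype.ext
  show Matrix.transvection i j c = tvM (eV i) (c • eV j)
  exact hM.symm

/-- (E1) (A6) + `Cfsg.Agent.Helper5.transvection_induction` with `P := (· ∈ H)`. -/
theorem eq_top_of_W (H : Subgroup (SLm m F)) (h : ∀ k : Fin (m + 3), eV k ∈ Wset H) : H = ⊤ := by
  rw [eq_top_iff]
  intro A _
  haveI : Nontrivial (Fin (m + 3)) := ⟨⟨0, 1, by
    intro h01
    have := congrArg Fin.val h01
    simp at this⟩⟩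
  refine Cfsg.Agent.Helper5.transvection_induction (fun B => B ∈ H) ?_ (fun A B hA hB => mul_mem hA hB) A
  intro i j hij c
  show (Matrix.SpecialLinearGroup.transvection hij c : SLm m F) ∈ H
  rw [h21_transvection_eq i j hij c]
  apply h i
  unfold eV
  rw [smul_dotProduct, single_dotProduct, one_mul, Pi.single_apply, if_neg (Ne.symm hij), smul_zero]

end Cfsg.Agent.Helper21.RU
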