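import Mathlib
import Cfsg.Agent.Lib.Helper14.SPIDefs

/-!
# SPI (PERMA), helper14's server for S5961
-/

set_option autoImplicit false

namespace Cfsg.Agent.Helper21.SPI

open Module Polynomial Cfsg.Agent.Helper14.SPI

/-- images of a member of the family under powers of `x` -/
theorem h21_map_pow {F V : Type*} [Field F] [AddCommGroup V] [Module F V]
    (x : V →ₗ[F] V) {t : ℕ} (D : Fin t → Submodule F V) (σ : Equiv.Perm (Fin t))
    (hσ : ∀ j, (D j).map x = D (σ j)) (m : ℕ) (j : Fin t) :
    (D j).map (x ^ m) = D ((σ ^ m) j) := by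
  induction m with
  | zero => simp [Module.End.one_eq_id]
  | succ m ih =>
    rw [pow_succ', Module.End.mul_eq_comp, Submodule.map_comp, ih, hσ, pow_succ', Equiv.Perm.mul_apply]

/-- a non-fixed point of `σ` with `σ ^ r` fixing it (`r` prime) has `r` distinct images -/
theorem h21_pow_ne {t : ℕ} (σ : Equiv.Perm (Fin t)) (r : ℕ) [hr : Fact r.Prime] (j : Fin t)
    (hj : σ j ≠ j) (hr' : (σ ^ r) j = j) (m : ℕ) (hm0 : 0 < m) (hmr : m < r) : (σ ^ m) j ≠ j := by
  intro h
  have h1 : Function.IsPeriodicPt σ r j := by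
    unfold Function.IsPeriodicPt Function.IsFixedPt
    rw [Equiv.Perm.iterate_eq_pow]; exact hr'
  have h2 : Function.IsPeriodicPt σ m j := by
    unfold Function.IsPeriodicPt Function.IsFixedPt
    rw [Equiv.Perm.iterate_eq_pow]; exact h
  have hd1 := h1.minimalPeriod_dvd
  have hd2 := h2.minimalPeriod_dvd
  rcases (Nat.dvd_prime hr.out).1 hd1 with h3 | h3
  · rw [Function.minimalPeriod_eq_one_iff_isFixedPt] at h3
    exact hj h3
  · rw [h3] at hd2
    have := Nat.le_of_dvd hm0 hd2
    omega

/-- the members of an independent family of nonzero-dimensional subspaces are distinct and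
`σ ^ r` is trivial -/
theorem h21_pow_r {F V : Type*} [Field F] [AddCommGroup V] [Module F V]
    [FiniteDimensional F V] (x : V →ₗ[F] V) (r : ℕ) (hxr : x ^ r = 1)
    {t : ℕ} (a : ℕ) (ha : 0 < a) (D : Fin t → Submodule F V) (hDa : ∀ j, finrank F (D j) = a)
    (hind : iSupIndep D) (σ : Equiv.Perm (Fin t)) (hσ : ∀ j, (D j).map x = D (σ j)) (j : Fin t) :
    (σ ^ r) j = j := by
  have hne : ∀ i, D i ≠ ⊥ := by
    intro i h
    have := hDa i
    rw [h, finrank_bot] at this
    omega
  have hinj := hind.injective hne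
  apply hinj
  rw [← h21_map_pow x D σ hσ r j, hxr, Module.End.one_eq_id, Submodule.map_id]

/-- (PERMA) if `σ ≠ 1` some `j` has `r` distinct images, and `v ↦ ∑_{m<r} x^m v` embeds `D j` in
the fixed space. -/
theorem perm_fixed_ge {F V : Type*} [Field F] [AddCommGroup V] [Module F V]
    [FiniteDimensional F V] (x : V →ₗ[F] V) (r : ℕ) [Fact r.Prime] (hxr : x ^ r = 1)
    {t : ℕ} (a : ℕ) (ha : 0 < a) (D : Fin t → Submodule F V) (hDa : ∀ j, finrank F (D j) = a)
    (hind : iSupIndep D) (σ : Equiv.Perm (Fin t)) (hσ : ∀ j, (D j).map x = D (σ j))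
    (hne : σ ≠ 1) :
    a ≤ finrank F (LinearMap.ker (x - 1)) := by
  classical
  obtain ⟨j, hj⟩ : ∃ j, σ j ≠ j := by
    by_contra hc
    push Not at hc
    exact hne (Equiv.ext hc)
  have hrj := h21_pow_r x r hxr a ha D hDa hind σ hσ j
  have hpne := h21_pow_ne σ r j hj hrj
  set N : V →ₗ[F] V := ∑ m ∈ Finset.range r, x ^ m with hN
  have hNker : ∀ v, N v ∈ LinearMap.ker (x - 1) := by
    intro v
    rw [LinearMap.mem_ker]
    have h1 : (x - 1) * N = x ^ r - 1 := mul_geom_sum x r
    have h2 : ((x - 1) * N) v = 0 := by rw [h1, hxr]; simp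
    exact h2
  -- injectivity of N on D j
  have hinj : ∀ v ∈ D j, N v = 0 → v = 0 := by
    intro v hv hNv
    have hr0 : 0 < r := (Fact.out : r.Prime).pos
    have hsplit : N v = v + ∑ m ∈ Finset.Ico 1 r, (x ^ m) v := by
      rw [hN, LinearMap.sum_apply, Finset.range_eq_Ico, Finset.sum_eq_sum_Ico_succ_bot hr0]
      simp
    have hmem : ∑ m ∈ Finset.Ico 1 r, (x ^ m) v ∈ ⨆ (k : Fin t) (_ : k ≠ j), D k := by
      apply Submodule.sum_mem
      intro m hm
      rw [Finset.mem_Ico] at hm
      have hk : (σ ^ m) j ≠ j := hpne m (by omega) hm.2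
      have h1 : (x ^ m) v ∈ D ((σ ^ m) j) := by
        rw [← h21_map_pow x D σ hσ m j]
        exact Submodule.mem_map_of_mem hv
      exact Submodule.mem_iSup_of_mem ((σ ^ m) j) (Submodule.mem_iSup_of_mem hk h1)
    have hv2 : v ∈ ⨆ (k : Fin t) (_ : k ≠ j), D k := by
      have : v = -∑ m ∈ Finset.Ico 1 r, (x ^ m) v := by
        rw [hsplit] at hNv
        exact eq_neg_of_add_eq_zero_left hNv
      rw [this]
      exact Submodule.neg_mem _ hmem
    have hdisj := hind j
    exact (Submodule.disjoint_def.1 hdisj) v hv hv2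
  -- the restricted map
  let f : D j →ₗ[F] LinearMap.ker (x - 1) :=
    (N.domRestrict (D j)).codRestrict (LinearMap.ker (x - 1)) (fun v => hNker v)
  have hf : Function.Injective f := by
    rw [← LinearMap.ker_eq_bot, LinearMap.ker_eq_bot']
    intro v hv
    have h1 : N (v : V) = 0 := by
      have h0 : ((f v : LinearMap.ker (x - 1)) : V) = 0 := by rw [hv]; rfl
      exact h0
    exact Subtype.ext (hinj v v.2 h1)
  have := LinearMap.finrank_le_finrank_of_injective hf
  rw [hDa j] at this
  exact this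

end Cfsg.Agent.Helper21.SPI
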