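import Mathlib
import Cfsg.Agent.Lib.Helper14.SPIDefs
import Cfsg.Agent.Lib.Helper21.SPIPERMA

/-!
# SPI (PERMB), helper14's server for S5961
-/

set_option autoImplicit false

namespace Cfsg.Agent.Helper21.SPI

open Module Polynomial Cfsg.Agent.Helper14.SPI

/-- (PERMB) if `σ ≠ 1` the sum of `r - 1` consecutive members of an `r`-cycle meets the fixed space
trivially. -/
theorem perm_fixed_le {F V : Type*} [Field F] [AddCommGroup V] [Module F V]
    [FiniteDimensional F V] (x : V →ₗ[F] V) (r : ℕ) [Fact r.Prime] (hxr : x ^ r = 1)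
    {t : ℕ} (a : ℕ) (ha : 0 < a) (D : Fin t → Submodule F V) (hDa : ∀ j, finrank F (D j) = a)
    (hind : iSupIndep D) (σ : Equiv.Perm (Fin t)) (hσ : ∀ j, (D j).map x = D (σ j))
    (hne : σ ≠ 1) :
    finrank F (LinearMap.ker (x - 1)) + (r - 1) * a ≤ finrank F V := by
  classical
  obtain ⟨j, hj⟩ : ∃ j, σ j ≠ j := by
    by_contra hc
    push Not at hc
    exact hne (Equiv.ext hc)
  have hrj := h21_pow_r x r hxr a ha D hDa hind σ hσ j
  have hpne := h21_pow_ne σ r j hj hrj
  have hr2 : 2 ≤ r := (Fact.out : r.Prime).two_le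
  -- the cycle
  set jm : ℕ → Fin t := fun m => (σ ^ m) j with hjm
  have hjs : ∀ m, σ (jm m) = jm (m + 1) := by
    intro m
    simp only [hjm]
    rw [pow_succ', Equiv.Perm.mul_apply]
  have hmapD : ∀ m, (D (jm m)).map x = D (jm (m + 1)) := fun m => by rw [hσ, hjs]
  have hdist : ∀ k m, k < m → m < r → jm m ≠ jm k := by
    intro k m hkm hmr h
    have h1 : (σ ^ (m - k)) j = j := by
      have h2 : (σ ^ m) j = (σ ^ k) j := h
      have h3 : σ ^ m = σ ^ k * σ ^ (m - k) := by rw [← pow_add]; congr 1; omega
      rw [h3, Equiv.Perm.mul_apply] at h2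
      exact (σ ^ k).injective h2
    exact hpne (m - k) (by omega) (by omega) h1
  -- the partial sums
  set A : ℕ → Submodule F V := fun k => ⨆ m ∈ Finset.Ico k (r - 1), D (jm m) with hA
  have hAstep : ∀ k, k < r - 1 → A k = D (jm k) ⊔ A (k + 1) := by
    intro k hk
    simp only [hA]
    rw [← Finset.insert_Ico_add_one_left_eq_Ico hk, Finset.iSup_insert]
  have hAcompl : ∀ k, A (k + 1) ≤ ⨆ (i : Fin t) (_ : i ≠ jm k), D i := by
    intro k
    simp only [hA]
    apply iSup₂_le
    intro m hm
    rw [Finset.mem_Ico] at hm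
    have hne' : jm m ≠ jm k := hdist k m (by omega) (by omega)
    exact le_iSup₂_of_le (jm m) hne' le_rfl
  have hAmap : ∀ k, (A k).map x ≤ ⨆ (i : Fin t) (_ : i ≠ jm k), D i := by
    intro k
    simp only [hA]
    rw [Submodule.map_iSup]
    apply iSup_le
    intro m
    rw [Submodule.map_iSup]
    apply iSup_le
    intro hm
    rw [Finset.mem_Ico] at hm
    rw [hmapD]
    have hne' : jm (m + 1) ≠ jm k := hdist k (m + 1) (by omega) (by omega)
    exact le_iSup₂_of_le (jm (m + 1)) hne' le_rfl
  have hAbot : A (r - 1) = ⊥ := by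
    simp only [hA]
    simp
  -- a fixed vector in A 0 is zero
  have hfix : ∀ u ∈ A 0, x u = u → u = 0 := by
    intro u hu hxu
    have key : ∀ k, k ≤ r - 1 → u ∈ A k := by
      intro k
      induction k with
      | zero => intro _; exact hu
      | succ k ih =>
        intro hk
        have huk := ih (by omega)
        rw [hAstep k (by omega), Submodule.mem_sup] at huk
        obtain ⟨d, hd, u', hu', hsum⟩ := huk
        have hxu' : x u ∈ (A k).map x := Submodule.mem_map_of_mem (ih (by omega))
        have h1 : x u ∈ ⨆ (i : Fin t) (_ : i ≠ jm k), D i := hAmap k hxu'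
        have h2 : u' ∈ ⨆ (i : Fin t) (_ : i ≠ jm k), D i := hAcompl k hu'
        have hd2 : d ∈ ⨆ (i : Fin t) (_ : i ≠ jm k), D i := by
          have : d = x u - u' := by rw [hxu, ← hsum]; abel
          rw [this]
          exact Submodule.sub_mem _ h1 h2
        have hd0 : d = 0 := (Submodule.disjoint_def.1 (hind (jm k))) d hd hd2
        rw [hd0, zero_add] at hsum
        rw [← hsum]; exact hu'
    have := key (r - 1) le_rfl
    rw [hAbot] at this
    exact (Submodule.mem_bot F).1 this
  -- the dimension of A 0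
  have hdim : ∀ k, k ≤ r - 1 → finrank F (A (r - 1 - k)) = k * a := by
    intro k
    induction k with
    | zero => intro _; simp [hAbot]
    | succ k ih =>
      intro hk
      have hidx : r - 1 - (k + 1) + 1 = r - 1 - k := by omega
      have hstep := hAstep (r - 1 - (k + 1)) (by omega)
      rw [hidx] at hstep
      have hdisj : D (jm (r - 1 - (k + 1))) ⊓ A (r - 1 - k) = ⊥ := by
        rw [eq_bot_iff]
        intro v hv
        rw [Submodule.mem_inf] at hv
        have h2 := hAcompl (r - 1 - (k + 1))
        rw [hidx] at h2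
        have := (Submodule.disjoint_def.1 (hind (jm (r - 1 - (k + 1))))) v hv.1 (h2 hv.2)
        rw [this]; exact Submodule.zero_mem _
      have h3 := Submodule.finrank_sup_add_finrank_inf_eq (D (jm (r - 1 - (k + 1)))) (A (r - 1 - k))
      rw [hdisj, finrank_bot, add_zero, ← hstep, hDa, ih (by omega)] at h3
      rw [h3]; ring
  have hdim0 : finrank F (A 0) = (r - 1) * a := by
    have := hdim (r - 1) le_rfl
    rw [Nat.sub_self] at this
    exact this
  -- disjointness with the fixed space
  have hdisj : Disjoint (LinearMap.ker (x - 1)) (A 0) := by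
    rw [Submodule.disjoint_def]
    intro v hv1 hv2
    rw [LinearMap.mem_ker, LinearMap.sub_apply, Module.End.one_apply, sub_eq_zero] at hv1
    exact hfix v hv2 hv1
  have := Submodule.finrank_add_finrank_le_of_disjoint hdisj
  rw [hdim0] at this
  exact this

end Cfsg.Agent.Helper21.SPI
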