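import Mathlib
import Cfsg.Prelude.Def_OddOrder
import Cfsg.Prelude.Def_OddOrderLocal

/-!
# BG 13.9 (sigma-partition): the interface between the Setup and the final contradiction

`Setup M L q S`: `M`, `L` are non-conjugate maximal subgroups with `q ∈ σ(M) ∩ σ(L)`, `S` is a Sylow
`q`-subgroup of `G` with `N_G(S) ≤ M ∩ L`, together with the consequences listed in `Side`.
-/

set_option autoImplicit false

namespace Cfsg.Agent.Helper21.BG139

open Subgroup Cfsg

variable {G : Type*} [Group G]

/-- conjugation by `g` as a monoid hom -/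
abbrev cj (g : G) : G →* G := (MulAut.conj g).toMonoidHom

/-- one-sided facts about `M` relative to the other maximal subgroup `L` and the common Sylow `S` -/
structure Side (M L : Subgroup G) (q : ℕ) (S : Sylow q G) : Prop where
  coatom : IsCoatom M
  mem_sigma : q ∈ sigma M
  hall : IsPiHallOf (sigma M) (sigmaCore M) M
  S_le : (S : Subgroup G) ≤ sigmaCore M
  alpha_disj : ∀ r, r ∈ alpha M → r ∉ sigma L
  sigma_le_comm : sigmaCore M ≤ ⁅M, M⁆
  factor : alphaCore M ⊔ normalizer ((S : Subgroup G) : Set G) = M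
  alpha_ne_bot : alphaCore M ≠ ⊥
  alpha_inf : alphaCore M ⊓ L = alphaCore M ⊓ centralizer ((S : Subgroup G) : Set G)
  not_nil : ¬ Group.IsNilpotent (sigmaCore M)
  tau2_empty : tau2 M = ∅
  S_inf_comm : (S : Subgroup G) ⊓ ⁅sigmaCore M, sigmaCore M⁆ = ⊥

/-- the aligned bad pair -/
structure Setup (M L : Subgroup G) (q : ℕ) (S : Sylow q G) : Prop where
  not_conj : ∀ g : G, L ≠ M.map (cj g)
  normalizer_le : normalizer ((S : Subgroup G) : Set G) ≤ M ⊓ L
  inf_eq : M ⊓ L = normalizer ((S : Subgroup G) : Set G)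
  abelian : IsMulCommutative (S : Subgroup G)
  rank : RankLE 2 (S : Subgroup G)
  left : Side M L q S
  right : Side L M q S

end Cfsg.Agent.Helper21.BG139
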