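import Mathlib

/-!
# Sylow plumbing for `σ(M)` (BG chain)

* `exists_sylow_eq_map`: a Sylow `p`-subgroup `P` of `M` with `N_G(P) ≤ M` is a Sylow `p`-subgroup of `G`.
* `exists_conj_mem_sylow`: every `p`-element is conjugate into a given Sylow `p`-subgroup.
* `exists_coatom_normalizer_sylow_le`: in a nonabelian simple group the normalizer of a Sylow
  `p`-subgroup (`p ∣ |G|`) lies in a maximal subgroup.
-/

set_option autoImplicit false

namespace Cfsg.Agent.Helper21.BGSigma

open Subgroup

variable {G : Type*} [Group G]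

theorem exists_sylow_eq_map [Finite G] {p : ℕ} [Fact p.Prime] (M : Subgroup G) (P : Sylow p M)
    (h : normalizer (((P : Subgroup M).map M.subtype : Subgroup G) : Set G) ≤ M) :
    ∃ Q : Sylow p G, (Q : Subgroup G) = (P : Subgroup M).map M.subtype := by
  set R : Subgroup G := (P : Subgroup M).map M.subtype with hR
  have hRp : IsPGroup p R := P.2.map M.subtype
  obtain ⟨Q, hQ⟩ := hRp.exists_le_sylow
  refine ⟨Q, ?_⟩
  by_contra hne
  haveI : Group.IsNilpotent Q := Q.2.isNilpotent
  have hnc := Group.normalizerCondition_of_isNilpotent (G := Q)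
  have hlt' : R.subgroupOf Q < ⊤ := by
    rw [lt_top_iff_ne_top]
    intro htop
    rw [subgroupOf_eq_top] at htop
    exact hne (le_antisymm htop hQ)
  obtain ⟨x, hxN, hxR⟩ := SetLike.exists_of_lt (hnc _ hlt')
  have hxG : (x : G) ∈ normalizer (R : Set G) := by
    rw [mem_normalizer_iff] at hxN ⊢
    intro g
    constructor
    · intro hg
      have := (hxN ⟨g, hQ hg⟩).1 (by simpa [mem_subgroupOf] using hg)
      simpa [mem_subgroupOf] using this
    · intro hg
      have hgQ : g ∈ (Q : Subgroup G) := by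
        have h1 : (x : G) * g * (x : G)⁻¹ ∈ (Q : Subgroup G) := hQ hg
        have h2 : g = (x : G)⁻¹ * ((x : G) * g * (x : G)⁻¹) * (x : G) := by group
        rw [h2]
        exact mul_mem (mul_mem (inv_mem x.2) h1) x.2
      have := (hxN ⟨g, hgQ⟩).2 (by simpa [mem_subgroupOf] using hg)
      simpa [mem_subgroupOf] using this
  have hxM : (x : G) ∈ M := h hxG
  set S : Subgroup G := (Q : Subgroup G) ⊓ normalizer (R : Set G) with hS
  have hSp : IsPGroup p S := Q.2.to_le inf_le_left
  have hSM : S ≤ M := inf_le_right.trans h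
  have hSp' : IsPGroup p (S.subgroupOf M) :=
    hSp.comap_of_injective M.subtype M.subtype_injective
  have hPS : (P : Subgroup M) ≤ S.subgroupOf M := by
    intro m hm
    rw [mem_subgroupOf]
    have hmR : (m : G) ∈ R := ⟨m, hm, rfl⟩
    exact ⟨hQ hmR, le_normalizer hmR⟩
  have hEq : S.subgroupOf M = (P : Subgroup M) := P.is_maximal' hSp' hPS
  have hxS : (⟨(x : G), hxM⟩ : M) ∈ S.subgroupOf M := by
    rw [mem_subgroupOf]
    exact ⟨x.2, hxG⟩
  rw [hEq] at hxS
  apply hxR
  rw [mem_subgroupOf]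
  exact ⟨⟨(x : G), hxM⟩, hxS, rfl⟩

theorem exists_conj_mem_sylow [Finite G] {p : ℕ} [Fact p.Prime] (Q : Sylow p G) {x : G}
    (hx : IsPGroup p (zpowers x)) : ∃ g : G, g * x * g⁻¹ ∈ (Q : Subgroup G) := by
  obtain ⟨Q', hQ'⟩ := hx.exists_le_sylow
  obtain ⟨g, hg⟩ := MulAction.exists_smul_eq G Q' Q
  refine ⟨g, ?_⟩
  have hx' : x ∈ (Q' : Subgroup G) := hQ' (mem_zpowers x)
  rw [← hg, Sylow.smul_def, Sylow.pointwise_smul_def]
  have := Subgroup.smul_mem_pointwise_smul x (MulAut.conj g) (Q' : Subgroup G) hx'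
  simpa [MulAut.smul_def] using this

theorem exists_coatom_normalizer_sylow_le [Finite G] [IsSimpleGroup G] (hnc : ¬ IsMulCommutative G)
    {p : ℕ} [Fact p.Prime] (hdvd : p ∣ Nat.card G) (P : Sylow p G) :
    ∃ M : Subgroup G, IsCoatom M ∧ normalizer ((P : Subgroup G) : Set G) ≤ M := by
  have hPbot : (P : Subgroup G) ≠ ⊥ := P.ne_bot_of_dvd_card hdvd
  have hNtop : normalizer ((P : Subgroup G) : Set G) ≠ ⊤ := by
    intro htop
    have hnorm : (P : Subgroup G).Normal := normalizer_eq_top_iff.mp htop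
    have hPtop : (P : Subgroup G) = ⊤ := (hnorm.eq_bot_or_eq_top).resolve_left hPbot
    have hGp : IsPGroup p G := by
      intro g
      obtain ⟨k, hk⟩ := P.2 ⟨g, hPtop ▸ mem_top g⟩
      exact ⟨k, by simpa [Subtype.ext_iff] using hk⟩
    haveI : Nontrivial G := IsSimpleGroup.toNontrivial
    have hc := hGp.center_nontrivial
    have hctop : center G = ⊤ := by
      refine ((inferInstance : (center G).Normal).eq_bot_or_eq_top).resolve_left ?_
      intro hb
      rw [hb] at hc
      exact not_nontrivial _ hc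
    apply hnc
    refine ⟨⟨fun a b => ?_⟩⟩
    have ha : a ∈ center G := hctop ▸ mem_top a
    exact ((mem_center_iff.1 ha) b).symm
  rcases eq_top_or_exists_le_coatom (normalizer ((P : Subgroup G) : Set G)) with h | ⟨M, hM, hle⟩
  · exact absurd h hNtop
  · exact ⟨M, hM, hle⟩

end Cfsg.Agent.Helper21.BGSigma
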