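import Mathlib
import Cfsg.Agent.S1350
import Cfsg.Agent.S1403
import Cfsg.Agent.S1405
import Cfsg.Agent.S1417
import Cfsg.Agent.S1422
import Cfsg.Agent.S1423
import Cfsg.Agent.Lib.Helper21.BG139Defs
import Cfsg.Agent.Lib.Helper25.BGNat
import Cfsg.Agent.Lib.Helper34.BG10i
import Cfsg.Agent.Lib.Helper55.BGHall
import Cfsg.Agent.Lib.Helper79.BG10.Alpha
import Cfsg.Agent.Lib.Helper98.BG139Q3
import Cfsg.Agent.Lib.Helper64.BG139Q4b

/-!
# BG 13.9 (sigma-partition): the Setup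

From `q ∈ σ(M) ∩ σ(N)` with `N` not conjugate to `M` we produce a conjugate `L` of `N` and a Sylow
`q`-subgroup `S` of `G` with `N_G(S) ≤ M ∩ L`, together with all the facts of `Setup M L q S`.
-/

set_option autoImplicit false

namespace Cfsg.Agent.Helper21.BG139

open Subgroup Cfsg
open Cfsg.Agent.Helper16 Cfsg.Agent.Helper79.BG10

variable {G : Type*} [Group G]

theorem uniqHyp [Finite G] (hG : IsMinSimpleOddOrder G) : Cfsg.Agent.Helper79.BG10.UniqHyp G :=
  fun K hK h1 h2 => Cfsg.Agent.S1403.result hG K hK h1 h2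

theorem uniqHyp34 [Finite G] (hG : IsMinSimpleOddOrder G) : Cfsg.Agent.Helper34.BG.UniqHyp G :=
  fun K hK h1 h2 => Cfsg.Agent.S1403.result hG K hK h1 h2

/-- two distinct coatoms containing `X` contradict uniqueness -/
theorem eq_of_inUniqueMaximal {X M L : Subgroup G} (h : InUniqueMaximal X) (hM : IsCoatom M)
    (hL : IsCoatom L) (hXM : X ≤ M) (hXL : X ≤ L) : L = M := by
  obtain ⟨M₀, -, huniq⟩ := h
  rw [huniq M ⟨hM, hXM⟩, huniq L ⟨hL, hXL⟩]

/-- the data common to both sides -/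
structure Aligned (M L : Subgroup G) (q : ℕ) (S : Sylow q G) : Prop where
  hM : IsCoatom M
  hL : IsCoatom L
  hqM : q ∈ sigma M
  hqL : q ∈ sigma L
  not_conj : ∀ g : G, L ≠ M.map (cj g)
  normalizer_le : normalizer ((S : Subgroup G) : Set G) ≤ M ⊓ L

theorem Aligned.symm {M L : Subgroup G} {q : ℕ} {S : Sylow q G} (h : Aligned M L q S) :
    Aligned L M q S where
  hM := h.hL
  hL := h.hM
  hqM := h.hqL
  hqL := h.hqM
  not_conj := by
    intro g hg
    apply h.not_conj g⁻¹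
    have : Cfsg.Agent.Helper79.BG10.cj g⁻¹ (Cfsg.Agent.Helper79.BG10.cj g L) = L := cj_inv_cj g L
    rw [← this]
    congr 1
    exact hg.symm
  normalizer_le := by
    rw [inf_comm]; exact h.normalizer_le

theorem exists_aligned [Finite G] (hG : IsMinSimpleOddOrder G) (M N : Subgroup G) (hM : IsCoatom M)
    (hN : IsCoatom N) (q : ℕ) [Fact q.Prime] (hqM : q ∈ sigma M) (hqN : q ∈ sigma N)
    (hcon : ∀ g, N ≠ M.map (cj g)) :
    ∃ (g : G) (S : Sylow q G), Aligned M (N.map (cj g)) q S := by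
  obtain ⟨-, -, PM, hPM⟩ := id hqM
  obtain ⟨-, -, PN, hPN⟩ := id hqN
  set P₀ : Subgroup G := (PM : Subgroup M).map M.subtype with hP₀
  set Q₀ : Subgroup G := (PN : Subgroup N).map N.subtype with hQ₀
  have hP₀M : IsSylowIn q M P₀ := ⟨PM, rfl⟩
  have hQ₀N : IsSylowIn q N Q₀ := ⟨PN, rfl⟩
  have hP₀top : IsSylowIn q ⊤ P₀ := isSylowIn_top_of_sigma hqM hP₀M
  have hQ₀top : IsSylowIn q ⊤ Q₀ := isSylowIn_top_of_sigma hqN hQ₀N
  obtain ⟨z, -, hz⟩ := exists_cj_eq_of_isSylowIn hQ₀top hP₀top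
  have hcard : Nat.card P₀ = q ^ (Nat.card G).factorization q := by
    have := hP₀top.card
    rwa [Subgroup.card_top] at this
  refine ⟨z, Sylow.ofCard P₀ hcard, ?_⟩
  have hS : ((Sylow.ofCard P₀ hcard : Sylow q G) : Subgroup G) = P₀ := Sylow.coe_ofCard _ _
  refine ⟨hM, Cfsg.Agent.Helper25.BGNat.isCoatom_cj hN, hqM, ?_, ?_, ?_⟩
  · have := Cfsg.Agent.Helper25.BGNat.sigma_cj z N
    show q ∈ sigma (Cfsg.Agent.Helper79.BG10.cj z N)
    rw [this]; exact hqN
  · intro g hg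
    apply hcon (z⁻¹ * g)
    have h1 : Cfsg.Agent.Helper79.BG10.cj z⁻¹ (Cfsg.Agent.Helper79.BG10.cj z N) = N := cj_inv_cj z N
    have h2 : Cfsg.Agent.Helper79.BG10.cj (z⁻¹ * g) M
        = Cfsg.Agent.Helper79.BG10.cj z⁻¹ (Cfsg.Agent.Helper79.BG10.cj g M) := cj_mul z⁻¹ g M
    show N = Cfsg.Agent.Helper79.BG10.cj (z⁻¹ * g) M
    rw [h2, ← h1]
    congr 1
  · rw [hS]
    apply le_inf
    · exact hPM
    · rw [hz, normalizer_cj]
      exact cj_mono z hPN


/-! ### consequences for one side -/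

section side

variable [Finite G] {M L : Subgroup G} {q : ℕ} [Fact q.Prime] {S : Sylow q G}

theorem Aligned.S_le_M (h : Aligned M L q S) : (S : Subgroup G) ≤ M :=
  le_normalizer.trans (h.normalizer_le.trans inf_le_left)

theorem Aligned.S_le_L (h : Aligned M L q S) : (S : Subgroup G) ≤ L :=
  le_normalizer.trans (h.normalizer_le.trans inf_le_right)

theorem Aligned.ne (h : Aligned M L q S) : L ≠ M := by
  intro e
  apply h.not_conj 1
  rw [e]
  exact (cj_one M).symm

theorem Aligned.hall (hG : IsMinSimpleOddOrder G) (h : Aligned M L q S) :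
    IsPiHallOf (sigma M) (sigmaCore M) M := (Cfsg.Agent.S1350.result hG M h.hM).1

theorem Aligned.S_le_sigmaCore (hG : IsMinSimpleOddOrder G) (h : Aligned M L q S) :
    (S : Subgroup G) ≤ sigmaCore M :=
  Cfsg.Agent.Helper55.BGB.le_sigmaCore_of_isPGroup Fact.out (h.hall hG) h.hqM h.S_le_M S.2

theorem Aligned.abelian (hG : IsMinSimpleOddOrder G) (h : Aligned M L q S) :
    IsMulCommutative (S : Subgroup G) := by
  by_contra hna
  have hu := Cfsg.Agent.S1422.result hG q (S : Subgroup G) S.2 hna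
  exact h.ne (eq_of_inUniqueMaximal hu h.hM h.hL h.S_le_M h.S_le_L)

theorem Aligned.rank (hG : IsMinSimpleOddOrder G) (h : Aligned M L q S) :
    RankLE 2 (S : Subgroup G) := by
  by_contra h2
  have h1 : ¬ RankLE 1 (S : Subgroup G) := by
    intro h1
    apply h2
    intro p hp A hA hAe
    exact (h1 p hp A hA hAe).trans (Nat.pow_le_pow_right hp.pos (by norm_num))
  have htop : (S : Subgroup G) ≠ ⊤ := fun e => h.hM.1 (top_le_iff.mp (e ▸ h.S_le_M))
  have hu := Cfsg.Agent.S1403.result hG (S : Subgroup G) htop h1 (Or.inl h2)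
  exact h.ne (eq_of_inUniqueMaximal hu h.hM h.hL h.S_le_M h.S_le_L)

theorem Aligned.isSylowIn_top (S : Sylow q G) : IsSylowIn q ⊤ (S : Subgroup G) := by
  apply isSylowIn_of_card le_top
  rw [Subgroup.card_top]
  exact S.card_eq_multiplicity

theorem Aligned.isSylowIn (h : Aligned M L q S) : IsSylowIn q M (S : Subgroup G) :=
  isSylowIn_of_le (Aligned.isSylowIn_top S) h.S_le_M le_top

theorem le_normalizer_of_conj_mem {M S : Subgroup G} (h : ∀ m ∈ M, ∀ x ∈ S, m * x * m⁻¹ ∈ S) :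
    M ≤ normalizer (S : Set G) := by
  intro m hm
  rw [mem_normalizer_iff]
  intro x
  constructor
  · exact h m hm x
  · intro hx
    have := h m⁻¹ (inv_mem hm) _ hx
    have h2 : m⁻¹ * (m * x * m⁻¹) * m⁻¹⁻¹ = x := by group
    rwa [h2] at this

theorem Aligned.not_nil (hG : IsMinSimpleOddOrder G) (h : Aligned M L q S) :
    ¬ Group.IsNilpotent (sigmaCore M) := by
  intro hnil
  have hQσ := h.S_le_sigmaCore hG
  set T : Sylow q (sigmaCore M) := S.subtype hQσ with hT
  have hTn : (T : Subgroup (sigmaCore M)).Normal :=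
    Sylow.normal_of_normalizerCondition Group.normalizerCondition_of_isNilpotent T
  haveI : Unique (Sylow q (sigmaCore M)) := Sylow.unique_of_normal T hTn
  have hMn : M ≤ normalizer ((S : Subgroup G) : Set G) := by
    apply le_normalizer_of_conj_mem
    intro m hm x hx
    set R : Subgroup G := (S : Subgroup G).map (MulAut.conj m).toMonoidHom with hR
    have hRq : IsPGroup q R := S.2.map _
    have hRσ : R ≤ sigmaCore M := by
      rintro _ ⟨y, hy, rfl⟩
      have hn := Cfsg.Agent.Helper55.BGB.le_normalizer_sigmaCore M hm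
      exact (mem_normalizer_iff.mp hn y).mp (hQσ hy)
    have hRq' : IsPGroup q (R.subgroupOf (sigmaCore M)) :=
      hRq.comap_of_injective (sigmaCore M).subtype (Subgroup.subtype_injective _)
    obtain ⟨T', hT'⟩ := hRq'.exists_le_sylow
    have hTT' : T' = T := Subsingleton.elim _ _
    have hmem : (⟨m * x * m⁻¹, hRσ ⟨x, hx, rfl⟩⟩ : sigmaCore M) ∈ (T : Subgroup (sigmaCore M)) := by
      rw [← hTT']
      apply hT'
      rw [mem_subgroupOf]
      exact ⟨x, hx, rfl⟩
    rw [hT, Sylow.coe_subtype, mem_subgroupOf] at hmem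
    exact hmem
  have hML : M ≤ L := hMn.trans (h.normalizer_le.trans inf_le_right)
  rcases h.hM.le_iff.mp hML with e | e
  · exact h.hL.1 e
  · exact h.ne e

theorem isMulCommutative_map_subtype' {M : Subgroup G} (A : Subgroup M) (hA : IsMulCommutative A) :
    IsMulCommutative (A.map M.subtype) := by
  refine ⟨⟨?_⟩⟩
  rintro ⟨_, ⟨a, ha, rfl⟩⟩ ⟨_, ⟨b, hb, rfl⟩⟩
  apply Subtype.ext
  have h := hA.is_comm.comm (⟨a, ha⟩ : A) ⟨b, hb⟩
  have h' : a * b = b * a := congrArg Subtype.val h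
  simp only [Subgroup.coe_mul, Subgroup.coe_subtype]
  exact congrArg Subtype.val h'

theorem Aligned.tau2_empty (hG : IsMinSimpleOddOrder G) (h : Aligned M L q S) : tau2 M = ∅ := by
  rw [Set.eq_empty_iff_forall_notMem]
  rintro p hτ
  obtain ⟨hp, hpσ, hr2, hr1⟩ := id hτ
  haveI := Fact.mk hp
  apply h.not_nil hG
  unfold PRankLE at hr1
  push Not at hr1
  obtain ⟨A, hAc, hAe, hAcard⟩ := hr1
  have hA2 : Nat.card A ≤ p ^ 2 := hr2 A hAc hAe
  have hAp : IsPGroup p A := isPGroup_of_pow_eq_one A hAe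
  obtain ⟨k, hk⟩ := IsPGroup.iff_card.mp hAp
  have hk2 : k = 2 := by
    rw [hk] at hAcard hA2
    have h1 : 1 < k := (Nat.pow_lt_pow_iff_right hp.one_lt).mp hAcard
    have h2 : k ≤ 2 := (Nat.pow_le_pow_iff_right hp.one_lt).mp hA2
    omega
  subst hk2
  have hAel : IsElementaryAbelian p (A.map M.subtype) := by
    refine ⟨isMulCommutative_map_subtype' A hAc, ?_⟩
    rintro _ ⟨a, ha, rfl⟩
    have := hAe a ha
    rw [← map_pow, this, map_one]
  have hAcardG : Nat.card (A.map M.subtype) = p ^ 2 := by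
    rw [Subgroup.card_map_of_injective M.subtype_injective, hk]
  exact (Cfsg.Agent.S1417.result hG M h.hM p hτ (A.map M.subtype)
    ⟨Subgroup.map_subtype_le _, hAel, hAcardG⟩).1

theorem Aligned.alpha_disj (hG : IsMinSimpleOddOrder G) (h : Aligned M L q S) :
    ∀ r, r ∈ alpha M → r ∉ sigma L :=
  Cfsg.Agent.Helper98.BG139.alpha_disj hG M L h.hM h.hL h.not_conj

theorem Aligned.not_mem_alpha (hG : IsMinSimpleOddOrder G) (h : Aligned M L q S) : q ∉ alpha M := by
  rintro ⟨hq, hr⟩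
  unfold PRankLE at hr
  push Not at hr
  obtain ⟨A, hAc, hAe, hAcard⟩ := hr
  have hAp : IsPGroup q A := isPGroup_of_pow_eq_one A hAe
  obtain ⟨T, hAT, hT⟩ := exists_isSylowIn_ge (K := M) (hAp.map M.subtype) (Subgroup.map_subtype_le A)
  obtain ⟨z, -, hz⟩ := exists_cj_eq_of_isSylowIn hT h.isSylowIn
  -- the conjugate of `A` inside `S`
  have hle : Cfsg.Agent.Helper79.BG10.cj z (A.map M.subtype) ≤ (S : Subgroup G) := by
    rw [hz]; exact cj_mono z hAT
  have hcomm : ∀ a ∈ Cfsg.Agent.Helper79.BG10.cj z (A.map M.subtype),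
      ∀ b ∈ Cfsg.Agent.Helper79.BG10.cj z (A.map M.subtype), a * b = b * a := by
    rintro _ ⟨_, ⟨a, ha, rfl⟩, rfl⟩ _ ⟨_, ⟨b, hb, rfl⟩, rfl⟩
    have hab : a * b = b * a := congrArg Subtype.val (hAc.is_comm.comm (⟨a, ha⟩ : A) ⟨b, hb⟩)
    rw [← map_mul, ← map_mul, ← map_mul, ← map_mul, hab]
  have hexp : ∀ a ∈ Cfsg.Agent.Helper79.BG10.cj z (A.map M.subtype), a ^ q = 1 := by
    rintro _ ⟨_, ⟨a, ha, rfl⟩, rfl⟩
    rw [← map_pow, ← map_pow, hAe a ha, map_one, map_one]
  have hcard : q ^ 2 < Nat.card (Cfsg.Agent.Helper79.BG10.cj z (A.map M.subtype)) := by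
    rw [card_cj, Subgroup.card_map_of_injective M.subtype_injective]
    exact hAcard
  exact (not_rankLE_of_elemAb hq hle hcomm hexp hcard) (h.rank hG)

theorem Aligned.sigma_le_comm (hG : IsMinSimpleOddOrder G) (h : Aligned M L q S) :
    sigmaCore M ≤ ⁅M, M⁆ :=
  Cfsg.Agent.Helper34.BG.sigmaCore_le_commutator hG (uniqHyp34 hG) h.hM

theorem Aligned.factor (hG : IsMinSimpleOddOrder G) (h : Aligned M L q S) :
    alphaCore M ⊔ normalizer ((S : Subgroup G) : Set G) = M := by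
  have h1 := Cfsg.Agent.Helper64.BG139.factor_alpha_of M q S
    ((h.S_le_sigmaCore hG).trans (h.sigma_le_comm hG)) (Cfsg.Agent.S1405.result hG M h.hM).2.2.2.2
  have h2 : M ⊓ normalizer ((S : Subgroup G) : Set G) = normalizer ((S : Subgroup G) : Set G) :=
    inf_eq_right.mpr (h.normalizer_le.trans inf_le_left)
  rwa [h2] at h1

theorem Aligned.alpha_ne_bot (hG : IsMinSimpleOddOrder G) (h : Aligned M L q S) :
    alphaCore M ≠ ⊥ := by
  intro hb
  have hf := h.factor hG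
  rw [hb, bot_sup_eq] at hf
  have hML : M ≤ L := by
    rw [← hf]; exact h.normalizer_le.trans inf_le_right
  rcases h.hM.le_iff.mp hML with e | e
  · exact h.hL.1 e
  · exact h.ne e

/-- `M` normalizes the image in `G` of a normal subgroup of `M` -/
theorem conj_mem_map_subtype {M : Subgroup G} (N : Subgroup M) [N.Normal] {m x : G} (hm : m ∈ M)
    (hx : x ∈ N.map M.subtype) : m * x * m⁻¹ ∈ N.map M.subtype := by
  obtain ⟨y, hy, rfl⟩ := hx
  refine ⟨⟨m, hm⟩ * y * ⟨m, hm⟩⁻¹, ?_, rfl⟩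
  exact ‹N.Normal›.conj_mem y hy ⟨m, hm⟩

theorem Aligned.alpha_inf_sigma (hG : IsMinSimpleOddOrder G) (h : Aligned M L q S) :
    alphaCore M ⊓ sigmaCore L = ⊥ := by
  rw [Subgroup.eq_bot_iff_forall]
  intro x hx
  by_contra hx1
  have hord : orderOf x ≠ 1 := fun e => hx1 (orderOf_eq_one_iff.mp e)
  obtain ⟨r, hr, hrd⟩ := Nat.exists_prime_and_dvd hord
  have h1 : r ∣ Nat.card (alphaCore M) := hrd.trans (Subgroup.orderOf_dvd_natCard _ hx.1)
  have h2 : r ∣ Nat.card (sigmaCore L) := hrd.trans (Subgroup.orderOf_dvd_natCard _ hx.2)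
  have hrα : r ∈ alpha M := (Cfsg.Agent.S1405.result hG M h.hM).1.2.1 r hr h1
  have hrσ : r ∈ sigma L := Cfsg.Agent.Helper55.BGB.isPi_sigmaCore L r hr h2
  exact h.alpha_disj hG r hrα hrσ

theorem Aligned.alpha_inf (hG : IsMinSimpleOddOrder G) (h : Aligned M L q S) :
    alphaCore M ⊓ L = alphaCore M ⊓ centralizer ((S : Subgroup G) : Set G) := by
  apply le_antisymm
  · intro x hx
    obtain ⟨hxα, hxL⟩ := Subgroup.mem_inf.mp hx
    refine Subgroup.mem_inf.mpr ⟨hxα, ?_⟩
    rw [mem_centralizer_iff]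
    intro s hs
    have hsσ : s ∈ sigmaCore L := h.symm.S_le_sigmaCore hG hs
    have hsM : s ∈ M := h.S_le_M hs
    -- the commutator lies in `M_α ∩ L_σ = 1`
    have hc1 : x * s * x⁻¹ * s⁻¹ ∈ alphaCore M := by
      have : x * s * x⁻¹ * s⁻¹ = x * (s * x⁻¹ * s⁻¹) := by group
      rw [this]
      apply mul_mem hxα
      have hinv : x⁻¹ ∈ alphaCore M := inv_mem hxα
      exact conj_mem_map_subtype (piCore (alpha M) M) hsM hinv
    have hc2 : x * s * x⁻¹ * s⁻¹ ∈ sigmaCore L := by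
      apply mul_mem _ (inv_mem hsσ)
      have hn := Cfsg.Agent.Helper55.BGB.le_normalizer_sigmaCore L hxL
      exact (mem_normalizer_iff.mp hn s).mp hsσ
    have hc : x * s * x⁻¹ * s⁻¹ = 1 := by
      have : x * s * x⁻¹ * s⁻¹ ∈ alphaCore M ⊓ sigmaCore L := ⟨hc1, hc2⟩
      rw [h.alpha_inf_sigma hG] at this
      simpa using this
    calc s * x = (x * s * x⁻¹ * s⁻¹)⁻¹ * (x * s) := by group
      _ = x * s := by rw [hc]; group
  · intro x hx
    obtain ⟨hxα, hxc⟩ := Subgroup.mem_inf.mp hx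
    refine Subgroup.mem_inf.mpr ⟨hxα, ?_⟩
    exact (h.normalizer_le.trans inf_le_right) (Subgroup.centralizer_le_normalizer _ hxc)

theorem mem_sup_of_le_normalizer {A B : Subgroup G} (hn : B ≤ normalizer (A : Set G)) {g : G}
    (hg : g ∈ A ⊔ B) : ∃ a ∈ A, ∃ b ∈ B, g = a * b := by
  rw [sup_eq_closure_mul] at hg
  induction hg using closure_induction with
  | mem x hx =>
    obtain ⟨a, ha, b, hb, rfl⟩ := hx
    exact ⟨a, ha, b, hb, rfl⟩
  | one => exact ⟨1, one_mem _, 1, one_mem _, by simp⟩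
  | mul x y _ _ hx hy =>
    obtain ⟨a, ha, b, hb, rfl⟩ := hx
    obtain ⟨a', ha', b', hb', rfl⟩ := hy
    refine ⟨a * (b * a' * b⁻¹), mul_mem ha ((mem_normalizer_iff.mp (hn hb) a').mp ha'),
      b * b', mul_mem hb hb', ?_⟩
    group
  | inv x _ hx =>
    obtain ⟨a, ha, b, hb, rfl⟩ := hx
    refine ⟨b⁻¹ * a⁻¹ * b⁻¹⁻¹, (mem_normalizer_iff.mp (hn (inv_mem hb)) a⁻¹).mp (inv_mem ha),
      b⁻¹, inv_mem hb, ?_⟩
    group

theorem Aligned.inf_eq (hG : IsMinSimpleOddOrder G) (h : Aligned M L q S) :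
    M ⊓ L = normalizer ((S : Subgroup G) : Set G) := by
  apply le_antisymm _ h.normalizer_le
  rintro x ⟨hxM, hxL⟩
  have hn : normalizer ((S : Subgroup G) : Set G) ≤ normalizer ((alphaCore M : Subgroup G) : Set G) := by
    intro n hn
    have hnM : n ∈ M := (h.normalizer_le.trans inf_le_left) hn
    have : M ≤ normalizer ((alphaCore M : Subgroup G) : Set G) := by
      apply le_normalizer_of_conj_mem
      intro m hm y hy
      exact conj_mem_map_subtype (piCore (alpha M) M) hm hy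
    exact this hnM
  rw [← h.factor hG] at hxM
  obtain ⟨a, ha, n, hnn, rfl⟩ := mem_sup_of_le_normalizer hn hxM
  have hnL : n ∈ L := (h.normalizer_le.trans inf_le_right) hnn
  have haL : a ∈ L := by
    have : a = a * n * n⁻¹ := by group
    rw [this]
    exact mul_mem hxL (inv_mem hnL)
  have hac : a ∈ alphaCore M ⊓ L := ⟨ha, haL⟩
  rw [h.alpha_inf hG] at hac
  exact mul_mem (Subgroup.centralizer_le_normalizer _ hac.2) hnn

theorem Aligned.S_inf_comm (hG : IsMinSimpleOddOrder G) (h : Aligned M L q S) :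
    (S : Subgroup G) ⊓ ⁅sigmaCore M, sigmaCore M⁆ = ⊥ := by
  have hq : q.Prime := Fact.out
  by_contra hne
  -- an element of order `q` in the intersection
  have hIq : IsPGroup q ((S : Subgroup G) ⊓ ⁅sigmaCore M, sigmaCore M⁆ : Subgroup G) :=
    S.2.to_le inf_le_left
  have hcard1 : Nat.card ((S : Subgroup G) ⊓ ⁅sigmaCore M, sigmaCore M⁆ : Subgroup G) ≠ 1 :=
    fun e => hne (Subgroup.card_eq_one.mp e)
  obtain ⟨n, hn⟩ := IsPGroup.iff_card.mp hIq
  have hn0 : n ≠ 0 := by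
    rintro rfl
    exact hcard1 (by rw [hn, pow_zero])
  have hqd : q ∣ Nat.card ((S : Subgroup G) ⊓ ⁅sigmaCore M, sigmaCore M⁆ : Subgroup G) := by
    rw [hn]; exact dvd_pow_self q hn0
  obtain ⟨x, hx⟩ := exists_prime_orderOf_dvd_card' q hqd
  have hxG : orderOf (x : G) = q := by rw [Subgroup.orderOf_coe]; exact hx
  set X : Subgroup G := zpowers (x : G) with hX
  have hXcard : Nat.card X = q := by rw [hX, Nat.card_zpowers, hxG]
  have hXS : X ≤ (S : Subgroup G) := (zpowers_le).2 x.2.1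
  have hXc : X ≤ ⁅sigmaCore M, sigmaCore M⁆ := (zpowers_le).2 x.2.2
  have hQσ := h.S_le_sigmaCore hG
  have h23 := Cfsg.Agent.S1423.result hG M h.hM q h.hqM X (hXS.trans h.S_le_M) hXcard
    (S.subtype hQσ) (Or.inr hXc)
  have hu := h23.2.1
  rw [Sylow.coe_subtype, map_subgroupOf_eq_of_le hQσ] at hu
  exact h.ne (eq_of_inUniqueMaximal hu h.hM h.hL h.S_le_M h.S_le_L)

theorem Aligned.side (hG : IsMinSimpleOddOrder G) (h : Aligned M L q S) : Side M L q S where
  coatom := h.hM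
  mem_sigma := h.hqM
  hall := h.hall hG
  S_le := h.S_le_sigmaCore hG
  alpha_disj := h.alpha_disj hG
  sigma_le_comm := h.sigma_le_comm hG
  factor := h.factor hG
  alpha_ne_bot := h.alpha_ne_bot hG
  alpha_inf := h.alpha_inf hG
  not_nil := h.not_nil hG
  tau2_empty := h.tau2_empty hG
  S_inf_comm := h.S_inf_comm hG

theorem Aligned.setup (hG : IsMinSimpleOddOrder G) (h : Aligned M L q S) : Setup M L q S where
  not_conj := h.not_conj
  normalizer_le := h.normalizer_le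
  inf_eq := h.inf_eq hG
  abelian := h.abelian hG
  rank := h.rank hG
  left := h.side hG
  right := h.symm.side hG

end side

theorem exists_setup [Finite G] (hG : IsMinSimpleOddOrder G) (M N : Subgroup G) (hM : IsCoatom M)
    (hN : IsCoatom N) (q : ℕ) [Fact q.Prime] (hqM : q ∈ sigma M) (hqN : q ∈ sigma N)
    (hcon : ∀ g, N ≠ M.map (cj g)) :
    ∃ (g : G) (S : Sylow q G), Setup M (N.map (cj g)) q S := by
  obtain ⟨g, S, h⟩ := exists_aligned hG M N hM hN q hqM hqN hcon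
  exact ⟨g, S, h.setup hG⟩

end Cfsg.Agent.Helper21.BG139
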