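import Mathlib
import Cfsg.Agent.S1414
import Cfsg.Agent.Lib.Helper21.BG139Setup
import Cfsg.Agent.Lib.Helper52.CoprimeSylow

/-!
# BG 13.9 (sigma-partition): steps on top of `Setup`

* `Setup.alpha_sub_beta` : step (C), `α(M) ⊆ β(M)` in an aligned bad pair.
-/

set_option autoImplicit false

namespace Cfsg.Agent.Helper21.BG139

open Subgroup Cfsg
open Cfsg.Agent.Helper16 Cfsg.Agent.Helper79.BG10

/-- a normal `t`-complement `K` of `D` contains every element of `D` of order prime to `t` -/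
theorem mem_of_normal_complement {D : Type*} [Group D] [Finite D] {t : ℕ} [Fact t.Prime]
    (P : Sylow t D) (K : Subgroup D) [K.Normal] (hc : K.IsComplement' (P : Subgroup D)) {x : D}
    {n : ℕ} (hn : n.Coprime t) (hx : x ^ n = 1) : x ∈ K := by
  have hidx : K.index = Nat.card (P : Subgroup D) := hc.symm.index_eq_card
  obtain ⟨k, hk⟩ := IsPGroup.iff_card.mp P.isPGroup'
  have h1 : orderOf (QuotientGroup.mk' K x) ∣ n := by
    apply orderOf_dvd_of_pow_eq_one
    rw [← map_pow, hx, map_one]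
  have h2 : orderOf (QuotientGroup.mk' K x) ∣ t ^ k := by
    rw [← hk, ← hidx, Subgroup.index_eq_card]
    exact orderOf_dvd_natCard _
  have h3 : orderOf (QuotientGroup.mk' K x) = 1 :=
    Nat.eq_one_of_dvd_coprimes (Nat.Coprime.pow_right k hn) h1 h2
  have h4 := orderOf_eq_one_iff.mp h3
  exact (QuotientGroup.eq_one_iff x).mp h4

/-- the order of a normal `t`-complement is prime to `t` -/
theorem not_dvd_card_of_complement {D : Type*} [Group D] [Finite D] {t : ℕ} [ht : Fact t.Prime]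
    (P : Sylow t D) (K : Subgroup D) (hc : K.IsComplement' (P : Subgroup D)) :
    ¬ t ∣ Nat.card K := by
  intro hd
  have h1 : Nat.card K * Nat.card (P : Subgroup D) = Nat.card D := hc.card_mul
  have h0 : ¬ t ^ ((Nat.card D).factorization t + 1) ∣ Nat.card D :=
    Nat.pow_succ_factorization_not_dvd Nat.card_pos.ne' ht.out
  rw [P.card_eq_multiplicity] at h1
  generalize (Nat.card D).factorization t = v at h1 h0
  apply h0
  rw [← h1, pow_succ, mul_comm]
  exact Nat.mul_dvd_mul hd dvd_rfl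

/-- an elementary abelian subgroup of order `> p^k` inside `T` shows `¬ PRankLE p k T` -/
theorem not_pRankLE_of_elemAb {G : Type*} [Group G] {p k : ℕ} {T A : Subgroup G} (hAT : A ≤ T)
    (hcomm : ∀ a ∈ A, ∀ b ∈ A, a * b = b * a) (hexp : ∀ a ∈ A, a ^ p = 1)
    (hcard : p ^ k < Nat.card A) : ¬ Cfsg.PRankLE p k T := by
  intro h
  have h1 := h (A.subgroupOf T) ?_ ?_
  · have : Nat.card (A.subgroupOf T) = Nat.card A :=
      Nat.card_congr (Subgroup.subgroupOfEquivOfLe hAT).toEquiv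
    omega
  · refine ⟨⟨fun a b => ?_⟩⟩
    apply Subtype.ext
    apply Subtype.ext
    have := hcomm a.1.1 a.2 b.1.1 b.2
    simpa using this
  · intro a ha
    apply Subtype.ext
    have := hexp a.1 ha
    simpa using this

variable {G : Type*} [Group G] [Finite G] {M L : Subgroup G} {q : ℕ} [Fact q.Prime] {S : Sylow q G}

theorem Setup.not_mem_alpha (h : Setup M L q S) : q ∉ alpha M :=
  fun hq => h.left.alpha_disj q hq h.right.mem_sigma

theorem le_normalizer_alphaCore (M : Subgroup G) : M ≤ normalizer (alphaCore M : Set G) := by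
  intro m hm
  rw [mem_normalizer_iff]
  intro x
  constructor
  · intro hx
    exact conj_mem_map_subtype (piCore (alpha M) M) hm hx
  · intro hx
    have := conj_mem_map_subtype (piCore (alpha M) M) (inv_mem hm) hx
    have e : m⁻¹ * (m * x * m⁻¹) * m⁻¹⁻¹ = x := by group
    rwa [e] at this

/-- `|S|` is prime to `|M_α|` -/
theorem Setup.coprime_alphaCore (hG : IsMinSimpleOddOrder G) (h : Setup M L q S) :
    (Nat.card (S : Subgroup G)).Coprime (Nat.card (alphaCore M)) := by
  have hqp : q.Prime := Fact.out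
  obtain ⟨k, hk⟩ := IsPGroup.iff_card.mp S.isPGroup'
  rw [hk]
  apply Nat.Coprime.pow_left
  rw [Nat.Prime.coprime_iff_not_dvd hqp]
  intro hd
  exact h.not_mem_alpha ((Cfsg.Agent.S1405.result hG M h.left.coatom).1.2.1 q hqp hd)

/-- step (C): in an aligned bad pair, `α(M) ⊆ β(M)` -/
theorem Setup.alpha_sub_beta (hG : IsMinSimpleOddOrder G) (h : Setup M L q S) :
    ∀ t, t ∈ alpha M → t ∈ beta M := by
  intro t ht
  by_contra hb
  have htp : t.Prime := ht.1
  haveI : Fact t.Prime := ⟨htp⟩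
  have hqp : q.Prime := Fact.out
  have hM := h.left.coatom
  have htσ : t ∈ sigma M := alpha_subset_sigma hG (uniqHyp hG) hM ht
  have htM : t ∣ Nat.card M := htσ.2.1
  have hqt : q ≠ t := fun e => h.not_mem_alpha (e ▸ ht)
  obtain ⟨⟨P, K, hKn, hKc⟩, -, -⟩ := (Cfsg.Agent.S1414.result hG M hM).2.2.2.2 t htp htM hb
  have hSD : (S : Subgroup G) ≤ ⁅M, M⁆ := h.left.S_le.trans h.left.sigma_le_comm
  have hαD : alphaCore M ≤ ⁅M, M⁆ :=
    ((Cfsg.Agent.S1405.result hG M hM).2.2.1).trans h.left.sigma_le_comm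
  -- `S ≤ K`
  have hSK : ∀ s, ∀ hs : s ∈ (S : Subgroup G), (⟨s, hSD hs⟩ : ↥⁅M, M⁆) ∈ K := by
    intro s hs
    obtain ⟨n, hn⟩ := S.isPGroup' ⟨s, hs⟩
    apply mem_of_normal_complement P K hKc (n := q ^ n)
    · exact Nat.Coprime.pow_left n ((Nat.coprime_primes hqp htp).mpr hqt)
    · apply Subtype.ext
      have := congrArg Subtype.val hn
      simpa using this
  -- an `S`-invariant Sylow `t`-subgroup of `M_α`
  have hSnα : (S : Subgroup G) ≤ normalizer (alphaCore M : Set G) :=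
    (h.left.S_le.trans (Cfsg.Agent.Helper55.BGB.sigmaCore_le M)).trans (le_normalizer_alphaCore M)
  haveI : IsMulCommutative (S : Subgroup G) := h.abelian
  have hsolv : Group.IsSolvable (S : Subgroup G) := by
    letI : CommGroup (S : Subgroup G) := { mul_comm := fun a b => h.abelian.is_comm.comm a b }
    infer_instance
  obtain ⟨T, hTα, hTcard, hST⟩ := Cfsg.Agent.Helper52.exists_invariant_sylow (S : Subgroup G)
    (alphaCore M) hSnα (h.coprime_alphaCore hG) (Or.inl hsolv) t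
  -- `T ∩ K' = 1`
  have hTK : ∀ x, ∀ hx : x ∈ T, (⟨x, hαD (hTα hx)⟩ : ↥⁅M, M⁆) ∈ K → x = 1 := by
    intro x hx hxK
    have h1 : orderOf x ∣ Nat.card T := Subgroup.orderOf_dvd_natCard _ hx
    have h2 : orderOf (⟨x, hαD (hTα hx)⟩ : ↥⁅M, M⁆) ∣ Nat.card K :=
      Subgroup.orderOf_dvd_natCard _ hxK
    rw [Subgroup.orderOf_mk] at h2
    rw [hTcard, Cfsg.Agent.Helper52.sylCard] at h1
    have h3 : (Nat.card K).Coprime (t ^ (Nat.card (alphaCore M)).factorization t) := by
      apply Nat.Coprime.pow_right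
      rw [Nat.coprime_comm, Nat.Prime.coprime_iff_not_dvd htp]
      exact not_dvd_card_of_complement P K hKc
    exact orderOf_eq_one_iff.mp (Nat.eq_one_of_dvd_coprimes h3 h2 h1)
  -- `T` centralizes `S`
  have hTcent : T ≤ centralizer ((S : Subgroup G) : Set G) := by
    intro x hx
    rw [mem_centralizer_iff]
    intro s hs
    have hxD : x ∈ ⁅M, M⁆ := hαD (hTα hx)
    have hc1 : x * s * x⁻¹ * s⁻¹ ∈ T := by
      have e : x * s * x⁻¹ * s⁻¹ = x * (s * x⁻¹ * s⁻¹) := by group
      rw [e]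
      apply mul_mem hx
      exact (mem_normalizer_iff.mp (hST hs) x⁻¹).mp (inv_mem hx)
    have hc2 : (⟨x * s * x⁻¹ * s⁻¹, hαD (hTα hc1)⟩ : ↥⁅M, M⁆) ∈ K := by
      have e : (⟨x * s * x⁻¹ * s⁻¹, hαD (hTα hc1)⟩ : ↥⁅M, M⁆)
          = (⟨x, hxD⟩ * ⟨s, hSD hs⟩ * ⟨x, hxD⟩⁻¹) * (⟨s, hSD hs⟩ : ↥⁅M, M⁆)⁻¹ := by
        apply Subtype.ext
        simp
      rw [e]
      exact mul_mem (hKn.conj_mem _ (hSK s hs) _) (inv_mem (hSK s hs))
    have hc := hTK _ hc1 hc2
    calc s * x = (x * s * x⁻¹ * s⁻¹)⁻¹ * (x * s) := by group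
      _ = x * s := by rw [hc]; group
  have hTL : T ≤ L := hTcent.trans ((Subgroup.centralizer_le_normalizer _).trans
    (h.normalizer_le.trans inf_le_right))
  -- `T` is a Sylow `t`-subgroup of `G`
  have hTtop : IsSylowIn t ⊤ T := by
    apply isSylowIn_of_card le_top
    rw [hTcard, Cfsg.Agent.Helper52.sylCard, Subgroup.card_top]
    congr 1
    have hidx : ¬ t ∣ (alphaCore M).index := (Cfsg.Agent.S1405.result hG M hM).2.1.2 t htp ht
    have hmul : Nat.card (alphaCore M) * (alphaCore M).index = Nat.card G :=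
      Subgroup.card_mul_index _
    rw [← hmul, Nat.factorization_mul Nat.card_pos.ne' (Subgroup.index_ne_zero_of_finite),
      Finsupp.add_apply, Nat.factorization_eq_zero_of_not_dvd hidx, add_zero]
  -- an elementary abelian subgroup of order `> t^2` of `M`, conjugated into `T ≤ L`
  have hr := ht.2
  unfold Cfsg.PRankLE at hr
  push Not at hr
  obtain ⟨A₀, hA₀c, hA₀e, hA₀card⟩ := hr
  obtain ⟨hcomm, hexp, hcard⟩ := elemAb_map_subtype A₀ hA₀c hA₀e
  have hA₀p : IsPGroup t (A₀.map M.subtype) := isPGroup_of_pow_eq_one _ hexp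
  obtain ⟨T', hAT', hT'⟩ := exists_isSylowIn_ge (K := (⊤ : Subgroup G)) hA₀p le_top
  obtain ⟨z, -, hz⟩ := exists_cj_eq_of_isSylowIn hT' hTtop
  have hle : Cfsg.Agent.Helper79.BG10.cj z (A₀.map M.subtype) ≤ L := by
    refine le_trans ?_ hTL
    rw [hz]
    exact cj_mono z hAT'
  have hαL : t ∈ alpha L := by
    refine ⟨htp, ?_⟩
    apply not_pRankLE_of_elemAb hle
    · rintro _ ⟨a, ha, rfl⟩ _ ⟨b, hb, rfl⟩
      rw [← map_mul, ← map_mul, hcomm a ha b hb]
    · rintro _ ⟨a, ha, rfl⟩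
      rw [← map_pow, hexp a ha, map_one]
    · rw [card_cj, hcard]; exact hA₀card
  exact h.left.alpha_disj t ht (alpha_subset_sigma hG (uniqHyp hG) h.right.coatom hαL)

end Cfsg.Agent.Helper21.BG139
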