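import Mathlib
import Cfsg.Agent.S1406
import Cfsg.Agent.S1409
import Cfsg.Agent.S1411
import Cfsg.Agent.S1415
import Cfsg.Agent.S1427
import Cfsg.Agent.Lib.Helper21.BG139Steps
import Cfsg.Agent.Lib.Helper98.BG139R9
import Cfsg.Agent.Lib.Helper82.BG139R1
import Cfsg.Agent.Lib.Helper58.BG139R12
import Cfsg.Agent.Lib.Helper99.FrobFR
import Cfsg.Agent.Lib.Helper25.BGHallConj
import Cfsg.Agent.Lib.Helper52.Coprime
import Cfsg.Agent.Lib.Helper52.CoprimeSylow
import Cfsg.Agent.Lib.Helper52.CoprimeHall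
import Cfsg.Agent.Lib.Helper34.BG10d
import Cfsg.Agent.Lib.Helper50.SubnormalSylow
import Cfsg.Agent.Lib.Helper1.ZCoprime
import Cfsg.Agent.Lib.Helper1.Coprime
import Cfsg.Agent.Lib.Helper15.BGV.Main27
import Cfsg.Agent.Lib.Helper78.BG121

/-!
# LEMMA AP (aligned pairs, for S1428 `case_alpha`)

`M`, `H` non-conjugate maximal subgroups, `S` a Sylow `q`-subgroup of `G` with `N_G(S) ≤ M ∩ H`
(`Aligned M H q S`).  Then there is no subgroup `P ≤ M ∩ H` of prime order `p ∈ τ₁(M) ∩ α(H)`.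

No use of S1428 (this is a piece of its proof); uses S1406 S1409 S1411 S1415 S1427 S1449 and the
refined Frobenius lemma `Helper99.FrobFR`.  The one-sided analysis (`E' ≤ C(S)`, `E = E₃E₁`,
`S = [S,E₁]`) is copied from helper53's `BG139a.sideOut` (its S1428-free half).
-/

set_option autoImplicit false
set_option linter.unusedSectionVars false
set_option linter.unusedVariables false
set_option linter.style.haveILetI false

namespace Cfsg.Agent.Helper21.BG139

open Subgroup Cfsg
open Cfsg.Agent.Helper16 Cfsg.Agent.Helper79.BG10 Cfsg.Agent.Helper55.BGB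
open scoped commutatorElement

section generic

variable {G : Type*} [Group G]

theorem ap_centralizer_zpowers (x : G) :
    centralizer ((zpowers x : Subgroup G) : Set G) = centralizer ({x} : Set G) := by
  ext y
  rw [mem_centralizer_iff, mem_centralizer_iff]
  constructor
  · intro h z hz
    rw [Set.mem_singleton_iff] at hz
    subst hz
    exact h z (mem_zpowers z)
  · intro h z hz
    obtain ⟨k, rfl⟩ := mem_zpowers_iff.mp hz
    have hc : Commute x y := h x rfl
    exact (hc.zpow_left k).eq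

theorem ap_mem_normalizer_commutator {A B : Subgroup G} {g : G}
    (hA : g ∈ normalizer (A : Set G)) (hB : g ∈ normalizer (B : Set G)) :
    g ∈ normalizer ((⁅A, B⁆ : Subgroup G) : Set G) := by
  apply Cfsg.Agent.Helper52.mem_normalizer_of_map_conj_eq
  rw [Subgroup.map_commutator, Cfsg.Agent.Helper52.map_conj_eq_of_mem_normalizer hA,
    Cfsg.Agent.Helper52.map_conj_eq_of_mem_normalizer hB]

/-- `K = [K, x]` in generator form -/
theorem ap_le_closure_comm {K : Subgroup G} {x : G} (hxK : x ∈ normalizer (K : Set G))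
    (hK : ⁅K, zpowers x⁆ = K) : K ≤ closure {g | ∃ u ∈ K, g = x * u * x⁻¹ * u⁻¹} := by
  set Cl : Subgroup G := closure {g | ∃ u ∈ K, g = x * u * x⁻¹ * u⁻¹} with hCl
  let T : Subgroup G :=
    { carrier := {z | z ∈ normalizer (K : Set G) ∧ ∀ k ∈ K, z * k * z⁻¹ * k⁻¹ ∈ Cl}
      one_mem' := ⟨one_mem _, fun k _ => by simp [one_mem]⟩
      mul_mem' := by
        rintro z w ⟨hz, hz'⟩ ⟨hw, hw'⟩
        refine ⟨mul_mem hz hw, fun k hk => ?_⟩
        have hk' : w * k * w⁻¹ ∈ K := (mem_normalizer_iff.mp hw k).mp hk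
        have e : z * w * k * (z * w)⁻¹ * k⁻¹ =
            (z * (w * k * w⁻¹) * z⁻¹ * (w * k * w⁻¹)⁻¹) * (w * k * w⁻¹ * k⁻¹) := by group
        rw [e]; exact mul_mem (hz' _ hk') (hw' k hk)
      inv_mem' := by
        rintro z ⟨hz, hz'⟩
        refine ⟨inv_mem hz, fun k hk => ?_⟩
        have hk' : z⁻¹ * k * z ∈ K := by
          have := (mem_normalizer_iff.mp (inv_mem hz) k).mp hk
          simpa using this
        have h1 := hz' _ hk'
        have e : z⁻¹ * k * z⁻¹⁻¹ * k⁻¹ = (z * (z⁻¹ * k * z) * z⁻¹ * (z⁻¹ * k * z)⁻¹)⁻¹ := by group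
        rw [e]; exact inv_mem h1 }
  have hxT : x ∈ T := ⟨hxK, fun k hk => subset_closure ⟨k, hk, rfl⟩⟩
  have hZT : zpowers x ≤ T := by rwa [zpowers_le]
  have key : ⁅K, zpowers x⁆ ≤ Cl := by
    rw [Subgroup.commutator_le]
    intro k hk z hz
    have h1 := (hZT hz).2 k hk
    have e : ⁅k, z⁆ = (z * k * z⁻¹ * k⁻¹)⁻¹ := by rw [commutatorElement_def]; group
    rw [e]; exact inv_mem h1
  intro y hy
  apply key
  rw [hK]; exact hy

/-- a subgroup `K` lies in `B` as soon as, for every prime `r` dividing `|K|`, some subgroup of `K`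
of order the full `r`-part of `|K|` lies in `B` (copied from helper68 `BG139R7`) -/
theorem ap_le_of_forall_full_part_le [Finite G] {K B : Subgroup G}
    (h : ∀ r : ℕ, r.Prime → r ∣ Nat.card K → ∃ T : Subgroup G, T ≤ K ∧
      Nat.card T = r ^ (Nat.card K).factorization r ∧ T ≤ B) : K ≤ B := by
  have hdvd : Nat.card K ∣ Nat.card (K ⊓ B : Subgroup G) := by
    rw [← Nat.factorization_le_iff_dvd Nat.card_pos.ne' Nat.card_pos.ne', Finsupp.le_def]
    intro r
    by_cases hr : r.Prime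
    · by_cases hrK : r ∣ Nat.card K
      · obtain ⟨T, hTK, hTc, hTH⟩ := h r hr hrK
        have h1 : r ^ (Nat.card K).factorization r ∣ Nat.card (K ⊓ B : Subgroup G) := by
          rw [← hTc]; exact Subgroup.card_dvd_of_le (le_inf hTK hTH)
        exact (hr.pow_dvd_iff_le_factorization Nat.card_pos.ne').mp h1
      · rw [Nat.factorization_eq_zero_of_not_dvd hrK]; exact Nat.zero_le _
    · rw [Nat.factorization_eq_zero_of_not_prime _ hr]; exact Nat.zero_le _
  have hle : Nat.card K ≤ Nat.card (K ⊓ B : Subgroup G) := Nat.le_of_dvd Nat.card_pos hdvd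
  have h2 : (K ⊓ B : Subgroup G) = K := Subgroup.eq_of_le_of_card_ge inf_le_left hle
  rw [← h2]; exact inf_le_right

/-- the elements of a commutative subgroup `E1` whose order is prime to `m` -/
def coprimePart (E1 : Subgroup G) (hc : ∀ a ∈ E1, ∀ b ∈ E1, a * b = b * a) (m : ℕ) :
    Subgroup G where
  carrier := {x | x ∈ E1 ∧ (orderOf x).Coprime m}
  one_mem' := ⟨one_mem _, by rw [orderOf_one]; exact Nat.coprime_one_left m⟩
  mul_mem' := by
    rintro a b ⟨ha, hac⟩ ⟨hb, hbc⟩
    refine ⟨mul_mem ha hb, ?_⟩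
    have hcomm : Commute a b := hc a ha b hb
    exact Nat.Coprime.coprime_dvd_left
      (hcomm.orderOf_mul_dvd_lcm.trans (Nat.lcm_dvd_mul _ _)) (Nat.Coprime.mul_left hac hbc)
  inv_mem' := by
    rintro a ⟨ha, hac⟩
    exact ⟨inv_mem ha, by rw [orderOf_inv]; exact hac⟩

theorem coprimePart_le (E1 : Subgroup G) (hc : ∀ a ∈ E1, ∀ b ∈ E1, a * b = b * a) (m : ℕ) :
    coprimePart E1 hc m ≤ E1 := fun _ hx => hx.1

theorem card_coprimePart_coprime [Finite G] (E1 : Subgroup G)
    (hc : ∀ a ∈ E1, ∀ b ∈ E1, a * b = b * a) (m : ℕ) :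
    (Nat.card (coprimePart E1 hc m)).Coprime m := by
  apply Nat.coprime_of_dvd
  intro t ht hd hd'
  haveI := Fact.mk ht
  obtain ⟨⟨x, hx⟩, hxo⟩ := exists_prime_orderOf_dvd_card' (G := ↥(coprimePart E1 hc m)) t hd
  have hxo' : orderOf x = t := by rw [← hxo, Subgroup.orderOf_mk]
  have h1 : (orderOf x).Coprime m := hx.2
  rw [hxo'] at h1
  exact ht.one_lt.ne' (Nat.Coprime.eq_one_of_dvd h1 hd')

/-- a `p`-subgroup of `M`, `p ∈ π`, lies in a normal Hall `π`-core of `M` (cf. helper55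
`le_sigmaCore_of_isPGroup`) -/
theorem le_piCore_map_of_isPGroup [Finite G] {π : Set ℕ} {M Q : Subgroup G} {p : ℕ} (hp : p.Prime)
    (hHall : Cfsg.IsPiHallOf π ((Cfsg.piCore π M).map M.subtype) M) (hpπ : p ∈ π)
    (hQM : Q ≤ M) (hQ : IsPGroup p Q) : Q ≤ (Cfsg.piCore π M).map M.subtype := by
  haveI := Fact.mk hp
  set N : Subgroup M := Cfsg.piCore π M with hN
  have hidx : N.index = ((Cfsg.piCore π M).map M.subtype).relIndex M := by
    unfold Subgroup.relIndex
    congr 1
    exact (Subgroup.comap_map_eq_self_of_injective M.subtype_injective _).symm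
  have hnd : ¬ p ∣ N.index := by rw [hidx]; exact hHall.2.2 p hp hpπ
  intro x hx
  have hxM : x ∈ M := hQM hx
  obtain ⟨k, hk⟩ := hQ ⟨x, hx⟩
  have hxk : x ^ p ^ k = 1 := by
    have := congrArg Subtype.val hk
    simpa using this
  set y : M := ⟨x, hxM⟩ with hy
  have hyk : y ^ p ^ k = 1 := Subtype.ext (by simpa using hxk)
  have hq : ((QuotientGroup.mk' N) y) ^ p ^ k = 1 := by rw [← map_pow, hyk, map_one]
  have ho1 : orderOf ((QuotientGroup.mk' N) y) ∣ p ^ k := orderOf_dvd_of_pow_eq_one hq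
  have ho2 : orderOf ((QuotientGroup.mk' N) y) ∣ N.index := by
    rw [Subgroup.index_eq_card]; exact orderOf_dvd_natCard _
  have hcop : (p ^ k).Coprime N.index := by
    apply Nat.Coprime.pow_left
    exact (Nat.Prime.coprime_iff_not_dvd hp).mpr hnd
  have ho : orderOf ((QuotientGroup.mk' N) y) = 1 :=
    Nat.eq_one_of_dvd_coprimes hcop ho1 ho2
  have hyN : y ∈ N := by
    have := orderOf_eq_one_iff.mp ho
    exact (QuotientGroup.eq_one_iff y).mp this
  exact ⟨y, hyN, rfl⟩

/-- in a commutative subgroup `S`, every subgroup is normalized by `S` -/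
theorem ap_le_normalizer_of_comm {S X : Subgroup G} (hS : ∀ a ∈ S, ∀ b ∈ S, a * b = b * a)
    (hXS : X ≤ S) : S ≤ normalizer (X : Set G) := by
  intro y hy
  rw [mem_normalizer_iff]
  intro k
  constructor
  · intro hk
    have : y * k * y⁻¹ = k := by rw [hS y hy k (hXS hk)]; group
    rwa [this]
  · intro hk
    have h1 : y⁻¹ * (y * k * y⁻¹) = (y * k * y⁻¹) * y⁻¹ := hS _ (inv_mem hy) _ (hXS hk)
    have : k = y * k * y⁻¹ := by
      calc k = y⁻¹ * (y * k * y⁻¹) * y := by group
        _ = (y * k * y⁻¹) * y⁻¹ * y := by rw [h1]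
        _ = y * k * y⁻¹ := by group
    rw [this]; exact hk

end generic

section main

variable {G : Type*} [Group G] [Finite G]

/-- `N_{M_σ}(S)` centralizes `S` (copied from helper53 `BG139a`). -/
theorem ap_sigma_inf_normalizer_le_centralizer {M L : Subgroup G} {q : ℕ} {S : Sylow q G}
    (h : Side M L q S) :
    sigmaCore M ⊓ normalizer ((S : Subgroup G) : Set G) ≤
      centralizer ((S : Subgroup G) : Set G) := by
  intro n hn
  obtain ⟨hnK, hnN⟩ := Subgroup.mem_inf.mp hn
  rw [Subgroup.mem_centralizer_iff]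
  intro s hs
  have h1 : ⁅s, n⁆ ∈ (S : Subgroup G) := by
    rw [commutatorElement_def]
    have h0 : n * s⁻¹ * n⁻¹ ∈ (S : Subgroup G) :=
      (Subgroup.mem_normalizer_iff.mp hnN s⁻¹).mp (inv_mem hs)
    have e : s * n * s⁻¹ * n⁻¹ = s * (n * s⁻¹ * n⁻¹) := by group
    rw [e]; exact mul_mem hs h0
  have h2 : ⁅s, n⁆ ∈ ⁅sigmaCore M, sigmaCore M⁆ :=
    Subgroup.commutator_mem_commutator (h.S_le hs) hnK
  have h3 : ⁅s, n⁆ ∈ (S : Subgroup G) ⊓ ⁅sigmaCore M, sigmaCore M⁆ := ⟨h1, h2⟩
  rw [h.S_inf_comm, Subgroup.mem_bot, commutatorElement_def] at h3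
  calc s * n = (s * n * s⁻¹ * n⁻¹) * n * s := by group
    _ = n * s := by rw [h3]; group

/-- a complement of `M_σ` inside `N_G(S)` (copied from helper53 `BG139a`). -/
theorem ap_exists_compl_le_normalizer (hG : IsMinSimpleOddOrder G) {M L : Subgroup G} {q : ℕ}
    {S : Sylow q G} (h : Side M L q S) (hNM : normalizer ((S : Subgroup G) : Set G) ≤ M) :
    ∃ E : Subgroup G, E ≤ normalizer ((S : Subgroup G) : Set G) ∧ IsComplIn E (sigmaCore M) M := by
  have h5 := Cfsg.Agent.S1405.result hG M h.coatom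
  have hασ : alphaCore M ≤ sigmaCore M := h5.2.2.1
  apply Cfsg.Agent.Helper98.BG139Req.exists_compl_le M (sigmaCore M) _ (sigmaCore_le M)
    (le_normalizer_sigmaCore M) ?_ hNM ?_
  · apply Nat.coprime_of_dvd
    intro p hp hd hd'
    exact h.hall.2.2 p hp (h.hall.2.1 p hp hd) hd'
  · calc M = alphaCore M ⊔ normalizer ((S : Subgroup G) : Set G) := h.factor.symm
      _ ≤ sigmaCore M ⊔ normalizer ((S : Subgroup G) : Set G) := sup_le_sup_right hασ _

end main

section main2

variable {G : Type*} [Group G] [Finite G]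

/-- LEMMA AP with `P ≤ E₁` already arranged. -/
theorem lemma_AP_aux (hG : IsMinSimpleOddOrder G) {M H : Subgroup G} {q : ℕ} [hq : Fact q.Prime]
    {S : Sylow q G} (h : Aligned M H q S) {E E1 : Subgroup G} (hE : IsComplIn E (sigmaCore M) M)
    (hEN : E ≤ normalizer ((S : Subgroup G) : Set G)) (hE1 : IsPiHallOf (tau1 M) E1 E)
    {p : ℕ} (hpα : p ∈ alpha H) (P : Subgroup G) (hPE1 : P ≤ E1) (hP : Nat.card P = p) :
    False := by
  classical
  have st := h.setup hG
  have st' := h.symm.setup hG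
  have hM := h.hM
  have hH := h.hL
  have hNM : normalizer ((S : Subgroup G) : Set G) ≤ M := h.normalizer_le.trans inf_le_left
  have hNH : normalizer ((S : Subgroup G) : Set G) ≤ H := h.normalizer_le.trans inf_le_right
  have hpp : p.Prime := hpα.1
  haveI : Fact p.Prime := ⟨hpp⟩
  have hab := st.abelian
  have hrk := st.rank
  -- ===== one-sided analysis for `M` (from helper53 `sideOut`, S1428-free half) =====
  have hEM : E ≤ M := hE.1
  have hE1E : E1 ≤ E := hE1.1
  have hCsN : centralizer ((S : Subgroup G) : Set G) ≤ normalizer ((S : Subgroup G) : Set G) :=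
    Subgroup.centralizer_le_normalizer _
  have hEs : Group.IsSolvable E := Cfsg.Agent.Helper15.BGV.solv_of_le_coatom hG hM hEM
  have hodd : Odd (Nat.card G) := hG.1
  have hEodd : Odd (Nat.card E) := Odd.of_dvd_nat hodd (Subgroup.card_subgroup_dvd_card E)
  have hq2 : q ≠ 2 := by
    rintro rfl
    have h1 : 2 ∣ Nat.card G := st.left.mem_sigma.2.1.trans (Subgroup.card_subgroup_dvd_card M)
    exact (Nat.not_even_iff_odd.mpr hodd) (even_iff_two_dvd.mpr h1)
  have hp2 : p ≠ 2 := by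
    rintro rfl
    have h0 : 2 ∈ sigma H := alpha_subset_sigma hG (uniqHyp hG) hH hpα
    have h1 : 2 ∣ Nat.card G := h0.2.1.trans (Subgroup.card_subgroup_dvd_card H)
    exact (Nat.not_even_iff_odd.mpr hodd) (even_iff_two_dvd.mpr h1)
  have hqE : ¬ q ∣ Nat.card E := fun hd =>
    Cfsg.Agent.Helper15.BGV.not_mem_sigma_of_dvd_card_compl hG hM hE hq.out hd st.left.mem_sigma
  have hEq : (Nat.card E).Coprime q :=
    (Nat.Prime.coprime_iff_not_dvd hq.out).mpr hqE |>.symm
  have hSp : IsPGroup q (S : Subgroup G) := S.2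
  have hE' : ⁅E, E⁆ ≤ centralizer ((S : Subgroup G) : Set G) :=
    Cfsg.Agent.Helper82.BG139Req.commutator_le_centralizer_of_prankLE_two q hq2 _ E hSp
      (hrk q hq.out) hEN hEs hEodd hEq
  obtain ⟨E3, hE3, hgen, hcop31, hcardE⟩ :=
    Cfsg.Agent.Helper58.BG139Req.exists_hall_tau3 hG M hM st.left.tau2_empty E hE E1 hE1
  have h15 := Cfsg.Agent.S1415.result hG M hM E hE
  have hE1cyc : IsCyclic E1 := h15.2.1 E1 hE1
  obtain ⟨hE3cyc, hE3le, hE3n⟩ := h15.2.2 E3 hE3
  have hE1comm : IsMulCommutative E1 := by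
    have := hE1cyc
    exact ⟨⟨fun a b => (IsCyclic.commGroup (α := E1)).mul_comm a b⟩⟩
  have hE1c : ∀ a ∈ E1, ∀ b ∈ E1, a * b = b * a := fun a ha b hb =>
    congrArg Subtype.val (hE1comm.is_comm.comm ⟨a, ha⟩ ⟨b, hb⟩)
  have hSc : ∀ a ∈ (S : Subgroup G), ∀ b ∈ (S : Subgroup G), a * b = b * a := fun a ha b hb =>
    congrArg Subtype.val (hab.is_comm.comm ⟨a, ha⟩ ⟨b, hb⟩)
  have hE3Cs : E3 ≤ centralizer ((S : Subgroup G) : Set G) := hE3le.trans hE'
  have hE1N : E1 ≤ normalizer ((S : Subgroup G) : Set G) := hE1E.trans hEN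
  have hKN := ap_sigma_inf_normalizer_le_centralizer st.left
  have hnorm_le : normalizer ((S : Subgroup G) : Set G) ≤
      centralizer ((S : Subgroup G) : Set G) ⊔ E1 := by
    intro n hn
    obtain ⟨e, he, k, hk, rfl⟩ := hE.2.2.2 n (hNM hn)
    have hkN : k ∈ normalizer ((S : Subgroup G) : Set G) := by
      have : k = e⁻¹ * (e * k) := by group
      rw [this]; exact mul_mem (inv_mem (hEN he)) hn
    have hkC : k ∈ centralizer ((S : Subgroup G) : Set G) := hKN ⟨hk, hkN⟩
    have heS : e ∈ E3 ⊔ E1 := hgen he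
    have he' : e ∈ centralizer ((S : Subgroup G) : Set G) ⊔ E1 :=
      (sup_le_sup_right hE3Cs E1) heS
    exact mul_mem he' ((le_sup_left : _ ≤ centralizer ((S : Subgroup G) : Set G) ⊔ E1) hkC)
  have hE1Cs : E1 ≤ normalizer ((centralizer ((S : Subgroup G) : Set G) : Subgroup G) : Set G) := by
    intro e he
    have heN := hE1N he
    rw [Subgroup.mem_normalizer_iff]
    intro c
    have key : ∀ (g : G), g ∈ normalizer ((S : Subgroup G) : Set G) →
        ∀ c, c ∈ centralizer ((S : Subgroup G) : Set G) →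
        g * c * g⁻¹ ∈ centralizer ((S : Subgroup G) : Set G) := by
      intro g hg c hc
      rw [Subgroup.mem_centralizer_iff] at hc ⊢
      intro s hs
      have hs' : g⁻¹ * s * g ∈ (S : Subgroup G) := by
        have := (Subgroup.mem_normalizer_iff.mp (inv_mem hg) s).mp hs
        simpa using this
      have := hc _ hs'
      calc s * (g * c * g⁻¹) = g * ((g⁻¹ * s * g) * c) * g⁻¹ := by group
        _ = g * (c * (g⁻¹ * s * g)) * g⁻¹ := by rw [this]
        _ = g * c * g⁻¹ * s := by group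
    constructor
    · intro hc; exact key e heN c hc
    · intro hc
      have := key e⁻¹ (inv_mem heN) _ hc
      have e2 : e⁻¹ * (e * c * e⁻¹) * e⁻¹⁻¹ = c := by group
      rwa [e2] at this
  have hSne : (S : Subgroup G) ≠ ⊥ :=
    S.ne_bot_of_dvd_card (st.left.mem_sigma.2.1.trans (Subgroup.card_subgroup_dvd_card M))
  obtain ⟨kq, hkq⟩ := IsPGroup.iff_card.mp hSp
  have hSE1 : ⁅(S : Subgroup G), E1⁆ = (S : Subgroup G) := by
    apply le_antisymm (Cfsg.Agent.Helper1.commutator_le_of_le_normalizer hE1N)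
    have hcopS : (Nat.card (S : Subgroup G)).Coprime
        ((S : Subgroup G).relIndex (normalizer ((S : Subgroup G) : Set G))) := by
      rw [hkq]
      apply Nat.Coprime.pow_left
      rw [Nat.Prime.coprime_iff_not_dvd hq.out]
      intro hd
      exact S.not_dvd_index (hd.trans (Subgroup.relIndex_dvd_index_of_le Subgroup.le_normalizer))
    obtain ⟨V, hVN, hV⟩ := Cfsg.Agent.Helper98.BG139Req.exists_compl_le
      (normalizer ((S : Subgroup G) : Set G))
      (S : Subgroup G) (normalizer ((S : Subgroup G) : Set G)) Subgroup.le_normalizer le_rfl hcopS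
      le_rfl le_sup_right
    have hV' : IsComplIn (S : Subgroup G) V (normalizer ((S : Subgroup G) : Set G)) := by
      refine ⟨hV.2.1, hV.1, by rw [inf_comm]; exact hV.2.2.1, ?_⟩
      intro m hm
      obtain ⟨v, hv, s, hs, hvs⟩ := hV.2.2.2 m⁻¹ (inv_mem hm)
      refine ⟨s⁻¹, inv_mem hs, v⁻¹, inv_mem hv, ?_⟩
      rw [← mul_inv_rev, ← hvs, inv_inv]
    have h11 := (Cfsg.Agent.S1411.result hG q S V hV').1
    rw [h11, Subgroup.commutator_le]
    rw [← h11]
    intro s hs v hv
    have hvN : v ∈ normalizer ((S : Subgroup G) : Set G) := hV.1 hv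
    obtain ⟨c, hc, e, he, rfl⟩ := Cfsg.Agent.Helper15.BGV.mem_sup_decomp hE1Cs (hnorm_le hvN)
    have hse : ⁅s, e⁆ ∈ ⁅(S : Subgroup G), E1⁆ := Subgroup.commutator_mem_commutator hs he
    have hseS : ⁅s, e⁆ ∈ (S : Subgroup G) :=
      Cfsg.Agent.Helper1.commutator_le_of_le_normalizer hE1N hse
    rw [Subgroup.mem_centralizer_iff] at hc
    have h1 := hc s hs
    have h2 := hc _ hseS
    have e1 : ⁅s, c * e⁆ = ⁅s, e⁆ := by
      rw [commutatorElement_def, commutatorElement_def] at *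
      calc s * (c * e) * s⁻¹ * (c * e)⁻¹ = (s * c) * e * s⁻¹ * e⁻¹ * c⁻¹ := by group
        _ = (c * s) * e * s⁻¹ * e⁻¹ * c⁻¹ := by rw [h1]
        _ = c * (s * e * s⁻¹ * e⁻¹) * c⁻¹ := by group
        _ = (s * e * s⁻¹ * e⁻¹) * c * c⁻¹ := by rw [h2]
        _ = s * e * s⁻¹ * e⁻¹ := by group
    rw [e1]; exact hse
  -- ===== the `H`-side =====
  have hE1H : E1 ≤ H := hE1N.trans hNH
  have hSH : (S : Subgroup G) ≤ H := h.S_le_L
  have hqαH : q ∉ alpha H := fun hq' => st.right.alpha_disj q hq' st.left.mem_sigma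
  have h5H := Cfsg.Agent.S1405.result hG H hH
  have hαhall : IsPiHallOf (alpha H) (alphaCore H) H := h5H.1
  have hασH : alpha H ⊆ sigma H := alpha_subset_sigma hG (uniqHyp hG) hH
  -- (G1) `P ≤ H_α` and `P` centralizes `S`
  have hPH : P ≤ H := hPE1.trans hE1H
  have hPp : IsPGroup p P := IsPGroup.of_card (n := 1) (by rw [hP, pow_one])
  have hPα : P ≤ alphaCore H := le_piCore_map_of_isPGroup hpp hαhall hpα hPH hPp
  have hPM : P ≤ M := (hPE1.trans hE1E).trans hEM
  have hPCS : P ≤ centralizer ((S : Subgroup G) : Set G) := by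
    have h1 : P ≤ alphaCore H ⊓ M := le_inf hPα hPM
    rw [st.right.alpha_inf] at h1
    exact h1.trans inf_le_right
  -- (G2) `C_{H_α}(S)` has rank at most 1
  have hrkS : RankLE 1 ↥(alphaCore H ⊓ centralizer ((S : Subgroup G) : Set G)) := by
    by_contra hr
    have hu := Cfsg.Agent.S1406.result hG H hH (S : Subgroup G) hSH ?_ hr
    · exact h.ne (eq_of_inUniqueMaximal hu hM hH (inf_le_right.trans (hCsN.trans hNM)) inf_le_left)
    · intro t ht htd
      rw [hkq] at htd
      have := (Nat.prime_dvd_prime_iff_eq ht hq.out).mp (ht.dvd_of_dvd_pow htd)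
      rw [this]; exact hqαH
  -- (G3) elements of prime order of `E₁` acting nontrivially on `S`
  have hG3 : ∀ x ∈ E1, ∀ s : ℕ, s.Prime → orderOf x = s →
      x ∉ centralizer ((S : Subgroup G) : Set G) →
      s ∉ sigma H ∧ RankLE 1 ↥(alphaCore H ⊓ centralizer ({x} : Set G)) := by
    intro x hx s hs hxo hxS
    haveI : Fact s.Prime := ⟨hs⟩
    have hxH : x ∈ H := hE1H hx
    have hZcard : Nat.card (zpowers x) = s := by rw [Nat.card_zpowers, hxo]
    have hZp : IsPGroup s (zpowers x) := IsPGroup.of_card (n := 1) (by rw [hZcard, pow_one])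
    have hZH : zpowers x ≤ H := by rwa [zpowers_le]
    have hsσ : s ∉ sigma H := by
      intro hsσ
      have h1 : zpowers x ≤ sigmaCore H :=
        le_sigmaCore_of_isPGroup hs st.right.hall hsσ hZH hZp
      have h2 : x ∈ sigmaCore H ⊓ normalizer ((S : Subgroup G) : Set G) :=
        ⟨h1 (mem_zpowers x), hE1N hx⟩
      exact hxS (ap_sigma_inf_normalizer_le_centralizer st.right h2)
    refine ⟨hsσ, ?_⟩
    have hsα : s ∉ alpha H := fun h' => hsσ (hασH h')
    have hr2 : PRankLE s 2 H := prankLE_two_of_not_mem_sigma hs hαhall h5H.2.2.1 hsσ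
    have hr1 : PRankLE s 1 H := by
      by_contra hr1
      have h2 : s ∈ tau2 H := ⟨hs, hsσ, hr2, hr1⟩
      rw [st.right.tau2_empty] at h2
      exact h2
    have hNx : ¬ normalizer ((zpowers x : Subgroup G) : Set G) ≤ H := by
      intro hle
      exact (Cfsg.Agent.S1409.result hG H hH s hsσ (zpowers x) hZcard hle).1.2 hr1
    by_contra hr
    have hu := Cfsg.Agent.S1406.result hG H hH (zpowers x) hZH ?_
      (by rw [ap_centralizer_zpowers]; exact hr)
    · have hNtop : normalizer ((zpowers x : Subgroup G) : Set G) ≠ ⊤ := by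
        intro htop
        haveI : IsSimpleGroup G := hG.2.1
        have hn : (zpowers x).Normal := Subgroup.normalizer_eq_top_iff.mp htop
        rcases hn.eq_bot_or_eq_top with hb | ht
        · rw [hb, Subgroup.card_bot] at hZcard
          exact hs.one_lt.ne hZcard
        · apply hH.1
          rw [eq_top_iff, ← ht]; exact hZH
      obtain ⟨L', hL', hNL'⟩ := (eq_top_or_exists_le_coatom _).resolve_left hNtop
      have hXL' : H ⊓ centralizer ((zpowers x : Subgroup G) : Set G) ≤ L' :=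
        inf_le_right.trans ((Subgroup.centralizer_le_normalizer _).trans hNL')
      have hL'H : L' = H := eq_of_inUniqueMaximal hu hH hL' inf_le_left hXL'
      exact hNx (hL'H ▸ hNL')
    · intro t ht htd
      rw [hZcard] at htd
      have := (Nat.prime_dvd_prime_iff_eq ht hs).mp htd
      rw [this]; exact hsα
  -- (G4) the group `A = S U` and an `A`-invariant Sylow `p`-subgroup of `H_α` over `P`
  obtain ⟨m, hm⟩ : ∃ m, m = Nat.card (alphaCore H) := ⟨_, rfl⟩
  obtain ⟨U, hU⟩ : ∃ U, U = coprimePart E1 hE1c m := ⟨_, rfl⟩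
  have hUE1 : U ≤ E1 := by rw [hU]; exact coprimePart_le E1 hE1c m
  have hUN : U ≤ normalizer ((S : Subgroup G) : Set G) := hUE1.trans hE1N
  have hAH : (S : Subgroup G) ⊔ U ≤ H := sup_le hSH (hUE1.trans hE1H)
  have hAα : (S : Subgroup G) ⊔ U ≤ normalizer (alphaCore H : Set G) :=
    hAH.trans (le_normalizer_alphaCore H)
  have hSm : (Nat.card (S : Subgroup G)).Coprime m := by rw [hm]; exact st'.coprime_alphaCore hG
  have hcopA : (Nat.card ((S : Subgroup G) ⊔ U : Subgroup G)).Coprime (Nat.card (alphaCore H)) := by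
    have h1 := Cfsg.Agent.Helper50.card_sup_mul_card_inf_of_le_normalizer (S : Subgroup G) U hUN
    have h2 : Nat.card ((S : Subgroup G) ⊔ U : Subgroup G) ∣ Nat.card (S : Subgroup G) * Nat.card U :=
      Dvd.intro _ h1
    rw [← hm]
    refine Nat.Coprime.coprime_dvd_left h2 (Nat.Coprime.mul_left hSm ?_)
    rw [hU]; exact card_coprimePart_coprime E1 hE1c m
  have hAP : (S : Subgroup G) ⊔ U ≤ normalizer (P : Set G) := by
    refine le_trans ?_ (Subgroup.centralizer_le_normalizer _)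
    apply sup_le
    · intro u hu
      rw [mem_centralizer_iff]
      intro y hy
      exact ((mem_centralizer_iff.mp (hPCS hy)) u hu).symm
    · intro e he
      rw [mem_centralizer_iff]
      intro y hy
      exact hE1c y (hPE1 hy) e (hUE1 he)
  have hsolvα : Group.IsSolvable (alphaCore H) :=
    Cfsg.Agent.Helper15.BGV.solv_of_le_coatom hG hH hαhall.1
  obtain ⟨Pst, hPstα, hPstcard, hPPst, hAPst⟩ := Cfsg.Agent.Helper52.exists_invariant_sylow_ge
    ((S : Subgroup G) ⊔ U) (alphaCore H) hAα hcopA (Or.inr hsolvα) p P hPα hPp hAP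
  have hPstp : IsPGroup p Pst :=
    IsPGroup.of_card (by rw [hPstcard, Cfsg.Agent.Helper52.sylCard])
  have hpq : p ≠ q := fun e => hqαH (e ▸ hpα)
  -- (G5) the refined Frobenius lemma
  have hG5 : ∀ x ∈ E1, (orderOf x).Prime → x ∉ centralizer ((S : Subgroup G) : Set G) →
      Pst ≤ centralizer ((⁅(S : Subgroup G), zpowers x⁆ : Subgroup G) : Set G) := by
    intro x hx hxo hxS
    obtain ⟨s, hs⟩ : ∃ s, s = orderOf x := ⟨_, rfl⟩
    rw [← hs] at hxo
    obtain ⟨hsσ, hrkx⟩ := hG3 x hx s hxo hs.symm hxS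
    have hsα : s ∉ alpha H := fun h' => hsσ (hασH h')
    have hsm : s.Coprime m := by
      rw [Nat.Prime.coprime_iff_not_dvd hxo, hm]
      intro hd
      exact hsα (hαhall.2.1 s hxo hd)
    have hxU : x ∈ U := by
      rw [hU]
      exact ⟨hx, by rw [← hs]; exact hsm⟩
    have hxA : x ∈ (S : Subgroup G) ⊔ U := (le_sup_right : U ≤ (S : Subgroup G) ⊔ U) hxU
    have hxN : x ∈ normalizer ((S : Subgroup G) : Set G) := hE1N hx
    have hZN : zpowers x ≤ normalizer ((S : Subgroup G) : Set G) := by rwa [zpowers_le]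
    have hKS : ⁅(S : Subgroup G), zpowers x⁆ ≤ (S : Subgroup G) :=
      Cfsg.Agent.Helper1.commutator_le_of_le_normalizer hZN
    have hsq : s ≠ q := fun e => hsσ (e ▸ st.right.mem_sigma)
    have hps : p ≠ s := fun e => hsα (e ▸ hpα)
    have hZcard : Nat.card (zpowers x) = s := by rw [Nat.card_zpowers, hs]
    have hcopZS : (Nat.card (zpowers x)).Coprime (Nat.card (S : Subgroup G)) := by
      rw [hZcard, hkq]
      exact Nat.Coprime.pow_right _ ((Nat.coprime_primes hxo hq.out).mpr hsq)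
    have hsolvS : Group.IsSolvable (S : Subgroup G) := by
      haveI : Group.IsNilpotent (S : Subgroup G) := hSp.isNilpotent
      infer_instance
    have hKK : ⁅⁅(S : Subgroup G), zpowers x⁆, zpowers x⁆ = ⁅(S : Subgroup G), zpowers x⁆ :=
      Cfsg.Agent.Helper52.commutator_commutator_eq (S : Subgroup G) (zpowers x) hZN hcopZS
        (Or.inr hsolvS)
    have hxK : x ∈ normalizer ((⁅(S : Subgroup G), zpowers x⁆ : Subgroup G) : Set G) :=
      ap_mem_normalizer_commutator hxN (Subgroup.le_normalizer (mem_zpowers x))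
    have hgen := ap_le_closure_comm hxK hKK
    have hcyc : IsCyclic ↥(Pst ⊓ centralizer ({x} : Set G)) := by
      apply Cfsg.Agent.Helper34.BG.isCyclic_of_pRankLE_one hp2 (hPstp.to_le inf_le_left)
      by_contra hnr
      exact (not_pRankLE_mono (inf_le_inf_right _ hPstα) hnr) (hrkx p hpp)
    have hPx : P ≤ centralizer ({x} : Set G) := by
      intro y hy
      rw [mem_centralizer_iff]
      intro z hz
      rw [Set.mem_singleton_iff] at hz
      subst hz
      exact hE1c z hx y (hPE1 hy)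
    exact Cfsg.Agent.Helper99.FrobFR.frob_centralizes_of_cyclic hpp hq.out hxo hp2 hq2 hpq hps
      hsq.symm Pst ⁅(S : Subgroup G), zpowers x⁆ x hPstp (hSp.to_le hKS)
      (hKS.trans ((le_sup_left : (S : Subgroup G) ≤ (S : Subgroup G) ⊔ U).trans hAPst))
      (hAPst hxA) hxK (by rw [hs]; exact pow_orderOf_eq_one x) hgen hcyc P hP hPPst hPx
      (hPCS.trans (Subgroup.centralizer_le hKS))
  -- (G6) `S` is generated by the `[S, x]`, `x ∈ E₁` of prime order
  obtain ⟨S0, hS0⟩ : ∃ S0 : Subgroup G, S0 = closure {g | ∃ x ∈ E1, (∃ r : ℕ, r.Prime ∧ x ^ r = 1) ∧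
      ∃ u ∈ (S : Subgroup G), g = x * u * x⁻¹ * u⁻¹} := ⟨_, rfl⟩
  have hS0gen : ∀ x ∈ E1, ∀ r : ℕ, r.Prime → x ^ r = 1 → ∀ u ∈ (S : Subgroup G),
      x * u * x⁻¹ * u⁻¹ ∈ S0 := by
    intro x hx r hr hxr u hu
    rw [hS0]
    exact subset_closure ⟨x, hx, ⟨r, hr, hxr⟩, u, hu, rfl⟩
  have hS0C : S0 ≤ centralizer (Pst : Set G) := by
    rw [hS0, closure_le]
    rintro _ ⟨x, hx, ⟨r, hr, hxr⟩, u, hu, rfl⟩
    by_cases hxS : x ∈ centralizer ((S : Subgroup G) : Set G)
    · have h1 : u * x = x * u := (mem_centralizer_iff.mp hxS) u hu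
      have h2 : x * u * x⁻¹ * u⁻¹ = 1 := by rw [← h1]; group
      rw [h2]; exact one_mem _
    · have hx1 : x ≠ 1 := by
        rintro rfl
        exact hxS (one_mem _)
      haveI : Fact r.Prime := ⟨hr⟩
      have hxo : orderOf x = r := orderOf_eq_prime hxr hx1
      have hK := hG5 x hx (by rw [hxo]; exact hr) hxS
      have hmem : x * u * x⁻¹ * u⁻¹ ∈ ⁅(S : Subgroup G), zpowers x⁆ := by
        have h1 := Subgroup.commutator_mem_commutator (mem_zpowers x) hu
        rw [Subgroup.commutator_comm, commutatorElement_def] at h1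
        exact h1
      rw [SetLike.mem_coe, mem_centralizer_iff]
      intro y hy
      exact ((mem_centralizer_iff.mp (hK hy)) _ hmem).symm
  have hS0inv : ∀ e ∈ E1, ∀ g ∈ S0, e * g * e⁻¹ ∈ S0 := by
    intro e he
    have hle : S0 ≤ S0.comap (MulAut.conj e).toMonoidHom := by
      conv_lhs => rw [hS0]
      rw [closure_le]
      rintro _ ⟨x, hx, ⟨r, hr, hxr⟩, u, hu, rfl⟩
      show (MulAut.conj e) (x * u * x⁻¹ * u⁻¹) ∈ S0
      rw [MulAut.conj_apply]
      have hc : e * x = x * e := hE1c e he x hx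
      have h1 : e * x * e⁻¹ = x := by rw [hc]; group
      have e1 : e * (x * u * x⁻¹ * u⁻¹) * e⁻¹ =
          (e * x * e⁻¹) * (e * u * e⁻¹) * (e * x * e⁻¹)⁻¹ * (e * u * e⁻¹)⁻¹ := by group
      rw [e1, h1]
      exact hS0gen x hx r hr hxr _ ((mem_normalizer_iff.mp (hE1N he) u).mp hu)
    intro g hg
    have := hle hg
    rwa [Subgroup.mem_comap, MulEquiv.coe_toMonoidHom, MulAut.conj_apply] at this
  let B : Subgroup G :=
    { carrier := {e | e ∈ E1 ∧ ∀ u ∈ (S : Subgroup G), e * u * e⁻¹ * u⁻¹ ∈ S0}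
      one_mem' := ⟨one_mem _, fun u _ => by simp [one_mem]⟩
      mul_mem' := by
        rintro e f ⟨he, he'⟩ ⟨hf, hf'⟩
        refine ⟨mul_mem he hf, fun u hu => ?_⟩
        have hu' : f * u * f⁻¹ ∈ (S : Subgroup G) := (mem_normalizer_iff.mp (hE1N hf) u).mp hu
        have e1 : e * f * u * (e * f)⁻¹ * u⁻¹ =
            (e * (f * u * f⁻¹) * e⁻¹ * (f * u * f⁻¹)⁻¹) * (f * u * f⁻¹ * u⁻¹) := by group
        rw [e1]; exact mul_mem (he' _ hu') (hf' u hu)
      inv_mem' := by
        rintro e ⟨he, he'⟩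
        refine ⟨inv_mem he, fun u hu => ?_⟩
        have hu' : e⁻¹ * u * e ∈ (S : Subgroup G) := by
          have := (mem_normalizer_iff.mp (inv_mem (hE1N he)) u).mp hu
          simpa using this
        have h1 := he' _ hu'
        have e1 : e⁻¹ * u * e⁻¹⁻¹ * u⁻¹ = (e * (e⁻¹ * u * e) * e⁻¹ * (e⁻¹ * u * e)⁻¹)⁻¹ := by
          group
        rw [e1]; exact inv_mem h1 }
  have hBE1 : E1 ≤ B := by
    apply ap_le_of_forall_full_part_le
    intro r hr hrE1
    haveI : Fact r.Prime := ⟨hr⟩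
    obtain ⟨S₁⟩ : Nonempty (Sylow r ↥E1) := inferInstance
    have hTE1syl : IsSylowIn r E1 ((S₁ : Subgroup ↥E1).map E1.subtype) := ⟨S₁, rfl⟩
    obtain ⟨T, hTdef⟩ : ∃ T : Subgroup G, T = (S₁ : Subgroup ↥E1).map E1.subtype := ⟨_, rfl⟩
    rw [← hTdef] at hTE1syl
    have hTE1 : T ≤ E1 := hTE1syl.le
    have hTcard : Nat.card T = r ^ (Nat.card E1).factorization r := hTE1syl.card
    have hrτ : r ∈ Cfsg.tau1 M := hE1.2.1 r hr hrE1
    refine ⟨T, hTE1, hTcard, ?_⟩
    -- `T` is a Sylow `r`-subgroup of `E`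
    have hfac : (Nat.card E).factorization r = (Nat.card E1).factorization r := by
      have h1 : Nat.card (E1.subgroupOf E) * (E1.subgroupOf E).index = Nat.card E :=
        Subgroup.card_mul_index _
      have h2 : Nat.card (E1.subgroupOf E) = Nat.card E1 :=
        Nat.card_congr (Subgroup.subgroupOfEquivOfLe hE1E).toEquiv
      have h3 : ¬ r ∣ (E1.subgroupOf E).index := hE1.2.2 r hr hrτ
      rw [← h1, h2, Nat.factorization_mul Nat.card_pos.ne' Subgroup.index_ne_zero_of_finite]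
      simp [Nat.factorization_eq_zero_of_not_dvd h3]
    have hTEsyl : IsSylowIn r E T := isSylowIn_of_card (hTE1.trans hE1E) (by rw [hTcard, hfac])
    obtain ⟨SE, hSE⟩ := hTEsyl
    have hk : 1 ≤ (Nat.card E1).factorization r :=
      (hr.dvd_iff_one_le_factorization Nat.card_pos.ne').mp hrE1
    have hrT : r ∣ Nat.card T := by rw [hTcard]; exact dvd_pow_self r (by omega)
    have hT1 : T ≠ ⊥ := by
      intro hb
      rw [hb, Subgroup.card_bot] at hrT
      exact hr.one_lt.ne' (Nat.dvd_one.mp hrT)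
    have hSE1' : (SE : Subgroup ↥E) ≠ ⊥ := by
      intro hb
      apply hT1
      rw [← hSE, hb, Subgroup.map_bot]
    haveI := hE1cyc
    have hcT' : IsCyclic ↥(T.subgroupOf E1) := inferInstance
    have hcT : IsCyclic ↥T :=
      isCyclic_of_surjective (Subgroup.subgroupOfEquivOfLe hTE1).toMonoidHom
        (Subgroup.subgroupOfEquivOfLe hTE1).surjective
    have hcS : IsCyclic ↥(SE : Subgroup ↥E) := by
      have hcmap : IsCyclic ↥((SE : Subgroup ↥E).map E.subtype) := by rw [hSE]; exact hcT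
      have e := Subgroup.equivMapOfInjective (SE : Subgroup ↥E) E.subtype E.subtype_injective
      exact isCyclic_of_surjective e.symm.toMonoidHom e.symm.surjective
    have h27 := Cfsg.Agent.S1427.result hG M hM E hE r SE hSE1' hcS
    rw [hSE] at h27
    -- an element `w` of order `r` in `T`
    obtain ⟨⟨w, hwT⟩, hwo⟩ := exists_prime_orderOf_dvd_card' (G := ↥T) r hrT
    have hwo' : orderOf w = r := by rw [← hwo, Subgroup.orderOf_mk]
    have hw1 : w ≠ 1 := by
      intro hw
      rw [hw, orderOf_one] at hwo'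
      exact hr.one_lt.ne hwo'
    have hwE1 : w ∈ E1 := hTE1 hwT
    have hwr : w ^ r = 1 := by rw [← hwo']; exact pow_orderOf_eq_one w
    have hZN : zpowers w ≤ normalizer ((S : Subgroup G) : Set G) := by
      rw [zpowers_le]; exact hE1N hwE1
    have hrq : r ≠ q := fun e => hrτ.2.1 (e ▸ st.left.mem_sigma)
    have hcopZS : (Nat.card (zpowers w)).Coprime (Nat.card (S : Subgroup G)) := by
      rw [Nat.card_zpowers, hwo', hkq]
      exact Nat.Coprime.pow_right _ ((Nat.coprime_primes hr hq.out).mpr hrq)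
    have hsolvS : Group.IsSolvable (S : Subgroup G) := by
      haveI : Group.IsNilpotent (S : Subgroup G) := hSp.isNilpotent
      infer_instance
    have hdec := Cfsg.Agent.Helper52.eq_commutator_sup_centralizer (S : Subgroup G) (zpowers w) hZN
      hcopZS (Or.inr hsolvS)
    have hKS : ⁅(S : Subgroup G), zpowers w⁆ ≤ (S : Subgroup G) :=
      Cfsg.Agent.Helper1.commutator_le_of_le_normalizer hZN
    -- `[S, w] ≤ S0`
    have hKS0 : ⁅(S : Subgroup G), zpowers w⁆ ≤ S0 := by
      rw [Subgroup.commutator_le]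
      intro a ha z hz
      obtain ⟨i, rfl⟩ := mem_zpowers_iff.mp hz
      have hzE1 : w ^ i ∈ E1 := zpow_mem hwE1 i
      have hzr : (w ^ i) ^ r = 1 := by
        rw [← zpow_natCast, ← zpow_mul, mul_comm, zpow_mul, zpow_natCast, hwr, one_zpow]
      have h1 := hS0gen (w ^ i) hzE1 r hr hzr a ha
      have e1 : ⁅a, w ^ i⁆ = (w ^ i * a * (w ^ i)⁻¹ * a⁻¹)⁻¹ := by
        rw [commutatorElement_def]; group
      rw [e1]; exact inv_mem h1
    intro t ht
    refine ⟨hTE1 ht, fun u hu => ?_⟩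
    have hu2 : u ∈ ⁅(S : Subgroup G), zpowers w⁆ ⊔
        ((S : Subgroup G) ⊓ centralizer ((zpowers w : Subgroup G) : Set G)) := by
      rw [← hdec]; exact hu
    have hYN : (S : Subgroup G) ⊓ centralizer ((zpowers w : Subgroup G) : Set G) ≤
        normalizer ((⁅(S : Subgroup G), zpowers w⁆ : Subgroup G) : Set G) :=
      inf_le_left.trans (ap_le_normalizer_of_comm hSc hKS)
    obtain ⟨k, hk, c, hc, rfl⟩ := Cfsg.Agent.Helper15.BGV.mem_sup_decomp hYN hu2
    have hcS : c ∈ (S : Subgroup G) := hc.1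
    have hcw : c ∈ centralizer ({w} : Set G) := by
      rw [← ap_centralizer_zpowers]; exact hc.2
    have hcT : c ∈ sigmaCore M ⊓ centralizer (T : Set G) := by
      rw [← h27 w hwT hw1]
      exact ⟨st.left.S_le hcS, hcw⟩
    have htc : t * c * t⁻¹ = c := by
      have := (mem_centralizer_iff.mp hcT.2) t ht
      rw [this]; group
    have hkS0 : k ∈ S0 := hKS0 hk
    have e1 : t * (k * c) * t⁻¹ * (k * c)⁻¹ = (t * k * t⁻¹) * ((t * c * t⁻¹) * c⁻¹) * k⁻¹ := by
      group
    rw [e1, htc, mul_inv_cancel, mul_one]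
    exact mul_mem (hS0inv t (hTE1 ht) k hkS0) (inv_mem hkS0)
  have hSS0 : (S : Subgroup G) ≤ S0 := by
    have h1 : ⁅(S : Subgroup G), E1⁆ ≤ S0 := by
      rw [Subgroup.commutator_le]
      intro u hu e he
      have h2 := (hBE1 he).2 u hu
      have e1 : ⁅u, e⁆ = (e * u * e⁻¹ * u⁻¹)⁻¹ := by rw [commutatorElement_def]; group
      rw [e1]; exact inv_mem h2
    intro u hu
    apply h1
    rw [hSE1]; exact hu
  -- (G7) `S` centralizes `Pst`, of rank at least 3
  have hPstCS : Pst ≤ alphaCore H ⊓ centralizer ((S : Subgroup G) : Set G) := by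
    apply le_inf hPstα
    intro y hy
    rw [mem_centralizer_iff]
    intro u hu
    exact ((mem_centralizer_iff.mp (hS0C (hSS0 hu))) y hy).symm
  have hPstH : IsSylowIn p H Pst := by
    apply isSylowIn_of_card (hPstα.trans hαhall.1)
    rw [hPstcard, Cfsg.Agent.Helper52.sylCard]
    congr 1
    have hidx : ¬ p ∣ (alphaCore H).relIndex H := hαhall.2.2 p hpp hpα
    have hmul : Nat.card (alphaCore H) * (alphaCore H).relIndex H = Nat.card H :=
      Cfsg.Agent.Helper52.card_mul_relIndex_eq hαhall.1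
    have hri : (alphaCore H).relIndex H ≠ 0 := by
      intro h0
      rw [h0, mul_zero] at hmul
      exact Nat.card_pos.ne' hmul.symm
    rw [← hmul, Nat.factorization_mul Nat.card_pos.ne' hri,
      Finsupp.add_apply, Nat.factorization_eq_zero_of_not_dvd hidx, add_zero]
  have hr := hpα.2
  unfold Cfsg.PRankLE at hr
  push Not at hr
  obtain ⟨A₀, hA₀c, hA₀e, hA₀card⟩ := hr
  obtain ⟨hcomm, hexp, hcard⟩ := elemAb_map_subtype A₀ hA₀c hA₀e
  have hA₀p : IsPGroup p (A₀.map H.subtype) := isPGroup_of_pow_eq_one _ hexp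
  obtain ⟨T', hAT', hT'⟩ := exists_isSylowIn_ge (K := H) hA₀p (Subgroup.map_subtype_le _)
  obtain ⟨z, -, hz⟩ := exists_cj_eq_of_isSylowIn hT' hPstH
  have hle : Cfsg.Agent.Helper79.BG10.cj z (A₀.map H.subtype) ≤
      alphaCore H ⊓ centralizer ((S : Subgroup G) : Set G) := by
    refine le_trans ?_ hPstCS
    rw [hz]
    exact cj_mono z hAT'
  have hnr : ¬ Cfsg.PRankLE p 1 ↥(alphaCore H ⊓ centralizer ((S : Subgroup G) : Set G)) := by
    apply not_pRankLE_of_elemAb hle
    · rintro _ ⟨a, ha, rfl⟩ _ ⟨b, hb, rfl⟩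
      rw [← map_mul, ← map_mul, hcomm a ha b hb]
    · rintro _ ⟨a, ha, rfl⟩
      rw [← map_pow, hexp a ha, map_one]
    · rw [card_cj, hcard]
      calc p ^ 1 ≤ p ^ 2 := Nat.pow_le_pow_right hpp.pos (by norm_num)
        _ < Nat.card A₀ := hA₀card
  exact hnr (hrkS p hpp)

end main2

section wrapper

variable {G : Type*} [Group G] [Finite G]

/-- a Hall `π`-subgroup of a solvable subgroup -/
theorem ap_exists_isPiHallOf (π : Set ℕ) (K : Subgroup G) (hK : Group.IsSolvable K) :
    ∃ Q : Subgroup G, IsPiHallOf π Q K := by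
  obtain ⟨Q, hQK, hQc⟩ := Cfsg.Agent.Helper52.hall_exists_internal K hK
    (Cfsg.Agent.Helper52.piPart π (Nat.card K)) (Cfsg.Agent.Helper52.piPrimePart π (Nat.card K))
    (Cfsg.Agent.Helper52.piPart_mul_piPrimePart π Nat.card_pos.ne').symm
    (Cfsg.Agent.Helper52.piPart_coprime π _)
  exact ⟨Q, (Cfsg.Agent.Helper52.isPiHallOf_iff_card π Q K).mpr ⟨hQK, hQc⟩⟩

/-- **LEMMA AP**: in an aligned pair `(M, H, S)` there is no subgroup `P ≤ M ∩ H` of prime order
`p ∈ τ₁(M) ∩ α(H)`. -/
theorem lemma_AP (hG : IsMinSimpleOddOrder G) {M H : Subgroup G} {q : ℕ} [hq : Fact q.Prime]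
    {S : Sylow q G} (h : Aligned M H q S) {p : ℕ} (hp1 : p ∈ tau1 M) (hpα : p ∈ alpha H)
    (P : Subgroup G) (hPM : P ≤ M) (hPH : P ≤ H) (hP : Nat.card P = p) : False := by
  classical
  have st := h.setup hG
  have hM := h.hM
  have hNM : normalizer ((S : Subgroup G) : Set G) ≤ M := h.normalizer_le.trans inf_le_left
  have hpp : p.Prime := hp1.1
  haveI : Fact p.Prime := ⟨hpp⟩
  obtain ⟨E, hEN, hE⟩ := ap_exists_compl_le_normalizer hG st.left hNM
  have hEs : Group.IsSolvable E := Cfsg.Agent.Helper15.BGV.solv_of_le_coatom hG hM hE.1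
  obtain ⟨E1, hE1⟩ := ap_exists_isPiHallOf (tau1 M) E hEs
  have hE1E : E1 ≤ E := hE1.1
  have hE1N : E1 ≤ normalizer ((S : Subgroup G) : Set G) := hE1E.trans hEN
  have hPN : P ≤ normalizer ((S : Subgroup G) : Set G) := by
    rw [← st.inf_eq]; exact le_inf hPM hPH
  obtain ⟨⟨y, hyP⟩, hyo⟩ := exists_prime_orderOf_dvd_card' (G := ↥P) p (by rw [hP])
  have hyo' : orderOf y = p := by rw [← hyo, Subgroup.orderOf_mk]
  have hnd : ∀ t : ℕ, t.Prime → t ∈ tau1 M →
      ¬ t ∣ E1.relIndex (normalizer ((S : Subgroup G) : Set G)) := by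
    intro t ht htτ hd
    have hmul1 : E1.relIndex (normalizer ((S : Subgroup G) : Set G)) *
        (normalizer ((S : Subgroup G) : Set G)).relIndex M = E1.relIndex M :=
      Subgroup.relIndex_mul_relIndex E1 _ M hE1N hNM
    have hmul2 : E1.relIndex E * E.relIndex M = E1.relIndex M :=
      Subgroup.relIndex_mul_relIndex E1 E M hE1E hE.1
    have hd2 : t ∣ E1.relIndex E * E.relIndex M := by
      rw [hmul2, ← hmul1]; exact Dvd.dvd.mul_right hd _
    rcases (Nat.Prime.dvd_mul ht).mp hd2 with hd1 | hd3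
    · exact hE1.2.2 t ht htτ hd1
    · have hcardM := Cfsg.Agent.Helper78.BG121.card_eq_of_isComplIn hE
      have h1 : Nat.card E * E.relIndex M = Nat.card M :=
        Cfsg.Agent.Helper52.card_mul_relIndex_eq hE.1
      rw [hcardM] at h1
      have h2 : E.relIndex M = Nat.card (sigmaCore M) :=
        Nat.eq_of_mul_eq_mul_left Nat.card_pos h1
      rw [h2] at hd3
      exact htτ.2.1 (isPi_sigmaCore M t ht hd3)
  have hNs : Group.IsSolvable (normalizer ((S : Subgroup G) : Set G)) :=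
    Cfsg.Agent.Helper15.BGV.solv_of_le_coatom hG hM hNM
  have hcardN : Nat.card (normalizer ((S : Subgroup G) : Set G)) =
      Nat.card E1 * E1.relIndex (normalizer ((S : Subgroup G) : Set G)) :=
    (Cfsg.Agent.Helper52.card_mul_relIndex_eq hE1N).symm
  have hcop : (Nat.card E1).Coprime (E1.relIndex (normalizer ((S : Subgroup G) : Set G))) := by
    apply Nat.coprime_of_dvd
    intro t ht hd hd'
    exact hnd t ht (hE1.2.1 t ht hd) hd'
  obtain ⟨c, hc, hcy⟩ := Cfsg.Agent.Helper25.BGHallConj.exists_conj_mem_rel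
    (normalizer ((S : Subgroup G) : Set G)) E1 hE1N hNs _ hcardN hcop y (hPN hyP)
    (by rw [hyo']; exact (Nat.Prime.coprime_iff_not_dvd hpp).mpr (hnd p hpp hp1))
  have ho : orderOf (c * y * c⁻¹) = p := by
    have h1 := orderOf_injective (MulAut.conj c).toMonoidHom (MulAut.conj c).injective y
    rw [← hyo', ← h1]
    rfl
  exact lemma_AP_aux hG h hE hEN hE1 hpα (zpowers (c * y * c⁻¹)) (by rwa [zpowers_le])
    (by rw [Nat.card_zpowers, ho])

end wrapper

end Cfsg.Agent.Helper21.BG139
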