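import Mathlib.GroupTheory.Transfer
import Mathlib.GroupTheory.Sylow
import Mathlib.GroupTheory.PGroup
import Cfsg.Prelude.Def_CaseTheorems

/-!
# Helpers for transfer into abelian 2-groups (helper21)

* `hom_eq_one_of_no_index_two` : a group without subgroups of index 2 has only trivial
  homomorphisms into finite 2-groups.
* `omegaTwo P` : the subgroup of elements of square one of a commutative group, and its
  cardinality in terms of `Cfsg.PRankLE 2`.
-/

set_option autoImplicit false

namespace Cfsg.Agent.Helper21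

/-- A group without subgroups of index `2` has only trivial homomorphisms into finite
`2`-groups. -/
theorem hom_eq_one_of_no_index_two {G A : Type*} [Group G] [Group A] [Finite A]
    (hG : ∀ H : Subgroup G, H.index ≠ 2) (hA : IsPGroup 2 A) (f : G →* A) (g : G) : f g = 1 := by
  classical
  have : Fact (Nat.Prime 2) := ⟨Nat.prime_two⟩
  have hR : IsPGroup 2 f.range := hA.to_subgroup f.range
  obtain ⟨k, hk⟩ := IsPGroup.iff_card.1 hR
  rcases Nat.eq_zero_or_pos k with rfl | hkpos
  · rw [pow_zero] at hk
    have hbot : f.range = ⊥ := Subgroup.card_eq_one.1 hk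
    have hmem : f g ∈ f.range := ⟨g, rfl⟩
    rw [hbot] at hmem
    exact Subgroup.mem_bot.1 hmem
  · exfalso
    have hdvd : 2 ^ (k - 1) ∣ Nat.card f.range := by
      rw [hk]; exact pow_dvd_pow 2 (Nat.sub_le k 1)
    obtain ⟨K, hK⟩ := Sylow.exists_subgroup_card_pow_prime 2 hdvd
    have hidx : K.index = 2 := by
      have h1 := K.card_mul_index
      rw [hK, hk] at h1
      have h2 : 2 ^ k = 2 ^ (k - 1) * 2 := by
        rw [← pow_succ]; congr 1; omega
      rw [h2] at h1
      exact Nat.eq_of_mul_eq_mul_left (by positivity) h1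
    apply hG (K.comap f.rangeRestrict)
    rw [Subgroup.index_comap_of_surjective _ f.rangeRestrict_surjective]
    exact hidx

/-- The subgroup of elements of square one of a commutative group. -/
def omegaTwo (P : Type*) [Group P] [IsMulCommutative P] : Subgroup P where
  carrier := {x | x ^ 2 = 1}
  one_mem' := one_pow 2
  mul_mem' := by
    intro a b ha hb
    have hab : Commute a b := mul_comm' a b
    show (a * b) ^ 2 = 1
    rw [hab.mul_pow, show a ^ 2 = 1 from ha, show b ^ 2 = 1 from hb, one_mul]
  inv_mem' := by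
    intro a ha
    show (a⁻¹) ^ 2 = 1
    rw [inv_pow, show a ^ 2 = 1 from ha, inv_one]

theorem mem_omegaTwo {P : Type*} [Group P] [IsMulCommutative P] (x : P) :
    x ∈ omegaTwo P ↔ x ^ 2 = 1 := Iff.rfl

theorem card_omegaTwo_le {P : Type*} [Group P] [IsMulCommutative P] {k : ℕ}
    (h : Cfsg.PRankLE 2 k P) : Nat.card (omegaTwo P) ≤ 2 ^ k :=
  h (omegaTwo P) inferInstance (fun _ ha => ha)

theorem lt_card_omegaTwo {P : Type*} [Group P] [Finite P] [IsMulCommutative P] {k : ℕ}
    (h : ¬ Cfsg.PRankLE 2 k P) : 2 ^ k < Nat.card (omegaTwo P) := by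
  unfold Cfsg.PRankLE at h
  push Not at h
  obtain ⟨A, _, hexp, hlt⟩ := h
  have hle : A ≤ omegaTwo P := fun a ha => hexp a ha
  exact lt_of_lt_of_le hlt (Subgroup.card_le_of_le hle)

theorem card_omegaTwo_pow (P : Type*) [Group P] [Finite P] [IsMulCommutative P] :
    ∃ j : ℕ, Nat.card (omegaTwo P) = 2 ^ j := by
  have : Fact (Nat.Prime 2) := ⟨Nat.prime_two⟩
  have hp : IsPGroup 2 (omegaTwo P) := by
    intro x
    refine ⟨1, ?_⟩
    rw [pow_one]
    exact Subtype.ext x.2
  exact IsPGroup.iff_card.1 hp

/-- The exact value of the order of `Ω₁` of a commutative `2`-group of `2`-rank exactly `k+1`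
(resp. at most `0`). -/
theorem card_omegaTwo_eq {P : Type*} [Group P] [Finite P] [IsMulCommutative P] {k : ℕ}
    (h1 : Cfsg.PRankLE 2 k P) (h2 : k = 0 ∨ ¬ Cfsg.PRankLE 2 (k - 1) P) :
    Nat.card (omegaTwo P) = 2 ^ k := by
  obtain ⟨j, hj⟩ := card_omegaTwo_pow P
  have hle := card_omegaTwo_le h1
  rw [hj] at hle ⊢
  have hjk : j ≤ k := (Nat.pow_le_pow_iff_right (by norm_num)).1 hle
  rcases h2 with rfl | h2
  · have : j = 0 := by omega
    rw [this]
  · have hlt := lt_card_omegaTwo h2
    rw [hj] at hlt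
    have hkj : k - 1 < j := (Nat.pow_lt_pow_iff_right (by norm_num)).1 hlt
    have : j = k := by omega
    rw [this]

end Cfsg.Agent.Helper21
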