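import Mathlib.GroupTheory.SpecificGroups.KleinFour
import Mathlib.GroupTheory.Subgroup.Centralizer
import Mathlib.GroupTheory.Index
import Mathlib.GroupTheory.Perm.Cycle.Type

/-!
# Klein four subgroups (helper21)

* `fourSub a b` : the subgroup `{1, a, b, ab}` for commuting involutions `a`, `b`;
  `isKleinFour_fourSub`.
* `exists_conj_of_three_dvd_relIndex` : if `3` divides `|N(U) : C(U)|` for a Klein four subgroup
  `U`, then any two involutions of `U` are conjugate under `N(U)`.
-/

set_option autoImplicit false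

namespace Cfsg.Agent.Helper21

open Subgroup

section FourSub

variable {X : Type*} [Group X]

/-- The subgroup `{1, a, b, ab}` generated by two commuting involutions. -/
def fourSub (a b : X) (ha : a * a = 1) (hb : b * b = 1) (hab : a * b = b * a) : Subgroup X where
  carrier := {x | x = 1 ∨ x = a ∨ x = b ∨ x = a * b}
  one_mem' := Or.inl rfl
  mul_mem' := by
    have ha' : ∀ x : X, a * (a * x) = x := fun x => by rw [← mul_assoc, ha, one_mul]
    have hb' : ∀ x : X, b * (b * x) = x := fun x => by rw [← mul_assoc, hb, one_mul]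
    have hba : b * a = a * b := hab.symm
    have hba' : ∀ x : X, b * (a * x) = a * (b * x) := fun x => by
      rw [← mul_assoc, hba, mul_assoc]
    rintro x y (rfl | rfl | rfl | rfl) (rfl | rfl | rfl | rfl) <;>
      simp only [Set.mem_ofPred_eq, one_mul, mul_one, mul_assoc, ha, hb, ha', hb', hba, hba',
        true_or, or_true]
  inv_mem' := by
    have hainv : a⁻¹ = a := inv_eq_of_mul_eq_one_right ha
    have hbinv : b⁻¹ = b := inv_eq_of_mul_eq_one_right hb
    rintro x (rfl | rfl | rfl | rfl)
    · simp
    · simp [hainv]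
    · simp [hbinv]
    · right; right; right
      rw [mul_inv_rev, hainv, hbinv, hab]

theorem mem_fourSub {a b : X} {ha : a * a = 1} {hb : b * b = 1} {hab : a * b = b * a} {x : X} :
    x ∈ fourSub a b ha hb hab ↔ x = 1 ∨ x = a ∨ x = b ∨ x = a * b := Iff.rfl

theorem left_mem_fourSub {a b : X} (ha : a * a = 1) (hb : b * b = 1) (hab : a * b = b * a) :
    a ∈ fourSub a b ha hb hab := Or.inr (Or.inl rfl)

theorem right_mem_fourSub {a b : X} (ha : a * a = 1) (hb : b * b = 1) (hab : a * b = b * a) :
    b ∈ fourSub a b ha hb hab := Or.inr (Or.inr (Or.inl rfl))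

theorem fourSub_le {a b : X} (ha : a * a = 1) (hb : b * b = 1) (hab : a * b = b * a)
    {S : Subgroup X} (haS : a ∈ S) (hbS : b ∈ S) : fourSub a b ha hb hab ≤ S := by
  rintro x (rfl | rfl | rfl | rfl)
  · exact S.one_mem
  · exact haS
  · exact hbS
  · exact S.mul_mem haS hbS

theorem isKleinFour_fourSub {a b : X} (ha : a * a = 1) (hb : b * b = 1) (hab : a * b = b * a)
    (ha1 : a ≠ 1) (hb1 : b ≠ 1) (hne : a ≠ b) : IsKleinFour ↥(fourSub a b ha hb hab) := by
  classical
  have hsq : ∀ x : ↥(fourSub a b ha hb hab), x ^ 2 = 1 := by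
    rintro ⟨x, (rfl | rfl | rfl | rfl)⟩
    · exact Subtype.ext (by simp)
    · exact Subtype.ext (by simp [pow_two, ha])
    · exact Subtype.ext (by simp [pow_two, hb])
    · apply Subtype.ext
      show (a * b) ^ 2 = 1
      rw [pow_two, mul_assoc, ← mul_assoc b a b, ← hab, mul_assoc, hb, mul_one, ha]
  have hab1 : a * b ≠ 1 := by
    intro h
    apply hne
    have : a = b⁻¹ := eq_inv_of_mul_eq_one_left h
    rw [this, inv_eq_of_mul_eq_one_right hb]
  have haba : a * b ≠ a := by
    intro h
    apply hb1
    have h2 : a * b = a * 1 := by rw [mul_one]; exact h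
    exact mul_left_cancel h2
  have habb : a * b ≠ b := by
    intro h
    apply ha1
    have h2 : a * b = 1 * b := by rw [one_mul]; exact h
    exact mul_right_cancel h2
  have hset : ((fourSub a b ha hb hab : Subgroup X) : Set X) =
      (({1, a, b, a * b} : Finset X) : Set X) := by
    ext x
    simp only [SetLike.mem_coe, mem_fourSub, Finset.coe_insert, Finset.coe_singleton,
      Set.mem_insert_iff, Set.mem_singleton_iff]
  have hcard : Nat.card ↥(fourSub a b ha hb hab) = 4 := by
    have h1 : Nat.card ↥(fourSub a b ha hb hab) =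
        Set.ncard ((fourSub a b ha hb hab : Subgroup X) : Set X) := (Nat.card_coe_set_eq _)
    rw [h1, hset, Set.ncard_coe_finset]
    rw [Finset.card_insert_of_notMem, Finset.card_insert_of_notMem, Finset.card_insert_of_notMem,
      Finset.card_singleton]
    · simp only [Finset.mem_singleton]; exact fun h => habb h.symm
    · simp only [Finset.mem_insert, Finset.mem_singleton, not_or]
      exact ⟨hne, fun h => haba h.symm⟩
    · simp only [Finset.mem_insert, Finset.mem_singleton, not_or]
      exact ⟨fun h => ha1 h.symm, fun h => hb1 h.symm, fun h => hab1 h.symm⟩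
  refine ⟨hcard, ?_⟩
  have hdvd : Monoid.exponent ↥(fourSub a b ha hb hab) ∣ 2 :=
    Monoid.exponent_dvd_iff_forall_pow_eq_one.2 hsq
  rcases (Nat.dvd_prime Nat.prime_two).1 hdvd with h | h
  · exfalso
    rw [Monoid.exp_eq_one_iff] at h
    have := Subsingleton.elim (⟨a, left_mem_fourSub ha hb hab⟩ : ↥(fourSub a b ha hb hab)) 1
    exact ha1 (congrArg Subtype.val this)
  · exact h

end FourSub

section MulAutOrbit

variable {K : Type*} [Group K] [IsKleinFour K]

/-- An automorphism of order `3` of a Klein four group permutes the three involutions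
transitively. -/
theorem kleinFour_orbit (σ : MulAut K) (h3 : ∀ x : K, σ (σ (σ x)) = x) (h1 : σ ≠ 1)
    {u v : K} (hu : u ≠ 1) (hv : v ≠ 1) : v = u ∨ v = σ u ∨ v = σ (σ u) := by
  have hinj : ∀ {x y : K}, σ x = σ y → x = y := fun h => σ.injective h
  have hne1 : ∀ {x : K}, x ≠ 1 → σ x ≠ 1 := by
    intro x hx h
    apply hx
    apply hinj
    rw [h, map_one]
  -- Step A: no fixed involution
  have stepA : ∀ x : K, x ≠ 1 → σ x ≠ x := by
    intro x hx hfix
    have hex : ∃ w : K, σ w ≠ w := by
      by_contra hcon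
      push Not at hcon
      apply h1
      ext w
      simp [hcon w]
    obtain ⟨w, hw⟩ := hex
    have hw1 : w ≠ 1 := by
      rintro rfl
      exact hw (map_one σ)
    have hwx : w ≠ x := by
      rintro rfl
      exact hw hfix
    have hw'1 : σ w ≠ 1 := hne1 hw1
    have hw'x : σ w ≠ x := by
      intro h
      apply hwx
      apply hinj
      rw [h, hfix]
    have h4 : σ w = x * w := IsKleinFour.eq_mul_of_ne_all hx hw1 (Ne.symm hwx) hw'1 hw'x hw
    have h5 : σ (σ w) = w := by
      rw [h4, map_mul, hfix, h4, ← mul_assoc, IsKleinFour.mul_self, one_mul]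
    have h6 := h3 w
    rw [h5] at h6
    exact hw h6
  -- Step B
  have hb1 : σ u ≠ 1 := hne1 hu
  have hc1 : σ (σ u) ≠ 1 := hne1 hb1
  have hba : σ u ≠ u := stepA u hu
  have hcb : σ (σ u) ≠ σ u := stepA _ hb1
  have hca : σ (σ u) ≠ u := by
    intro h
    have h6 := h3 u
    rw [h] at h6
    exact hba h6
  by_cases hva : v = u
  · exact Or.inl hva
  · by_cases hvb : v = σ u
    · exact Or.inr (Or.inl hvb)
    · right; right
      have e1 : v = u * σ u := IsKleinFour.eq_mul_of_ne_all hu hb1 (Ne.symm hba) hv hva hvb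
      have e2 : σ (σ u) = u * σ u :=
        IsKleinFour.eq_mul_of_ne_all hu hb1 (Ne.symm hba) hc1 hca hcb
      rw [e1, e2]

end MulAutOrbit

section NC

variable {X : Type*} [Group X] [Finite X]

/-- If `3` divides `|N(U) : C(U)|` for a Klein four subgroup `U`, then any two involutions of `U`
are conjugate (by an element of `N(U)`). -/
theorem exists_conj_of_three_dvd_relIndex (U : Subgroup X) [hU : IsKleinFour ↥U]
    (h3 : 3 ∣ (centralizer (U : Set X)).relIndex (normalizer (U : Set X)))
    {u v : X} (hu : u ∈ U) (hu1 : u ≠ 1) (hv : v ∈ U) (hv1 : v ≠ 1) :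
    ∃ g : X, g * u * g⁻¹ = v := by
  classical
  have : Fact (Nat.Prime 3) := ⟨Nat.prime_three⟩
  set φ := U.normalizerMonoidHom with hφ
  have hcard : (centralizer (U : Set X)).relIndex (normalizer (U : Set X)) = Nat.card φ.range := by
    rw [Subgroup.relIndex, ← Subgroup.normalizerMonoidHom_ker, Subgroup.index_ker]
  rw [hcard] at h3
  have : Finite ↥U := IsKleinFour.instFinite
  have : Finite (MulAut ↥U) := by
    apply Finite.of_injective (fun f : MulAut ↥U => (f : ↥U → ↥U))
    intro f g hfg
    exact DFunLike.coe_injective hfg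
  obtain ⟨σ, hσ⟩ := exists_prime_orderOf_dvd_card' (G := ↥φ.range) 3 h3
  obtain ⟨g, hg⟩ := σ.2
  have hσ3 : (σ : MulAut ↥U) ^ 3 = 1 := by
    have := pow_orderOf_eq_one σ
    rw [hσ] at this
    have h2 := congrArg Subtype.val this
    simpa using h2
  have hσ1 : (σ : MulAut ↥U) ≠ 1 := by
    intro h
    have : σ = 1 := Subtype.ext h
    rw [this, orderOf_one] at hσ
    omega
  have h3' : ∀ x : ↥U, (σ : MulAut ↥U) ((σ : MulAut ↥U) ((σ : MulAut ↥U) x)) = x := by
    intro x
    have := congrArg (fun f : MulAut ↥U => f x) hσ3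
    simpa [pow_succ, pow_zero] using this
  have hu' : (⟨u, hu⟩ : ↥U) ≠ 1 := fun h => hu1 (congrArg Subtype.val h)
  have hv' : (⟨v, hv⟩ : ↥U) ≠ 1 := fun h => hv1 (congrArg Subtype.val h)
  have hact : ∀ x : ↥U, (((σ : MulAut ↥U) x : ↥U) : X) = (g : X) * x * (g : X)⁻¹ := by
    intro x
    rw [← hg]
    rfl
  rcases kleinFour_orbit (σ : MulAut ↥U) h3' hσ1 hu' hv' with h | h | h
  · refine ⟨1, ?_⟩
    have := congrArg Subtype.val h
    simp only at this
    rw [this]; simp
  · refine ⟨(g : X), ?_⟩
    have := congrArg Subtype.val h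
    rw [hact] at this
    exact this.symm
  · refine ⟨(g : X) * (g : X), ?_⟩
    have := congrArg Subtype.val h
    rw [hact, hact] at this
    simp only at this
    rw [this]
    group

end NC

end Cfsg.Agent.Helper21
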