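import Mathlib
import Cfsg.Agent.S1405
import Cfsg.Agent.S1414
import Cfsg.Agent.Lib.Helper21.BG139Steps

/-!
# BG139 request (R10) of helper53 = step (C): `α(M) ⊆ β(M)` in the aligned situation
(exact signature of `tools/bg139_sigs_helper53.lean.txt`)
-/

set_option autoImplicit false

namespace Cfsg.Agent.Helper21.BG139Req

open Subgroup Cfsg
open Cfsg.Agent.Helper16 Cfsg.Agent.Helper79.BG10 Cfsg.Agent.Helper21.BG139

/-- (R10) = step (C): `α(M) ⊆ β(M)` in the aligned situation. -/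
theorem mem_beta_of_mem_alpha {G : Type*} [Group G] [Finite G] (hG : Cfsg.IsMinSimpleOddOrder G)
    (M L : Subgroup G) (hM : IsCoatom M) (hL : IsCoatom L) (hne : L ≠ M) (q : ℕ) [Fact q.Prime]
    (S : Sylow q G) (hSM : (S : Subgroup G) ≤ Cfsg.sigmaCore M) (hqα : q ∉ Cfsg.alpha M)
    (hNL : Subgroup.normalizer ((S : Subgroup G) : Set G) ≤ L) (t : ℕ) (ht : t ∈ Cfsg.alpha M) :
    t ∈ Cfsg.beta M := by
  by_contra hb
  have htp : t.Prime := ht.1
  haveI : Fact t.Prime := ⟨htp⟩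
  have hqp : q.Prime := Fact.out
  have htσ : t ∈ sigma M := alpha_subset_sigma hG (uniqHyp hG) hM ht
  have htM : t ∣ Nat.card M := htσ.2.1
  have hqt : q ≠ t := fun e => hqα (e ▸ ht)
  have hσD : sigmaCore M ≤ ⁅M, M⁆ :=
    Cfsg.Agent.Helper34.BG.sigmaCore_le_commutator hG (uniqHyp34 hG) hM
  obtain ⟨⟨P, K, hKn, hKc⟩, -, -⟩ := (Cfsg.Agent.S1414.result hG M hM).2.2.2.2 t htp htM hb
  have hSD : (S : Subgroup G) ≤ ⁅M, M⁆ := hSM.trans hσD
  have hαD : alphaCore M ≤ ⁅M, M⁆ := ((Cfsg.Agent.S1405.result hG M hM).2.2.1).trans hσD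
  -- `S ≤ K`
  have hSK : ∀ s, ∀ hs : s ∈ (S : Subgroup G), (⟨s, hSD hs⟩ : ↥⁅M, M⁆) ∈ K := by
    intro s hs
    obtain ⟨n, hn⟩ := S.isPGroup' ⟨s, hs⟩
    apply mem_of_normal_complement P K hKc (n := q ^ n)
    · exact Nat.Coprime.pow_left n ((Nat.coprime_primes hqp htp).mpr hqt)
    · apply Subtype.ext
      have := congrArg Subtype.val hn
      simpa using this
  -- an `S`-invariant Sylow `t`-subgroup of `M_α`
  have hSnα : (S : Subgroup G) ≤ normalizer (alphaCore M : Set G) :=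
    (hSM.trans (Cfsg.Agent.Helper55.BGB.sigmaCore_le M)).trans (le_normalizer_alphaCore M)
  have hcop : (Nat.card (S : Subgroup G)).Coprime (Nat.card (alphaCore M)) := by
    obtain ⟨k, hk⟩ := IsPGroup.iff_card.mp S.isPGroup'
    rw [hk]
    apply Nat.Coprime.pow_left
    rw [Nat.Prime.coprime_iff_not_dvd hqp]
    intro hd
    exact hqα ((Cfsg.Agent.S1405.result hG M hM).1.2.1 q hqp hd)
  have hsolv : Group.IsSolvable (S : Subgroup G) := by
    haveI : Group.IsNilpotent (S : Subgroup G) := S.isPGroup'.isNilpotent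
    infer_instance
  obtain ⟨T, hTα, hTcard, hST⟩ := Cfsg.Agent.Helper52.exists_invariant_sylow (S : Subgroup G)
    (alphaCore M) hSnα hcop (Or.inl hsolv) t
  -- `T ∩ K' = 1`
  have hTK : ∀ x, ∀ hx : x ∈ T, (⟨x, hαD (hTα hx)⟩ : ↥⁅M, M⁆) ∈ K → x = 1 := by
    intro x hx hxK
    have h1 : orderOf x ∣ Nat.card T := Subgroup.orderOf_dvd_natCard _ hx
    have h2 : orderOf (⟨x, hαD (hTα hx)⟩ : ↥⁅M, M⁆) ∣ Nat.card K :=
      Subgroup.orderOf_dvd_natCard _ hxK
    rw [Subgroup.orderOf_mk] at h2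
    rw [hTcard, Cfsg.Agent.Helper52.sylCard] at h1
    have h3 : (Nat.card K).Coprime (t ^ (Nat.card (alphaCore M)).factorization t) := by
      apply Nat.Coprime.pow_right
      rw [Nat.coprime_comm, Nat.Prime.coprime_iff_not_dvd htp]
      exact not_dvd_card_of_complement P K hKc
    exact orderOf_eq_one_iff.mp (Nat.eq_one_of_dvd_coprimes h3 h2 h1)
  -- `T` centralizes `S`
  have hTcent : T ≤ centralizer ((S : Subgroup G) : Set G) := by
    intro x hx
    rw [mem_centralizer_iff]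
    intro s hs
    have hxD : x ∈ ⁅M, M⁆ := hαD (hTα hx)
    have hc1 : x * s * x⁻¹ * s⁻¹ ∈ T := by
      have e : x * s * x⁻¹ * s⁻¹ = x * (s * x⁻¹ * s⁻¹) := by group
      rw [e]
      apply mul_mem hx
      exact (mem_normalizer_iff.mp (hST hs) x⁻¹).mp (inv_mem hx)
    have hc2 : (⟨x * s * x⁻¹ * s⁻¹, hαD (hTα hc1)⟩ : ↥⁅M, M⁆) ∈ K := by
      have e : (⟨x * s * x⁻¹ * s⁻¹, hαD (hTα hc1)⟩ : ↥⁅M, M⁆)
          = (⟨x, hxD⟩ * ⟨s, hSD hs⟩ * ⟨x, hxD⟩⁻¹) * (⟨s, hSD hs⟩ : ↥⁅M, M⁆)⁻¹ := by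
        apply Subtype.ext
        simp
      rw [e]
      exact mul_mem (hKn.conj_mem _ (hSK s hs) _) (inv_mem (hSK s hs))
    have hc := hTK _ hc1 hc2
    calc s * x = (x * s * x⁻¹ * s⁻¹)⁻¹ * (x * s) := by group
      _ = x * s := by rw [hc]; group
  have hTL : T ≤ L := hTcent.trans ((Subgroup.centralizer_le_normalizer _).trans hNL)
  have hTM : T ≤ M := hTα.trans ((Cfsg.Agent.S1405.result hG M hM).1.1)
  -- `T` is a Sylow `t`-subgroup of `G`
  have hTtop : IsSylowIn t ⊤ T := by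
    apply isSylowIn_of_card le_top
    rw [hTcard, Cfsg.Agent.Helper52.sylCard, Subgroup.card_top]
    congr 1
    have hidx : ¬ t ∣ (alphaCore M).index := (Cfsg.Agent.S1405.result hG M hM).2.1.2 t htp ht
    have hmul : Nat.card (alphaCore M) * (alphaCore M).index = Nat.card G :=
      Subgroup.card_mul_index _
    rw [← hmul, Nat.factorization_mul Nat.card_pos.ne' (Subgroup.index_ne_zero_of_finite),
      Finsupp.add_apply, Nat.factorization_eq_zero_of_not_dvd hidx, add_zero]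
  -- an elementary abelian subgroup of order `> t^2` of `M`, conjugated into `T`
  have hr := ht.2
  unfold Cfsg.PRankLE at hr
  push Not at hr
  obtain ⟨A₀, hA₀c, hA₀e, hA₀card⟩ := hr
  obtain ⟨hcomm, hexp, hcard⟩ := elemAb_map_subtype A₀ hA₀c hA₀e
  have hA₀p : IsPGroup t (A₀.map M.subtype) := isPGroup_of_pow_eq_one _ hexp
  obtain ⟨T', hAT', hT'⟩ := exists_isSylowIn_ge (K := (⊤ : Subgroup G)) hA₀p le_top
  obtain ⟨z, -, hz⟩ := exists_cj_eq_of_isSylowIn hT' hTtop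
  have hle : Cfsg.Agent.Helper79.BG10.cj z (A₀.map M.subtype) ≤ T := by
    rw [hz]
    exact cj_mono z hAT'
  have hrankT : ¬ Cfsg.PRankLE t 2 ↥T := by
    apply not_pRankLE_of_elemAb hle
    · rintro _ ⟨a, ha, rfl⟩ _ ⟨b, hb, rfl⟩
      rw [← map_mul, ← map_mul, hcomm a ha b hb]
    · rintro _ ⟨a, ha, rfl⟩
      rw [← map_pow, hexp a ha, map_one]
    · rw [card_cj, hcard]; exact hA₀card
  obtain ⟨h1, h2⟩ := not_rankLE_of_not_pRankLE htp hrankT
  have hLM : L ≤ M := le_of_rank_three (uniqHyp hG) hM hTM h1 h2 hL.1 hTL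
  rcases eq_or_lt_of_le hLM with e | hlt
  · exact hne e
  · exact hM.1 (hL.2 M hlt)

end Cfsg.Agent.Helper21.BG139Req
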