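import Mathlib
import Cfsg.Agent.S1350
import Cfsg.Agent.S1403
import Cfsg.Agent.S1405
import Cfsg.Agent.S1417
import Cfsg.Agent.Lib.Helper20.BG13A
import Cfsg.Agent.Lib.Helper34.BG10d
import Cfsg.Agent.Lib.Helper34.BG10i
import Cfsg.Agent.Lib.Helper55.BGHall

/-!
# BG chain: if `M_σ` is not nilpotent then `κ(M) ≠ ∅`

If `κ(M) = ∅`, pick a prime `p ∣ |M : M_σ|`.  If `M` has `p`-rank 2 then `p ∈ τ₂(M)` and `M_σ` is nilpotent
by S1417(a); if `M` has `p`-rank 1 then a Sylow `p`-subgroup is cyclic, acts freely on `M_σ` (as `p ∉ κ(M)`),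
and `M_σ` is nilpotent by Thompson's theorem.
-/

set_option autoImplicit false

namespace Cfsg.Agent.Helper21.BGPart

open Subgroup Cfsg

variable {G : Type*} [Group G]

theorem isMulCommutative_map_subtype {M : Subgroup G} (A : Subgroup M) (hA : IsMulCommutative A) :
    IsMulCommutative (A.map M.subtype) := by
  refine ⟨⟨?_⟩⟩
  rintro ⟨_, ⟨a, ha, rfl⟩⟩ ⟨_, ⟨b, hb, rfl⟩⟩
  apply Subtype.ext
  have h := hA.is_comm.comm (⟨a, ha⟩ : A) ⟨b, hb⟩
  have h' : a * b = b * a := congrArg Subtype.val h
  simp only [Subgroup.coe_mul, Subgroup.coe_subtype]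
  exact congrArg Subtype.val h'

theorem kappa_nonempty_of_not_nilpotent [Finite G] (hG : Cfsg.IsMinSimpleOddOrder G)
    (M : Subgroup G) (hM : IsCoatom M) (hnil : ¬ Group.IsNilpotent (Cfsg.sigmaCore M)) :
    (Cfsg.kappa M).Nonempty := by
  by_contra hκ
  rw [Set.not_nonempty_iff_eq_empty] at hκ
  apply hnil
  have hHall := (Cfsg.Agent.S1350.result hG M hM).1
  have h1405 := Cfsg.Agent.S1405.result hG M hM
  have hσM' : sigmaCore M ≤ ⁅M, M⁆ :=
    Cfsg.Agent.Helper34.BG.sigmaCore_le_commutator hG
      (fun K hK h1 h2 => Cfsg.Agent.S1403.result hG K hK h1 h2) hM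
  haveI hsol : Group.IsSolvable M := hG.2.2.2 M hM.1
  have hσle : sigmaCore M ≤ M := hHall.1
  by_cases hEq : sigmaCore M = M
  · -- then `M` is perfect and solvable, hence trivial
    have hperf : ⁅M, M⁆ = M := by
      apply le_antisymm (Subgroup.commutator_le_self M)
      calc M = sigmaCore M := hEq.symm
        _ ≤ ⁅M, M⁆ := hσM'
    have hsub : Subsingleton M := by
      by_contra hns
      rw [not_subsingleton_iff_nontrivial] at hns
      have hlt := Group.IsSolvable.commutator_lt_top_of_nontrivial M
      have h1 : (commutator M).map M.subtype = (⊤ : Subgroup M).map M.subtype := by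
        rw [Subgroup.map_subtype_commutator, hperf, ← MonoidHom.range_eq_map, Subgroup.range_subtype]
      have h2 : commutator M = ⊤ := Subgroup.map_injective M.subtype_injective h1
      exact hlt.ne h2
    haveI : Subsingleton (sigmaCore M) := by
      refine ⟨fun a b => ?_⟩
      apply Subtype.ext
      have ha : (⟨(a : G), hσle a.2⟩ : M) = ⟨(b : G), hσle b.2⟩ := Subsingleton.elim _ _
      exact congrArg (fun z : M => (z : G)) ha
    infer_instance
  · have hidx : (sigmaCore M).relIndex M ≠ 1 := by
      intro h1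
      apply hEq
      exact le_antisymm hσle (Subgroup.relIndex_eq_one.mp h1)
    obtain ⟨p, hp, hpd⟩ := Nat.exists_prime_and_dvd hidx
    haveI := Fact.mk hp
    have hpσ : p ∉ sigma M := fun h => hHall.2.2 p hp h hpd
    have hpM : p ∣ Nat.card M := hpd.trans (Subgroup.relIndex_dvd_card _ _)
    by_cases hr1 : PRankLE p 1 M
    · obtain ⟨S⟩ : Nonempty (Sylow p M) := inferInstance
      have hp2 : p ≠ 2 := by
        rintro rfl
        have h2G : 2 ∣ Nat.card G := hpM.trans (Subgroup.card_subgroup_dvd_card M)
        have hodd := hG.1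
        rw [Nat.odd_iff] at hodd
        omega
      have hrS : PRankLE p 1 (S : Subgroup M) :=
        Cfsg.Agent.Helper55.BGB.prankLE_of_injective (S : Subgroup M).subtype
          (Subgroup.subtype_injective _) hr1
      have hcyc : IsCyclic (S : Subgroup M) :=
        Cfsg.Agent.Helper34.BG.isCyclic_of_pRankLE_one hp2 S.2 hrS
      have hκp : p ∉ kappa M := by rw [hκ]; exact Set.notMem_empty _
      have hfree := Cfsg.Agent.Helper20.BG13.free_of_cyclic M p hpM hpσ hκp S hcyc
      have hSd : p ∣ Nat.card (S : Subgroup M) := by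
        have := S.card_eq_multiplicity
        rw [this]
        have hpos : 0 < (Nat.card M).factorization p := by
          have hM0 : Nat.card M ≠ 0 := Nat.card_pos.ne'
          exact (hp.factorization_pos_of_dvd hM0 hpM)
        exact dvd_pow_self p hpos.ne'
      obtain ⟨x, hx⟩ := exists_prime_orderOf_dvd_card' p hSd
      have hxM : orderOf (x : M) = p := by rw [Subgroup.orderOf_coe]; exact hx
      have hxG : orderOf ((x : M) : G) = p := by rw [Subgroup.orderOf_coe]; exact hxM
      have hx1 : (x : M) ≠ 1 := by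
        intro h
        rw [h, orderOf_one] at hxM
        exact hp.ne_one hxM.symm
      have hxp : ((x : M) : G) ^ p = 1 := by
        have := pow_orderOf_eq_one ((x : M) : G)
        rwa [hxG] at this
      have hxn : ((x : M) : G) ∈ normalizer ((sigmaCore M : Subgroup G) : Set G) :=
        Cfsg.Agent.Helper55.BGB.le_normalizer_sigmaCore M (x : M).2
      exact Cfsg.Agent.Helper20.BG13.nilpotent_of_free (sigmaCore M) ((x : M) : G) hxn p hp hxp
        (fun y hy hy1 => hfree (x : M) x.2 hx1 y hy hy1)
    · have hr2 : PRankLE p 2 M :=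
        Cfsg.Agent.Helper55.BGB.prankLE_two_of_not_mem_sigma hp h1405.1 h1405.2.2.1 hpσ
      have hτ : p ∈ tau2 M := ⟨hp, hpσ, hr2, hr1⟩
      unfold PRankLE at hr1
      push Not at hr1
      obtain ⟨A, hAc, hAe, hAcard⟩ := hr1
      have hA2 : Nat.card A ≤ p ^ 2 := hr2 A hAc hAe
      have hAp : IsPGroup p A := by
        intro a
        refine ⟨1, ?_⟩
        apply Subtype.ext
        rw [pow_one]
        simpa using hAe a a.2
      obtain ⟨k, hk⟩ := IsPGroup.iff_card.mp hAp
      have hk2 : k = 2 := by
        rw [hk] at hAcard hA2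
        have h1 : 1 < k := (Nat.pow_lt_pow_iff_right hp.one_lt).mp hAcard
        have h2 : k ≤ 2 := (Nat.pow_le_pow_iff_right hp.one_lt).mp hA2
        omega
      subst hk2
      have hAel : IsElementaryAbelian p (A.map M.subtype) := by
        refine ⟨isMulCommutative_map_subtype A hAc, ?_⟩
        rintro _ ⟨a, ha, rfl⟩
        have := hAe a ha
        rw [← map_pow, this, map_one]
      have hAcardG : Nat.card (A.map M.subtype) = p ^ 2 := by
        rw [Subgroup.card_map_of_injective M.subtype_injective, hk]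
      exact (Cfsg.Agent.S1417.result hG M hM p hτ (A.map M.subtype)
        ⟨Subgroup.map_subtype_le _, hAel, hAcardG⟩).1

end Cfsg.Agent.Helper21.BGPart
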