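import Mathlib
import Cfsg.Agent.S1351
import Cfsg.Agent.S1352
import Cfsg.Agent.S1366
import Cfsg.Agent.S1367
import Cfsg.Agent.S1434
import Cfsg.Agent.Lib.Helper55.BGBasic

/-!
# BG chain: a maximal subgroup `H` with `κ(H) ≠ ∅` is conjugate to `M` or to its partner `M*`

Formal consequence of S1351/S1352 (standard factorisation of `H`), S1366 (partner of `H`),
S1434 (the conjugates of `Ẑ` cover more than half of `G`; `C_G(xy) = K K*`) and S1367
(`M`, `M*` are the unique maximal subgroups over `C_G(X)`, `X ≤ K*` resp. `X ≤ K` of prime order).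
This is the second half of S1369, proved WITHOUT its first half (which needs the counting of `M̃`).
-/

set_option autoImplicit false

namespace Cfsg.Agent.Helper21.BGPart

open Subgroup Cfsg

variable {G : Type*} [Group G]

/-- conjugation by `g` as a monoid hom -/
abbrev cj (g : G) : G →* G := (MulAut.conj g).toMonoidHom

theorem cj_apply (g x : G) : cj g x = g * x * g⁻¹ := rfl

theorem mem_map_cj {H : Subgroup G} {g x : G} : x ∈ H.map (cj g) ↔ g⁻¹ * x * g ∈ H := by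
  constructor
  · rintro ⟨y, hy, rfl⟩
    have : g⁻¹ * (cj g y) * g = y := by
      rw [cj_apply]
      group
    rw [this]
    exact hy
  · intro h
    refine ⟨g⁻¹ * x * g, h, ?_⟩
    rw [cj_apply]
    group

theorem isCoatom_map_cj {M : Subgroup G} (hM : IsCoatom M) (g : G) : IsCoatom (M.map (cj g)) :=
  ((MulAut.conj g).mapSubgroup.isCoatom_iff M).2 hM

theorem map_cj_map_cj_inv (H : Subgroup G) (g : G) : (H.map (cj g)).map (cj g⁻¹) = H := by
  ext x
  rw [mem_map_cj, mem_map_cj]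
  have : g⁻¹ * (g⁻¹⁻¹ * x * g⁻¹) * g = x := by group
  rw [this]

theorem centralizer_map_cj (H : Subgroup G) (g : G) :
    centralizer ((H.map (cj g) : Subgroup G) : Set G) = (centralizer (H : Set G)).map (cj g) := by
  ext x
  rw [mem_map_cj, mem_centralizer_iff, mem_centralizer_iff]
  constructor
  · intro h y hy
    have h1 := h (g * y * g⁻¹) ⟨y, hy, rfl⟩
    calc y * (g⁻¹ * x * g) = g⁻¹ * ((g * y * g⁻¹) * x) * g := by group
      _ = g⁻¹ * (x * (g * y * g⁻¹)) * g := by rw [h1]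
      _ = g⁻¹ * x * g * y := by group
  · rintro h _ ⟨y, hy, rfl⟩
    have h1 := h y hy
    rw [cj_apply]
    calc g * y * g⁻¹ * x = g * (y * (g⁻¹ * x * g)) * g⁻¹ := by group
      _ = g * ((g⁻¹ * x * g) * y) * g⁻¹ := by rw [h1]
      _ = x * (g * y * g⁻¹) := by group

theorem mem_sup_of_commute {A B : Subgroup G} (h : ∀ a ∈ A, ∀ b ∈ B, a * b = b * a) {g : G}
    (hg : g ∈ A ⊔ B) : ∃ a ∈ A, ∃ b ∈ B, g = a * b := by
  rw [sup_eq_closure_mul] at hg
  induction hg using closure_induction with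
  | mem x hx =>
    obtain ⟨a, ha, b, hb, rfl⟩ := hx
    exact ⟨a, ha, b, hb, rfl⟩
  | one => exact ⟨1, one_mem _, 1, one_mem _, by simp⟩
  | mul x y _ _ hx hy =>
    obtain ⟨a, ha, b, hb, rfl⟩ := hx
    obtain ⟨a', ha', b', hb', rfl⟩ := hy
    refine ⟨a * a', mul_mem ha ha', b * b', mul_mem hb hb', ?_⟩
    have := h a' ha' b hb
    calc a * b * (a' * b') = a * (b * a') * b' := by group
      _ = a * (a' * b) * b' := by rw [this]
      _ = a * a' * (b * b') := by group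
  | inv x _ hx =>
    obtain ⟨a, ha, b, hb, rfl⟩ := hx
    refine ⟨a⁻¹, inv_mem ha, b⁻¹, inv_mem hb, ?_⟩
    have := h a ha b hb
    rw [mul_inv_rev]
    have h2 : b⁻¹ * a⁻¹ = (a * b)⁻¹ := by group
    have h3 : a⁻¹ * b⁻¹ = (b * a)⁻¹ := by group
    rw [h2, h3, this]

/-- K* for a pair (M, K) -/
abbrev Kst (M K : Subgroup G) : Subgroup G := sigmaCore M ⊓ centralizer (K : Set G)

/-- the set Ẑ -/
abbrev Zhat (M K : Subgroup G) : Set G :=
  ((↑(K ⊔ Kst M K) : Set G) \ ((K : Set G) ∪ ↑(Kst M K)))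

theorem kst_commute (M K : Subgroup G) : ∀ a ∈ K, ∀ b ∈ Kst M K, a * b = b * a := by
  intro a ha b hb
  exact ((mem_centralizer_iff.mp hb.2) a ha)

/-- an element of `Ẑ` is a product `x * y` with `x ∈ K`, `y ∈ K*` both nontrivial -/
theorem zhat_decomp {M K : Subgroup G} {z : G} (hz : z ∈ Zhat M K) :
    ∃ x ∈ K, x ≠ 1 ∧ ∃ y ∈ Kst M K, y ≠ 1 ∧ z = x * y := by
  obtain ⟨hz1, hz2⟩ := hz
  obtain ⟨a, ha, b, hb, rfl⟩ := mem_sup_of_commute (kst_commute M K) hz1
  refine ⟨a, ha, ?_, b, hb, ?_, rfl⟩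
  · rintro rfl
    apply hz2
    right
    simpa using hb
  · rintro rfl
    apply hz2
    left
    simpa using ha

theorem conj_of_kappa_nonempty [Finite G] (hG : Cfsg.IsMinSimpleOddOrder G)
    (M : Subgroup G) (hM : IsCoatom M) (K U : Subgroup G) (hKU : Cfsg.IsSigmaDecomposition M K U)
    (hK1 : K ≠ ⊥) (Mstar : Subgroup G) (hMstar : IsCoatom Mstar)
    (hKst : K = Cfsg.sigmaCore Mstar ⊓ Subgroup.centralizer ((Cfsg.sigmaCore M ⊓ Subgroup.centralizer (K : Set G)) : Set G))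
    (hKstH : Cfsg.IsPiHallOf (Cfsg.kappa Mstar) (Cfsg.sigmaCore M ⊓ Subgroup.centralizer (K : Set G)) Mstar)
    (H : Subgroup G) (hH : IsCoatom H) (hκH : (Cfsg.kappa H).Nonempty) :
    ∃ g : G, H = M.map (cj g) ∨ H = Mstar.map (cj g) := by
  -- standard factorisation of H
  obtain ⟨⟨KH, hKH⟩, hcycH⟩ := Cfsg.Agent.S1351.result hG H hH
  obtain ⟨⟨UH, hKUH⟩, -⟩ := Cfsg.Agent.S1352.result hG H hH KH (hcycH KH hKH) hKH
  have hKH1 : KH ≠ ⊥ := by
    obtain ⟨p, hp⟩ := hκH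
    intro hbot
    have hnd := hKH.2.2 p hp.1 hp
    apply hnd
    rw [hbot, Subgroup.relIndex_bot_left]
    exact hp.2.1
  -- partner of H
  obtain ⟨Hst, ⟨hHst, hKHst, hKHstH⟩, -⟩ := Cfsg.Agent.S1366.result hG H hH KH UH hKUH hKH1
  have h34M := Cfsg.Agent.S1434.result hG M hM K U hKU hK1 Mstar hMstar hKst hKstH
  have h34H := Cfsg.Agent.S1434.result hG H hH KH UH hKUH hKH1 Hst hHst hKHst hKHstH
  have h67M := Cfsg.Agent.S1367.result hG M hM K U hKU hK1 Mstar hMstar hKst hKstH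
  have h67H := Cfsg.Agent.S1367.result hG H hH KH UH hKUH hKH1 Hst hHst hKHst hKHstH
  obtain ⟨-, -, hcM, -, -, hbigM⟩ := h34M
  obtain ⟨-, -, hcH, -, -, hbigH⟩ := h34H
  -- the two big sets meet
  set A : Set G := {a : G | ∃ g : G, ∃ z ∈ Zhat M K, a = g * z * g⁻¹} with hA
  set B : Set G := {a : G | ∃ g : G, ∃ z ∈ Zhat H KH, a = g * z * g⁻¹} with hB
  have hAB : (A ∩ B).Nonempty := by
    by_contra hne
    rw [Set.not_nonempty_iff_eq_empty] at hne
    have hdis : Disjoint A B := Set.disjoint_iff_inter_eq_empty.mpr hne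
    have h1 := Set.ncard_union_eq hdis (Set.toFinite A) (Set.toFinite B)
    have h2 := Set.ncard_le_card (A ∪ B)
    omega
  obtain ⟨a, ⟨g, z, hz, rfl⟩, ⟨h, z', hz', hzz'⟩⟩ := hAB
  obtain ⟨x, hx, hx1, y, hy, hy1, rfl⟩ := zhat_decomp hz
  obtain ⟨x', hx', hx'1, y', hy', hy'1, rfl⟩ := zhat_decomp hz'
  have hCz : centralizer ({x * y} : Set G) = K ⊔ Kst M K := (hcM x hx hx1 y hy hy1).2.2
  have hCz' : centralizer ({x' * y'} : Set G) = KH ⊔ Kst H KH := (hcH x' hx' hx'1 y' hy' hy'1).2.2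
  -- t conjugates z' to z
  set t : G := g⁻¹ * h with ht
  have hconj : x * y = t * (x' * y') * t⁻¹ := by
    have : x * y = g⁻¹ * (g * (x * y) * g⁻¹) * g := by group
    rw [this, hzz', ht]
    group
  -- a subgroup of prime order in KH*
  have hKHst1 : Kst H KH ≠ ⊥ := by
    intro hb
    apply hy'1
    have : y' ∈ (⊥ : Subgroup G) := hb ▸ hy'
    simpa using this
  obtain ⟨ℓ, hℓ, hℓd⟩ := Nat.exists_prime_and_dvd
    (show Nat.card (Kst H KH) ≠ 1 from fun h1 => hKHst1 (Subgroup.card_eq_one.mp h1))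
  haveI := Fact.mk hℓ
  obtain ⟨w', hw'⟩ := exists_prime_orderOf_dvd_card' ℓ hℓd
  -- X' = ⟨w'⟩ ≤ KH*
  set X' : Subgroup G := zpowers (w' : G) with hX'
  have hX'le : X' ≤ Kst H KH := (zpowers_le).2 w'.2
  have hwG : orderOf (w' : G) = ℓ := by rw [Subgroup.orderOf_coe]; exact hw'
  have hX'card : (Nat.card X').Prime := by
    rw [hX', Nat.card_zpowers, hwG]; exact hℓ
  obtain ⟨hX'H, hX'uniq⟩ := h67H.1 X' hX'le hX'card
  -- X = t X' t⁻¹ ≤ Z = K K*
  set w : G := t * (w' : G) * t⁻¹ with hw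
  have hwZ : w ∈ K ⊔ Kst M K := by
    rw [← hCz, mem_centralizer_iff]
    intro c hc
    rw [Set.mem_singleton_iff] at hc
    subst hc
    have hw'Z : (w' : G) ∈ centralizer ({x' * y'} : Set G) := by
      rw [hCz']
      exact (le_sup_right : Kst H KH ≤ KH ⊔ Kst H KH) w'.2
    have hc' := (mem_centralizer_iff.mp hw'Z) (x' * y') rfl
    rw [hconj, hw]
    calc t * (x' * y') * t⁻¹ * (t * (w' : G) * t⁻¹) = t * ((x' * y') * (w' : G)) * t⁻¹ := by group
      _ = t * ((w' : G) * (x' * y')) * t⁻¹ := by rw [hc']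
      _ = t * (w' : G) * t⁻¹ * (t * (x' * y') * t⁻¹) := by group
  have hword : orderOf w = ℓ := by
    rw [hw]
    have : t * (w' : G) * t⁻¹ = MulAut.conj t (w' : G) := rfl
    rw [this, MulEquiv.orderOf_eq, hwG]
  obtain ⟨a, ha, b, hb, hwab⟩ := mem_sup_of_commute (kst_commute M K) hwZ
  have hcomm : a * b = b * a := kst_commute M K a ha b hb
  -- K ∩ K* = 1
  have hinf : ∀ c, c ∈ K → c ∈ Kst M K → c = 1 := by
    intro c hcK hcKst
    by_contra hc1
    have hord : orderOf c ≠ 1 := fun h => hc1 (orderOf_eq_one_iff.mp h)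
    obtain ⟨r, hr, hrd⟩ := Nat.exists_prime_and_dvd hord
    have h1 : r ∣ Nat.card K := hrd.trans (by
      have := Subgroup.orderOf_dvd_natCard K hcK
      exact this)
    have h2 : r ∣ Nat.card (sigmaCore M) := hrd.trans (Subgroup.orderOf_dvd_natCard _ hcKst.1)
    have hrκ : r ∈ kappa M := hKU.hall.2.1 r hr h1
    exact hrκ.2.2.1 (Cfsg.Agent.Helper55.BGB.isPi_sigmaCore M r hr h2)
  have hpow : a ^ ℓ = 1 ∧ b ^ ℓ = 1 := by
    have h1 : w ^ ℓ = 1 := by rw [← hword]; exact pow_orderOf_eq_one w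
    rw [hwab, (Commute.mul_pow hcomm ℓ)] at h1
    have h2 : a ^ ℓ = (b ^ ℓ)⁻¹ := eq_inv_of_mul_eq_one_left h1
    have h3 : a ^ ℓ ∈ Kst M K := by rw [h2]; exact inv_mem (pow_mem hb ℓ)
    have h4 : a ^ ℓ = 1 := hinf _ (pow_mem ha ℓ) h3
    refine ⟨h4, ?_⟩
    rw [h4, one_mul] at h1
    exact h1
  have hab1 : a = 1 ∨ b = 1 := by
    by_contra hne
    push Not at hne
    obtain ⟨ha1, hb1⟩ := hne
    have hoa : orderOf a = ℓ := by
      rcases (Nat.dvd_prime hℓ).mp (orderOf_dvd_of_pow_eq_one hpow.1) with h | h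
      · exact absurd (orderOf_eq_one_iff.mp h) ha1
      · exact h
    have hob : orderOf b = ℓ := by
      rcases (Nat.dvd_prime hℓ).mp (orderOf_dvd_of_pow_eq_one hpow.2) with h | h
      · exact absurd (orderOf_eq_one_iff.mp h) hb1
      · exact h
    have h1 : ℓ ∣ Nat.card K := by rw [← hoa]; exact Subgroup.orderOf_dvd_natCard K ha
    have h2 : ℓ ∣ Nat.card (sigmaCore M) := by
      rw [← hob]; exact Subgroup.orderOf_dvd_natCard _ hb.1
    have hrκ : ℓ ∈ kappa M := hKU.hall.2.1 ℓ hℓ h1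
    exact hrκ.2.2.1 (Cfsg.Agent.Helper55.BGB.isPi_sigmaCore M ℓ hℓ h2)
  -- the conjugate X = t X' t⁻¹
  have hXmap : X'.map (cj t) = zpowers w := by
    rw [hX', MonoidHom.map_zpowers]
    rfl
  have hXcard : (Nat.card (zpowers w)).Prime := by
    rw [Nat.card_zpowers, hword]; exact hℓ
  have hcent : centralizer ((zpowers w : Subgroup G) : Set G) ≤ H.map (cj t) := by
    rw [← hXmap, centralizer_map_cj]
    exact Subgroup.map_mono hX'H
  have hHt : IsCoatom (H.map (cj t)) := isCoatom_map_cj hH t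
  refine ⟨t⁻¹, ?_⟩
  rcases hab1 with rfl | rfl
  · -- w = b ∈ K*
    left
    have hwK : zpowers w ≤ Kst M K := by
      rw [zpowers_le, hwab, one_mul]; exact hb
    have := (h67M.1 (zpowers w) hwK hXcard).2 (H.map (cj t)) hHt hcent
    rw [← this, map_cj_map_cj_inv]
  · right
    have hwK : zpowers w ≤ K := by
      rw [zpowers_le, hwab, mul_one]; exact ha
    have := (h67M.2 (zpowers w) hwK hXcard).2 (H.map (cj t)) hHt hcent
    rw [← this, map_cj_map_cj_inv]

end Cfsg.Agent.Helper21.BGPart
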