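import Mathlib
import Cfsg.Agent.S1350
import Cfsg.Agent.S1431
import Cfsg.Agent.S1434
import Cfsg.Agent.Lib.Helper21.BGSigma
import Cfsg.Agent.Lib.Helper21.BGPartB
import Cfsg.Agent.Lib.Helper55.BGHall

/-!
# BG chain: the two ends of the proof that `σ(M) ∩ σ(N) ≠ ∅` forces `N` conjugate to `M`

* `conj_of_nilpotent`: if `q ∈ σ(M) ∩ σ(N)` and `M_σ` is nilpotent then `N` is conjugate to `M`
  (the Sylow `q`-subgroup of `M_σ` is normal in `M`).
* `not_conj_partner`: if `q ∈ σ(M) ∩ σ(N)` then `N` is not conjugate to the partner `M*` of `M`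
  (`K*` would contain a full Sylow `q`-subgroup of `M_σ`, against S1431).
-/

set_option autoImplicit false

namespace Cfsg.Agent.Helper21.BGPart

open Subgroup Cfsg Cfsg.Agent.Helper21.BGSigma

variable {G : Type*} [Group G]

theorem card_subgroupOf_eq {H K : Subgroup G} (h : H ≤ K) : Nat.card (H.subgroupOf K) = Nat.card H := by
  rw [← Subgroup.card_map_of_injective K.subtype_injective, map_subgroupOf_eq_of_le h]

theorem card_mul_relIndex' {A M : Subgroup G} (h : A ≤ M) :
    Nat.card A * A.relIndex M = Nat.card M := by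
  rw [← card_subgroupOf_eq h]
  exact Subgroup.card_mul_index (A.subgroupOf M)

theorem le_normalizer_of_conj_mem {M S : Subgroup G} (h : ∀ m ∈ M, ∀ x ∈ S, m * x * m⁻¹ ∈ S) :
    M ≤ normalizer (S : Set G) := by
  intro m hm
  rw [mem_normalizer_iff]
  intro x
  constructor
  · exact h m hm x
  · intro hx
    have := h m⁻¹ (inv_mem hm) _ hx
    have h2 : m⁻¹ * (m * x * m⁻¹) * m⁻¹⁻¹ = x := by group
    rwa [h2] at this

theorem hall_ne_bot {π : Set ℕ} {K M : Subgroup G} (hK : IsPiHallOf π K M) {p : ℕ} (hp : p.Prime)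
    (hpπ : p ∈ π) (hpM : p ∣ Nat.card M) : K ≠ ⊥ := by
  intro hbot
  apply hK.2.2 p hp hpπ
  rw [hbot, Subgroup.relIndex_bot_left]
  exact hpM

theorem sylow_smul_mem {p : ℕ} (g : G) (P : Sylow p G) {x : G} (hx : x ∈ (P : Subgroup G)) :
    g * x * g⁻¹ ∈ ((g • P : Sylow p G) : Subgroup G) := by
  rw [Sylow.smul_def, Sylow.pointwise_smul_def]
  have := Subgroup.smul_mem_pointwise_smul x (MulAut.conj g) (P : Subgroup G) hx
  simpa [MulAut.smul_def] using this

theorem conj_of_nilpotent [Finite G] (hG : Cfsg.IsMinSimpleOddOrder G)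
    (M N : Subgroup G) (hM : IsCoatom M) (hN : IsCoatom N) (q : ℕ) [Fact q.Prime]
    (hqM : q ∈ sigma M) (hqN : q ∈ sigma N) (hnil : Group.IsNilpotent (sigmaCore M)) :
    ∃ g : G, N = M.map (cj g) := by
  have hq : q.Prime := Fact.out
  have hHM := (Cfsg.Agent.S1350.result hG M hM).1
  obtain ⟨PM, hPM⟩ := hqM.2.2
  obtain ⟨PN, hPN⟩ := hqN.2.2
  obtain ⟨QM, hQM⟩ := exists_sylow_eq_map M PM hPM
  obtain ⟨QN, hQN⟩ := exists_sylow_eq_map N PN hPN
  have hQMM : (QM : Subgroup G) ≤ M := by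
    rw [hQM]; exact Subgroup.map_subtype_le _
  have hQNN : (QN : Subgroup G) ≤ N := by
    rw [hQN]; exact Subgroup.map_subtype_le _
  have hQσ : (QM : Subgroup G) ≤ sigmaCore M :=
    Cfsg.Agent.Helper55.BGB.le_sigmaCore_of_isPGroup hq hHM hqM hQMM QM.2
  -- the Sylow q-subgroup of `M_σ` is normal, hence unique
  set T : Sylow q (sigmaCore M) := QM.subtype hQσ with hT
  have hTn : (T : Subgroup (sigmaCore M)).Normal :=
    Sylow.normal_of_normalizerCondition Group.normalizerCondition_of_isNilpotent T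
  haveI : Unique (Sylow q (sigmaCore M)) := Sylow.unique_of_normal T hTn
  have hMn : M ≤ normalizer ((QM : Subgroup G) : Set G) := by
    apply le_normalizer_of_conj_mem
    intro m hm x hx
    -- the conjugate of `QM` by `m` is a `q`-subgroup of `M_σ`
    set R : Subgroup G := (QM : Subgroup G).map (cj m) with hR
    have hRq : IsPGroup q R := QM.2.map (cj m)
    have hRσ : R ≤ sigmaCore M := by
      rintro _ ⟨y, hy, rfl⟩
      have hn := Cfsg.Agent.Helper55.BGB.le_normalizer_sigmaCore M hm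
      exact (mem_normalizer_iff.mp hn y).mp (hQσ hy)
    have hRq' : IsPGroup q (R.subgroupOf (sigmaCore M)) :=
      hRq.comap_of_injective (sigmaCore M).subtype (Subgroup.subtype_injective _)
    obtain ⟨T', hT'⟩ := hRq'.exists_le_sylow
    have hTT' : T' = T := Subsingleton.elim _ _
    have hmem : (⟨m * x * m⁻¹, hRσ ⟨x, hx, rfl⟩⟩ : sigmaCore M) ∈ (T : Subgroup (sigmaCore M)) := by
      rw [← hTT']
      apply hT'
      rw [mem_subgroupOf]
      exact ⟨x, hx, rfl⟩
    rw [hT, Sylow.coe_subtype, mem_subgroupOf] at hmem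
    exact hmem
  obtain ⟨g, hg⟩ := MulAction.exists_smul_eq G QM QN
  have hgQ : ∀ x ∈ (QM : Subgroup G), g * x * g⁻¹ ∈ (QN : Subgroup G) := by
    intro x hx
    rw [← hg]
    exact sylow_smul_mem g QM hx
  have hg' : g⁻¹ • QN = QM := by rw [← hg, inv_smul_smul]
  have hgQ' : ∀ y ∈ (QN : Subgroup G), g⁻¹ * y * g ∈ (QM : Subgroup G) := by
    intro y hy
    have := sylow_smul_mem g⁻¹ QN hy
    rw [hg', inv_inv] at this
    exact this
  refine ⟨g, ?_⟩
  have hle : M.map (cj g) ≤ N := by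
    rintro _ ⟨m, hm, rfl⟩
    apply hPN
    rw [← hQN]
    have hmn := hMn hm
    have : M.map (cj g) ≤ normalizer ((QN : Subgroup G) : Set G) := by
      apply le_normalizer_of_conj_mem
      rintro _ ⟨m', hm', rfl⟩ y hy
      have h1 : g⁻¹ * y * g ∈ (QM : Subgroup G) := hgQ' y hy
      have h2 : m' * (g⁻¹ * y * g) * m'⁻¹ ∈ (QM : Subgroup G) :=
        (mem_normalizer_iff.mp (hMn hm') _).mp h1
      have h3 := hgQ _ h2
      have h4 : cj g m' * y * (cj g m')⁻¹ = g * (m' * (g⁻¹ * y * g) * m'⁻¹) * g⁻¹ := by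
        rw [cj_apply]; group
      rw [h4]
      exact h3
    exact this ⟨m, hm, rfl⟩
  rcases (isCoatom_map_cj hM g).le_iff.mp hle with h | h
  · exact absurd h hN.1
  · exact h

theorem not_conj_partner [Finite G] (hG : Cfsg.IsMinSimpleOddOrder G)
    (M : Subgroup G) (hM : IsCoatom M) (K U : Subgroup G) (hKU : Cfsg.IsSigmaDecomposition M K U)
    (hK1 : K ≠ ⊥) (Mstar : Subgroup G) (hMstar : IsCoatom Mstar)
    (hKst : K = Cfsg.sigmaCore Mstar ⊓ Subgroup.centralizer ((Cfsg.sigmaCore M ⊓ Subgroup.centralizer (K : Set G)) : Set G))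
    (hKstH : Cfsg.IsPiHallOf (Cfsg.kappa Mstar) (Cfsg.sigmaCore M ⊓ Subgroup.centralizer (K : Set G)) Mstar)
    (N : Subgroup G) (hN : IsCoatom N) (q : ℕ) [Fact q.Prime]
    (hqM : q ∈ sigma M) (hqN : q ∈ sigma N) (g : G) (hNg : N = Mstar.map (cj g)) : False := by
  have hq : q.Prime := Fact.out
  obtain ⟨PN, hPN⟩ := hqN.2.2
  obtain ⟨QN, hQN⟩ := exists_sylow_eq_map N PN hPN
  have hQNN : (QN : Subgroup G) ≤ N := by
    rw [hQN]; exact Subgroup.map_subtype_le _
  have h34 := Cfsg.Agent.S1434.result hG M hM K U hKU hK1 Mstar hMstar hKst hKstH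
  have hHallK : IsPiHallOf (sigma M) (Kst M K) Mstar := h34.2.1
  have h31 := (Cfsg.Agent.S1431.result hG M hM K hKU.hall hK1).2.2.1
  -- `q ^ v ∣ |K*|`
  set v := (Nat.card G).factorization q with hv
  have hcQ : Nat.card (QN : Subgroup G) = q ^ v := QN.card_eq_multiplicity
  have hcN : Nat.card N = Nat.card Mstar := by
    rw [hNg]; exact Subgroup.card_map_of_injective (MulAut.conj g).injective
  have hd1 : q ^ v ∣ Nat.card Mstar := by
    rw [← hcN, ← hcQ]; exact Subgroup.card_dvd_of_le hQNN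
  have hnd : ¬ q ∣ (Kst M K).relIndex Mstar := hHallK.2.2 q hq hqM
  have hd2 : q ^ v ∣ Nat.card (Kst M K) := by
    rw [← card_mul_relIndex' hHallK.1] at hd1
    exact (Nat.Coprime.pow_left v ((Nat.Prime.coprime_iff_not_dvd hq).mpr hnd)).dvd_of_dvd_mul_right hd1
  have hvpos : 0 < v := by
    have hG0 : Nat.card G ≠ 0 := Nat.card_pos.ne'
    have : q ∣ Nat.card G := hqM.2.1.trans (Subgroup.card_subgroup_dvd_card M)
    exact hq.factorization_pos_of_dvd hG0 this
  have hqK : q ∣ Nat.card (Kst M K) := (dvd_pow_self q hvpos.ne').trans hd2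
  -- factorization of |M_σ| at q equals v
  have hKσ : Kst M K ≤ sigmaCore M := inf_le_left
  have hcσ0 : Nat.card (sigmaCore M) ≠ 0 := Nat.card_pos.ne'
  have hvσ : (Nat.card (sigmaCore M)).factorization q = v := by
    apply le_antisymm
    · have hdvd : Nat.card (sigmaCore M) ∣ Nat.card G := Subgroup.card_subgroup_dvd_card _
      have := (Nat.factorization_le_iff_dvd hcσ0 Nat.card_pos.ne').mpr hdvd
      exact this q
    · have : q ^ v ∣ Nat.card (sigmaCore M) := hd2.trans (Subgroup.card_dvd_of_le hKσ)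
      exact (hq.pow_dvd_iff_le_factorization hcσ0).mp this
  have hcK0 : Nat.card (Kst M K) ≠ 0 := Nat.card_pos.ne'
  have hvK : (Nat.card (Kst M K)).factorization q = v := by
    apply le_antisymm
    · have hdvd : Nat.card (Kst M K) ∣ Nat.card G := Subgroup.card_subgroup_dvd_card _
      have := (Nat.factorization_le_iff_dvd hcK0 Nat.card_pos.ne').mpr hdvd
      exact this q
    · exact (hq.pow_dvd_iff_le_factorization hcK0).mp hd2
  -- a Sylow q-subgroup of K*, as a Sylow q-subgroup of M_σ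
  obtain ⟨T⟩ : Nonempty (Sylow q (Kst M K)) := inferInstance
  set T' : Subgroup G := (T : Subgroup (Kst M K)).map (Kst M K).subtype with hT'
  have hT'K : T' ≤ Kst M K := Subgroup.map_subtype_le _
  have hcT' : Nat.card T' = q ^ v := by
    rw [hT', Subgroup.card_map_of_injective (Subgroup.subtype_injective _), T.card_eq_multiplicity, hvK]
  have hcard : Nat.card (T'.subgroupOf (sigmaCore M)) =
      q ^ (Nat.card (sigmaCore M)).factorization q := by
    rw [card_subgroupOf_eq (hT'K.trans hKσ), hcT', hvσ]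
  set S' : Sylow q (sigmaCore M) := Sylow.ofCard (T'.subgroupOf (sigmaCore M)) hcard with hS'
  have hS'map : (S' : Subgroup (sigmaCore M)).map (sigmaCore M).subtype = T' := by
    rw [hS', Sylow.coe_ofCard, map_subgroupOf_eq_of_le (hT'K.trans hKσ)]
  have := (h31 q hq hqK S').2.2
  apply this
  rw [hS'map]
  exact hT'K

end Cfsg.Agent.Helper21.BGPart
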