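import Cfsg.Prelude.Def_Local

/-!
# Quasisimple groups and components: basic theory (helper21)

Main results (all in namespace `Cfsg.Agent.Helper21`):
* `isQuasisimple_of_mulEquiv`, `isQuasisimple_congr`: invariance under isomorphism.
* `quasisimple_normal_eq_top_or_le_center`, `quasisimple_subnormal_eq_top_or_le_center`.
-/

set_option autoImplicit false

namespace Cfsg.Agent.Helper21

open Subgroup
open scoped commutatorElement

section Basic

variable {H K : Type*} [Group H] [Group K]

theorem map_center_mulEquiv (e : H ≃* K) : (center H).map e.toMonoidHom = center K := by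
  ext x
  rw [Subgroup.mem_map_equiv, Subgroup.mem_center_iff, Subgroup.mem_center_iff]
  constructor
  · intro h g
    have := h (e.symm g)
    have h2 := congrArg e this
    simpa using h2
  · intro h g
    have := h (e g)
    apply e.injective
    simpa using this

theorem isQuasisimple_of_mulEquiv (e : H ≃* K) (h : IsQuasisimple H) : IsQuasisimple K := by
  obtain ⟨hp, hs⟩ := h
  refine ⟨Group.IsPerfect.ofSurjective (f := e.toMonoidHom) e.surjective, ?_⟩
  exact (QuotientGroup.congr (center H) (center K) e (map_center_mulEquiv e)).isSimpleGroup_congr.1 hs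

theorem isQuasisimple_congr (e : H ≃* K) : IsQuasisimple H ↔ IsQuasisimple K :=
  ⟨isQuasisimple_of_mulEquiv e, isQuasisimple_of_mulEquiv e.symm⟩

theorem quasisimple_commutator_eq_top (h : IsQuasisimple H) : commutator H = ⊤ :=
  h.1.commutator_eq_top

theorem quasisimple_center_ne_top (h : IsQuasisimple H) : center H ≠ ⊤ := by
  intro hc
  have := h.2
  have hnt : Nontrivial (H ⧸ center H) := IsSimpleGroup.toNontrivial
  obtain ⟨x, y, hxy⟩ := hnt
  apply hxy
  induction x using QuotientGroup.induction_on with | _ a => ?_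
  induction y using QuotientGroup.induction_on with | _ b => ?_
  rw [QuotientGroup.eq, hc]
  exact mem_top _

theorem quasisimple_nontrivial (h : IsQuasisimple H) : Nontrivial H := by
  by_contra hn
  rw [not_nontrivial_iff_subsingleton] at hn
  exact quasisimple_center_ne_top h (Subsingleton.elim _ _)

theorem quasisimple_not_isSolvable (h : IsQuasisimple H) : ¬ Group.IsSolvable H := by
  have := quasisimple_nontrivial h
  have := h.1
  exact Group.IsPerfect.not_isSolvable H

/-- If `N ⊔ center = ⊤` then every commutator lies in `⁅N, N⁆`. -/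
theorem commutator_le_of_sup_center_eq_top (N : Subgroup H) (hN : N ⊔ center H = ⊤) :
    commutator H ≤ ⁅N, N⁆ := by
  rw [commutator_def, Subgroup.commutator_le]
  intro a _ b _
  have ha : a ∈ N ⊔ center H := hN ▸ mem_top a
  have hb : b ∈ N ⊔ center H := hN ▸ mem_top b
  obtain ⟨a1, ha1, z1, hz1, rfl⟩ := Subgroup.mem_sup_of_normal_right.1 ha
  obtain ⟨b1, hb1, z2, hz2, rfl⟩ := Subgroup.mem_sup_of_normal_right.1 hb
  have h1 : ⁅a1 * z1, b1 * z2⁆ = ⁅a1, b1⁆ := by
    rw [Subgroup.mem_center_iff] at hz1 hz2
    have e1 : z1 * (b1 * z2) * z1⁻¹ = b1 * z2 := by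
      rw [← hz1 (b1 * z2)]; group
    have e2 : z2 * a1⁻¹ * z2⁻¹ = a1⁻¹ := by
      rw [← hz2 a1⁻¹]; group
    calc ⁅a1 * z1, b1 * z2⁆ = a1 * (z1 * (b1 * z2) * z1⁻¹) * a1⁻¹ * (b1 * z2)⁻¹ := by
          simp only [commutatorElement_def]; group
      _ = a1 * (b1 * z2) * a1⁻¹ * (b1 * z2)⁻¹ := by rw [e1]
      _ = a1 * b1 * (z2 * a1⁻¹ * z2⁻¹) * b1⁻¹ := by group
      _ = ⁅a1, b1⁆ := by rw [e2]; simp only [commutatorElement_def]
  rw [h1]
  exact Subgroup.commutator_mem_commutator ha1 hb1

theorem eq_top_of_sup_center_eq_top (h : IsQuasisimple H) (N : Subgroup H)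
    (h2 : N ⊔ center H = ⊤) : N = ⊤ := by
  have h3 := commutator_le_of_sup_center_eq_top N h2
  rw [quasisimple_commutator_eq_top h] at h3
  exact top_le_iff.1 (h3.trans (Subgroup.commutator_le_self N))

theorem eq_top_or_le_center_of_map_mk (h : IsQuasisimple H) (N : Subgroup H)
    (hn : N.map (QuotientGroup.mk' (center H)) = ⊥ ∨ N.map (QuotientGroup.mk' (center H)) = ⊤) :
    N = ⊤ ∨ N ≤ center H := by
  rcases hn with h0 | h1
  · right
    intro x hx
    have : QuotientGroup.mk' (center H) x ∈ N.map (QuotientGroup.mk' (center H)) :=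
      Subgroup.mem_map_of_mem _ hx
    rw [h0, Subgroup.mem_bot, QuotientGroup.mk'_apply, QuotientGroup.eq_one_iff] at this
    exact this
  · left
    apply eq_top_of_sup_center_eq_top h
    have := congrArg (Subgroup.comap (QuotientGroup.mk' (center H))) h1
    rw [Subgroup.comap_map_eq, QuotientGroup.ker_mk', Subgroup.comap_top] at this
    exact this

/-- A normal subgroup of a quasisimple group is everything or central. -/
theorem quasisimple_normal_eq_top_or_le_center (h : IsQuasisimple H) (N : Subgroup H)
    [N.Normal] : N = ⊤ ∨ N ≤ center H := by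
  have := h.2
  have hn : (N.map (QuotientGroup.mk' (center H))).Normal :=
    Subgroup.Normal.map inferInstance _ (QuotientGroup.mk'_surjective _)
  exact eq_top_or_le_center_of_map_mk h N hn.eq_bot_or_eq_top

/-- A subnormal subgroup of a quasisimple group is everything or central. -/
theorem quasisimple_subnormal_eq_top_or_le_center (h : IsQuasisimple H) (N : Subgroup H)
    (hN : N.IsSubnormal) : N = ⊤ ∨ N ≤ center H := by
  have := h.2
  have hn : (N.map (QuotientGroup.mk' (center H))).IsSubnormal := hN.quotient
  exact eq_top_or_le_center_of_map_mk h N (hn.eq_bot_or_top_of_isSimpleGroup h.2)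

end Basic

end Cfsg.Agent.Helper21
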