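import Mathlib
import Cfsg.Agent.Lib.Helper30.CentPPrimeCore
import Cfsg.Agent.Lib.Helper21.BenderMax

set_option autoImplicit false

/-!
# `O_{p'}(C_G(x))` centralizes invariant `p`-subgroups; centres of components (helper21)
-/

open Cfsg

namespace Cfsg.Agent.Helper21

open Subgroup
open scoped commutatorElement

variable {G : Type*} [Group G]

/-- In a finite group, `g H g⁻¹ ⊆ H` already gives `g ∈ N(H)`. -/
theorem mem_normalizer_of_conj_mem [Finite G] (H : Subgroup G) (g : G)
    (h : ∀ a ∈ H, g * a * g⁻¹ ∈ H) : g ∈ normalizer (H : Set G) := by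
  have hk : ∀ k : ℕ, ∀ a ∈ H, g ^ k * a * (g ^ k)⁻¹ ∈ H := by
    intro k
    induction k with
    | zero => intro a ha; simpa using ha
    | succ n ih =>
      intro a ha
      have := h _ (ih a ha)
      have e : g * (g ^ n * a * (g ^ n)⁻¹) * g⁻¹ = g ^ (n + 1) * a * (g ^ (n + 1))⁻¹ := by
        rw [pow_succ']; group
      rwa [e] at this
  have hinv : ∀ a ∈ H, g⁻¹ * a * g ∈ H := by
    intro a ha
    have hpos : 0 < orderOf g := orderOf_pos g
    have h1 : g ^ (orderOf g - 1) = g⁻¹ := by
      apply eq_inv_of_mul_eq_one_left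
      rw [← pow_succ, Nat.sub_add_cancel hpos, pow_orderOf_eq_one]
    have := hk (orderOf g - 1) a ha
    rwa [h1, inv_inv] at this
  rw [Subgroup.mem_normalizer_iff]
  intro a
  constructor
  · exact h a
  · intro ha
    have := hinv _ ha
    have e : g⁻¹ * (g * a * g⁻¹) * g = a := by group
    rwa [e] at this

/-- `W = O_{p'}(C_G(x))` centralizes every `p`-subgroup normalized by `x` and by `W`. -/
theorem centPPrimeCore_le_centralizer_of_isPGroup [Finite G] (p : ℕ) [Fact p.Prime] (x : G)
    (hx : IsPGroup p (zpowers x)) (P : Subgroup G) (hP : IsPGroup p P)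
    (hxP : x ∈ normalizer (P : Set G))
    (hWP : centralizerPPrimeCore p x ≤ normalizer (P : Set G)) :
    centralizerPPrimeCore p x ≤ centralizer (P : Set G) := by
  have hWco := Helper30.centralizerPPrimeCore_coprime (G := G) p x
  have hWC := Helper30.centralizerPPrimeCore_le_centralizer (G := G) p x
  have hWx : centralizerPPrimeCore p x ≤ centralizer (zpowers x : Set G) := by
    intro w hw
    rw [Subgroup.mem_centralizer_iff]
    intro t ht
    obtain ⟨k, rfl⟩ := Subgroup.mem_zpowers_iff.mp ht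
    have h2 : x * w = w * x := (Subgroup.mem_centralizer_iff.mp (hWC hw)) x (Set.mem_singleton x)
    exact Commute.zpow_left h2 k
  have hAB : ⁅zpowers x, centralizerPPrimeCore p x⁆ = ⊥ := by
    rw [Subgroup.commutator_eq_bot_iff_le_centralizer, Subgroup.le_centralizer_iff]
    exact hWx
  have hdis : centralizerPPrimeCore p x ⊓ P = ⊥ := by
    apply Helper30.eq_bot_of_isPGroup_of_coprime (p := p)
    · exact hP.to_le inf_le_right
    · exact Nat.Coprime.coprime_dvd_left (Subgroup.card_dvd_of_le inf_le_left) hWco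
  have hC : P ⊓ centralizer (zpowers x : Set G) ≤
      centralizer (centralizerPPrimeCore p x : Set G) := by
    intro q hq
    have hqP := (Subgroup.mem_inf.1 hq).1
    have hqx : q ∈ centralizer ({x} : Set G) :=
      Subgroup.centralizer_le (Set.singleton_subset_iff.mpr (Subgroup.mem_zpowers x))
        (Subgroup.mem_inf.1 hq).2
    rw [Subgroup.mem_centralizer_iff]
    intro w hw
    have h1 : q * w * q⁻¹ ∈ centralizerPPrimeCore p x :=
      Helper30.conj_mem_centralizerPPrimeCore p x hw hqx
    have h2 : q * w * q⁻¹ * w⁻¹ ∈ centralizerPPrimeCore p x :=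
      Subgroup.mul_mem _ h1 (Subgroup.inv_mem _ hw)
    have h3 : q * w * q⁻¹ * w⁻¹ ∈ P := by
      have h4 : w * q⁻¹ * w⁻¹ ∈ P :=
        (Subgroup.mem_normalizer_iff.1 (hWP hw) q⁻¹).1 (P.inv_mem hqP)
      have h5 := P.mul_mem hqP h4
      have e : q * (w * q⁻¹ * w⁻¹) = q * w * q⁻¹ * w⁻¹ := by group
      rwa [e] at h5
    have h5 : q * w * q⁻¹ * w⁻¹ = 1 := by
      rw [← Subgroup.mem_bot, ← hdis]
      exact Subgroup.mem_inf.2 ⟨h2, h3⟩
    have h6 : q * w = w * q := by
      have : q * w * q⁻¹ * w⁻¹ * (w * q) = w * q := by rw [h5, one_mul]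
      rw [← this]; group
    exact h6.symm
  have hmain := Helper30.thompson_AxB (zpowers x) (centralizerPPrimeCore p x) hx hWco hAB P hP
    (by rw [Subgroup.zpowers_le]; exact hxP) hWP hC
  rw [Subgroup.commutator_eq_bot_iff_le_centralizer, Subgroup.le_centralizer_iff] at hmain
  exact hmain

/-- The centre of a component is a `p`-group when `O_{p'}(G) = 1`. -/
theorem isPGroup_inf_centralizer_component [Finite G] (p : ℕ) [hp : Fact p.Prime]
    (hO : pPrimeCore p G = ⊥) (L : Subgroup G) (hL : IsComponent L) :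
    IsPGroup p ↥(L ⊓ centralizer (L : Set G)) := by
  have h1 : (pPrimeCore p ↥L).map L.subtype ≤ pPrimeCore p G :=
    Helper30.pPrimeCore_subnormal_map_le p hL.1
  rw [hO, le_bot_iff, Subgroup.map_eq_bot_iff_of_injective _ L.subtype_injective] at h1
  have h2 : IsPGroup p ↥(center ↥L) := Helper30.isPGroup_center_of_pPrimeCore_eq_bot p hp.out h1
  have h3 : IsPGroup p ↥((center ↥L).map L.subtype) := h2.map _
  have h4 : L ⊓ centralizer (L : Set G) ≤ (center ↥L).map L.subtype := by
    intro z hz
    have hzL := (Subgroup.mem_inf.1 hz).1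
    have hzC := (Subgroup.mem_inf.1 hz).2
    refine ⟨⟨z, hzL⟩, ?_, rfl⟩
    show (⟨z, hzL⟩ : ↥L) ∈ center ↥L
    rw [Subgroup.mem_center_iff]
    rintro ⟨y, hy⟩
    exact Subtype.ext (Subgroup.mem_centralizer_iff.1 hzC y hy)
  exact h3.to_le h4

end Cfsg.Agent.Helper21
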