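import Mathlib
import Cfsg.Prelude.Def_Transfer
import Cfsg.Agent.Lib.Helper47.PRes

/-!
# Sign of the action on cosets (generalized Thompson transfer)

`cosetSign T : H →* ℤˣ` is the sign of the permutation action of `H` on `H ⧸ T`.
If `c` has order `2 ^ (j+1)`, no nonidentity power of `c` is conjugate into `T`, and
`|H : T| = 2 ^ (j+1) * odd`, then `cosetSign T c = -1`.
-/

set_option autoImplicit false

namespace Cfsg.Agent.Helper21

open Cfsg

open scoped Classical in
/-- The sign of the permutation action of `H` on the cosets of `T`. -/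
noncomputable def cosetSign {H : Type*} [Group H] [Finite H] (T : Subgroup H) : H →* ℤˣ :=
  haveI : Fintype (H ⧸ T) := Fintype.ofFinite _
  Equiv.Perm.sign.comp (MulAction.toPermHom H (H ⧸ T))

theorem units_int_pow_odd {u : ℤˣ} {m : ℕ} (hm : Odd m) (h : u ^ m = 1) : u = 1 := by
  rcases Int.units_eq_one_or u with h1 | h1
  · exact h1
  · rw [h1, hm.neg_one_pow] at h
    exact absurd h (by decide)

/-- Every hom to `ℤˣ` kills `O^2`. -/
theorem pResidual_two_le_ker {H : Type*} [Group H] [Finite H] (s : H →* ℤˣ) :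
    pResidual 2 H ≤ s.ker := by
  unfold pResidual
  rw [Subgroup.closure_le]
  intro g hg
  have hg' : Nat.Coprime (orderOf g) 2 := hg
  have hodd : Odd (orderOf g) := Nat.Coprime.odd_of_right hg'
  show g ∈ s.ker
  rw [MonoidHom.mem_ker]
  apply units_int_pow_odd hodd
  rw [← map_pow, pow_orderOf_eq_one, map_one]

open scoped Classical in
theorem cosetSign_eq_neg_one {H : Type*} [Group H] [Finite H] (T : Subgroup H) (c : H) (j : ℕ)
    (hc : orderOf c = 2 ^ (j + 1))
    (hfree : ∀ i : ℕ, ∀ g : H, g⁻¹ * c ^ i * g ∈ T → c ^ i = 1)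
    (m : ℕ) (hm : Odd m) (hidx : T.index = 2 ^ (j + 1) * m) : cosetSign T c = -1 := by
  have : Fintype (H ⧸ T) := Fintype.ofFinite _
  let φ : H →* Equiv.Perm (H ⧸ T) := MulAction.toPermHom H (H ⧸ T)
  have hs : cosetSign T c = Equiv.Perm.sign (φ c) := by
    unfold cosetSign
    simp only [MonoidHom.coe_comp, Function.comp_apply]
    congr!
  -- fixed points of powers
  have hfix : ∀ i : ℕ, ∀ x : H ⧸ T, (φ c ^ i) x = x → c ^ i = 1 := by
    intro i x hx
    induction x using QuotientGroup.induction_on with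
    | H g =>
      rw [← map_pow] at hx
      have h' : ((c ^ i * g : H) : H ⧸ T) = (g : H ⧸ T) := hx
      rw [eq_comm, QuotientGroup.eq] at h'
      apply hfree i g
      simpa [mul_assoc] using h'
  have hc1 : c ≠ 1 := by
    intro h
    rw [h, orderOf_one] at hc
    have : 2 ≤ 2 ^ (j + 1) := by
      calc 2 = 2 ^ 1 := by norm_num
        _ ≤ 2 ^ (j + 1) := Nat.pow_le_pow_right (by norm_num) (by omega)
    omega
  have hsupp : (φ c).support = Finset.univ := by
    ext x
    simp only [Equiv.Perm.mem_support, Finset.mem_univ, iff_true]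
    intro hx
    apply hc1
    have := hfix 1 x (by simpa using hx)
    simpa using this
  have hord : orderOf (φ c) ∣ 2 ^ (j + 1) := by
    rw [← hc]
    exact orderOf_map_dvd φ c
  have hall : ∀ n ∈ (φ c).cycleType, n = 2 ^ (j + 1) := by
    intro n hn
    have hdvd : n ∣ 2 ^ (j + 1) := (Equiv.Perm.dvd_of_mem_cycleType hn).trans hord
    obtain ⟨d, τ, hστ, hdisj, hcyc, hcard⟩ := Equiv.Perm.mem_cycleType_iff.1 hn
    obtain ⟨x, hx⟩ : ∃ x, x ∈ d.support := by
      have : d.support.Nonempty := by
        rw [Finset.nonempty_iff_ne_empty]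
        intro h
        rw [Equiv.Perm.support_eq_empty_iff] at h
        exact hcyc.ne_one h
      exact this
    have hτx : τ x = x := by
      have := hdisj x
      rcases this with h | h
      · exact absurd h (Equiv.Perm.mem_support.1 hx)
      · exact h
    have hdn : d ^ n = 1 := by
      rw [← hcard, ← hcyc.orderOf]
      exact pow_orderOf_eq_one d
    have hpow : (φ c ^ n) x = x := by
      rw [hστ, hdisj.commute.mul_pow, hdn, one_mul]
      exact Equiv.Perm.pow_apply_eq_self_of_apply_eq_self hτx n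
    have h1 : c ^ n = 1 := hfix n x hpow
    have h2 : 2 ^ (j + 1) ∣ n := by
      rw [← hc]
      exact orderOf_dvd_of_pow_eq_one h1
    exact Nat.dvd_antisymm hdvd h2
  have hrep : (φ c).cycleType = Multiset.replicate (φ c).cycleType.card (2 ^ (j + 1)) :=
    Multiset.eq_replicate.2 ⟨rfl, hall⟩
  have hsum : (φ c).cycleType.sum = 2 ^ (j + 1) * m := by
    rw [Equiv.Perm.sum_cycleType, hsupp, Finset.card_univ, ← hidx, Subgroup.index,
      Nat.card_eq_fintype_card]
  have hcardm : (φ c).cycleType.card = m := by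
    have h := hsum
    rw [hrep, Multiset.sum_replicate, smul_eq_mul] at h
    have hpos : 0 < 2 ^ (j + 1) := by positivity
    rw [mul_comm] at h
    exact Nat.eq_of_mul_eq_mul_left hpos h
  rw [hs, Equiv.Perm.sign_of_cycleType, hsum, hcardm]
  have hodd : Odd (2 ^ (j + 1) * m + m) := by
    apply Even.add_odd _ hm
    exact Even.mul_right (by simp [pow_succ]) m
  exact hodd.neg_one_pow


/-- Iterated sign transfer: if `T ≤ O^2(G) ≤ H`, `|H : T| = 2^k * odd`, `c ∈ H` has order `2^k` and no
nonidentity power of `c` is conjugate into `T`, then `⟨c⟩ ∩ O^2(G) = 1`. -/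
theorem pow_eq_one_of_mem_pResidual {G : Type*} [Group G] [Finite G] (T : Subgroup G)
    (hTK : T ≤ pResidual 2 G) :
    ∀ (k : ℕ) (H : Subgroup G) (c : G), pResidual 2 G ≤ H → c ∈ H → orderOf c = 2 ^ k →
      (∀ i : ℕ, ∀ g : G, g⁻¹ * c ^ i * g ∈ T → c ^ i = 1) →
      (∃ m, Odd m ∧ T.relIndex H = 2 ^ k * m) →
      ∀ i : ℕ, c ^ i ∈ pResidual 2 G → c ^ i = 1 := by
  intro k
  induction k with
  | zero =>
    intro H c _ _ hord _ _ i _
    rw [pow_zero, orderOf_eq_one_iff] at hord
    rw [hord, one_pow]
  | succ k ih =>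
    intro H c hKH hcH hord hfree hidx i hi
    obtain ⟨m, hm, hidx⟩ := hidx
    -- the sign hom on H
    let T' : Subgroup ↥H := T.subgroupOf H
    let c' : ↥H := ⟨c, hcH⟩
    let s : ↥H →* ℤˣ := cosetSign T'
    have hord' : orderOf c' = 2 ^ (k + 1) := by
      rw [← hord]
      exact Subgroup.orderOf_mk c hcH
    have hsc : s c' = -1 := by
      apply cosetSign_eq_neg_one T' c' k hord' _ m hm hidx
      intro j g hg
      have hg' : ((g⁻¹ * c' ^ j * g : ↥H) : G) ∈ T := Subgroup.mem_subgroupOf.1 hg
      have h1 : c ^ j = 1 := by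
        apply hfree j (g : G)
        simpa using hg'
      apply Subtype.ext
      simpa using h1
    -- the kernel, as a subgroup of G
    let H' : Subgroup G := s.ker.map H.subtype
    have hH'H : H' ≤ H := Subgroup.map_subtype_le _
    have hmemH' : ∀ x : G, ∀ hx : x ∈ H, (x ∈ H' ↔ s ⟨x, hx⟩ = 1) := by
      intro x hx
      constructor
      · rintro ⟨y, hy, hyx⟩
        have : y = ⟨x, hx⟩ := Subtype.ext hyx
        rw [← this]
        exact MonoidHom.mem_ker.1 hy
      · intro h
        exact ⟨⟨x, hx⟩, MonoidHom.mem_ker.2 h, rfl⟩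
    have hKH' : pResidual 2 G ≤ H' := by
      intro x hx
      have hxH : x ∈ H := hKH hx
      rw [hmemH' x hxH]
      -- x lies in O^2(G); show the image under s is trivial: use closure induction
      have hle : pResidual 2 G ≤ (s.ker.map H.subtype) := by
        unfold pResidual
        rw [Subgroup.closure_le]
        intro g hg
        have hg' : Nat.Coprime (orderOf g) 2 := hg
        have hgH : g ∈ H := hKH (Subgroup.subset_closure hg)
        refine ⟨⟨g, hgH⟩, ?_, rfl⟩
        show (⟨g, hgH⟩ : ↥H) ∈ s.ker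
        rw [MonoidHom.mem_ker]
        have hodd : Odd (orderOf g) := Nat.Coprime.odd_of_right hg'
        apply units_int_pow_odd hodd
        rw [← map_pow]
        have : (⟨g, hgH⟩ : ↥H) ^ orderOf g = 1 := by
          apply Subtype.ext
          simp [pow_orderOf_eq_one]
        rw [this, map_one]
      exact (hmemH' x hxH).1 (hle hx)
    have hc2H' : c ^ 2 ∈ H' := by
      rw [hmemH' (c ^ 2) (H.pow_mem hcH 2)]
      have : (⟨c ^ 2, H.pow_mem hcH 2⟩ : ↥H) = c' ^ 2 := rfl
      rw [this, map_pow, hsc]
      norm_num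
    have hord2 : orderOf (c ^ 2) = 2 ^ k := by
      rw [orderOf_pow' c (by norm_num : (2 : ℕ) ≠ 0), hord]
      have : Nat.gcd (2 ^ (k + 1)) 2 = 2 := by
        rw [pow_succ]
        exact Nat.gcd_mul_left_left 2 (2 ^ k) |> fun h => by rw [Nat.gcd_comm] at h ⊢; simpa [Nat.gcd_comm] using Nat.gcd_mul_left_left 2 (2 ^ k)
      rw [this, pow_succ]
      exact Nat.mul_div_cancel _ (by norm_num)
    have hfree2 : ∀ j : ℕ, ∀ g : G, g⁻¹ * (c ^ 2) ^ j * g ∈ T → (c ^ 2) ^ j = 1 := by
      intro j g hg
      rw [← pow_mul] at hg ⊢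
      exact hfree (2 * j) g hg
    have hTH' : T ≤ H' := hTK.trans hKH'
    have hidx2 : ∃ m', Odd m' ∧ T.relIndex H' = 2 ^ k * m' := by
      refine ⟨m, hm, ?_⟩
      have h1 : T.relIndex H' * H'.relIndex H = T.relIndex H :=
        Subgroup.relIndex_mul_relIndex T H' H hTH' hH'H
      have h2 : H'.relIndex H = 2 := by
        have : H'.relIndex H = s.ker.index := by
          show (H'.subgroupOf H).index = s.ker.index
          congr 1
          ext x
          rw [Subgroup.mem_subgroupOf, hmemH' (x : G) x.2, MonoidHom.mem_ker]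
        rw [this, Subgroup.index_ker]
        have hrange : s.range = ⊤ := by
          rw [eq_top_iff]
          intro x _
          rcases Int.units_eq_one_or x with h | h
          · rw [h]; exact Subgroup.one_mem _
          · rw [h, ← hsc]; exact ⟨c', rfl⟩
        rw [hrange, Nat.card_congr Subgroup.topEquiv.toEquiv, Nat.card_eq_fintype_card]
        rfl
      rw [h2, hidx, pow_succ] at h1
      have : T.relIndex H' * 2 = (2 ^ k * m) * 2 := by rw [h1]; ring
      exact Nat.eq_of_mul_eq_mul_right (by norm_num) this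
    have hIH := ih H' (c ^ 2) hKH' hc2H' hord2 hfree2 hidx2
    -- now c ^ i ∈ K ≤ H' forces i even
    have hciH' : c ^ i ∈ H' := hKH' hi
    have hsi : s (c' ^ i) = 1 := by
      have := (hmemH' (c ^ i) (H.pow_mem hcH i)).1 hciH'
      exact this
    rw [map_pow, hsc] at hsi
    have hieven : Even i := by
      by_contra hodd
      rw [Nat.not_even_iff_odd] at hodd
      rw [hodd.neg_one_pow] at hsi
      exact absurd hsi (by decide)
    obtain ⟨i', hi'⟩ := hieven
    have hci : c ^ i = (c ^ 2) ^ i' := by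
      rw [← pow_mul, hi']
      congr 1
      ring
    rw [hci] at hi ⊢
    exact hIH i' hi

end Cfsg.Agent.Helper21
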