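import Mathlib

/-!
# Groups in which the centralizer of every involution is a four-group

If every involution of the finite group `N` has an elementary abelian centralizer of order `4`, all
involutions are conjugate and `3 ∣ |N|`, then `|N| = 12` or `|N| = 60`.
-/

set_option autoImplicit false
set_option linter.unusedSectionVars false

namespace Cfsg.Agent.Helper21.FourCent

open scoped Classical

variable {N : Type*} [Group N]

/-- The hypotheses: involution centralizers are elementary abelian of order four. -/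
structure Hyp (N : Type*) [Group N] : Prop where
  cent4 : ∀ s : N, orderOf s = 2 → Nat.card (Subgroup.centralizer ({s} : Set N)) = 4
  exp2 : ∀ s x : N, orderOf s = 2 → x * s = s * x → x * x = 1

theorem inv_sq {s : N} (hs : orderOf s = 2) : s * s = 1 := by
  rw [← pow_two, ← hs]; exact pow_orderOf_eq_one s

theorem inv_ne_one {s : N} (hs : orderOf s = 2) : s ≠ 1 := by
  intro h; rw [h, orderOf_one] at hs; omega

theorem inv_inv_eq {s : N} (hs : orderOf s = 2) : s⁻¹ = s :=
  inv_eq_of_mul_eq_one_left (inv_sq hs)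

theorem orderOf_eq_two_of {s : N} (h1 : s ≠ 1) (h2 : s * s = 1) : orderOf s = 2 := by
  refine orderOf_eq_prime ?_ h1
  rw [pow_two]; exact h2

/-- An element of odd order whose square is trivial is trivial. -/
theorem eq_one_of_odd_of_sq {k : N} (ho : Odd (orderOf k)) (h : k * k = 1) : k = 1 := by
  have h2 : orderOf k ∣ 2 := orderOf_dvd_of_pow_eq_one (by rw [pow_two]; exact h)
  have : orderOf k = 1 := by
    rcases (Nat.dvd_prime Nat.prime_two).mp h2 with h1 | h1
    · exact h1
    · rw [h1] at ho; exact absurd ho (by decide)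
  exact orderOf_eq_one_iff.mp this

/-- Two non-commuting involutions have a product of odd order. -/
theorem odd_orderOf_mul [Finite N] (h : Hyp N) {s s' : N} (hs : orderOf s = 2) (hs' : orderOf s' = 2)
    (hne : s * s' ≠ s' * s) : Odd (orderOf (s * s')) := by
  by_contra hodd
  rw [Nat.not_odd_iff_even] at hodd
  obtain ⟨j, hj⟩ := hodd
  set k := s * s' with hk
  have hss := inv_sq hs
  have hss' := inv_sq hs'
  have hkinv : k⁻¹ = s' * s := by
    rw [hk, mul_inv_rev, inv_inv_eq hs, inv_inv_eq hs']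
  have hpos : 0 < orderOf k := orderOf_pos k
  have hj0 : 0 < j := by omega
  -- w = k ^ j is an involution
  have hw2 : k ^ j * k ^ j = 1 := by
    rw [← pow_add, ← hj]; exact pow_orderOf_eq_one k
  have hw1 : k ^ j ≠ 1 := by
    intro h1
    have := orderOf_dvd_of_pow_eq_one h1
    have := Nat.le_of_dvd hj0 this
    omega
  have hw := orderOf_eq_two_of hw1 hw2
  have hwinv : (k ^ j)⁻¹ = k ^ j := inv_eq_of_mul_eq_one_left hw2
  -- s inverts k
  have hsk : s * k * s⁻¹ = k⁻¹ := by
    rw [hkinv, hk, inv_inv_eq hs]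
    calc s * (s * s') * s = (s * s) * s' * s := by group
      _ = s' * s := by rw [hss, one_mul]
  have hs'k : s' * k * s'⁻¹ = k⁻¹ := by
    rw [hkinv, hk, inv_inv_eq hs']
    calc s' * (s * s') * s' = s' * s * (s' * s') := by group
      _ = s' * s := by rw [hss', mul_one]
  have hsw : s * k ^ j * s⁻¹ = k ^ j := by
    rw [← conj_pow, hsk, inv_pow, hwinv]
  have hs'w : s' * k ^ j * s'⁻¹ = k ^ j := by
    rw [← conj_pow, hs'k, inv_pow, hwinv]
  have c1 : s * k ^ j = k ^ j * s := by
    calc s * k ^ j = s * k ^ j * s⁻¹ * s := by group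
      _ = k ^ j * s := by rw [hsw]
  have c2 : s' * k ^ j = k ^ j * s' := by
    calc s' * k ^ j = s' * k ^ j * s'⁻¹ * s' := by group
      _ = k ^ j * s' := by rw [hs'w]
  have c3 : k * k ^ j = k ^ j * k := by
    rw [hk, mul_assoc, c2, ← mul_assoc, c1, mul_assoc]
  have hkk : k * k = 1 := h.exp2 (k ^ j) k hw c3
  apply hne
  -- s s' s s' = 1 → s s' = s' s
  have : s * s' * (s * s') = 1 := hkk
  calc s * s' = s * s' * (s * s') * (s' * s) := by
        rw [show s * s' * (s * s') * (s' * s) = s * s' * (s * (s' * s') * s) by group, hss', mul_one,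
          show s * s' * (s * s) = s * s' * (s * s) from rfl, hss, mul_one]
    _ = s' * s := by rw [this, one_mul]


/-- `k` is a nonidentity element of odd order inverted by `s`. -/
def Inverts (s k : N) : Prop := k ≠ 1 ∧ Odd (orderOf k) ∧ s * k * s⁻¹ = k⁻¹

theorem mem_cent {k x : N} : x ∈ Subgroup.centralizer ({k} : Set N) ↔ x * k = k * x := by
  rw [Subgroup.mem_centralizer_singleton_iff]

/-- An element all of whose powers of order dividing two are trivial has odd order. -/
theorem odd_orderOf_of_pow [Finite N] (x : N) (hx : ∀ j : ℕ, x ^ j * x ^ j = 1 → x ^ j = 1) :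
    Odd (orderOf x) := by
  by_contra hodd
  rw [Nat.not_odd_iff_even] at hodd
  obtain ⟨j, hj⟩ := hodd
  have hpos : 0 < orderOf x := orderOf_pos x
  have h1 : x ^ j = 1 := hx j (by rw [← pow_add, ← hj]; exact pow_orderOf_eq_one x)
  have := Nat.le_of_dvd (by omega) (orderOf_dvd_of_pow_eq_one h1)
  omega

section Local

variable [Finite N] (h : Hyp N) {t k : N} (ht : orderOf t = 2) (hk : Inverts t k)

include h hk in
/-- The centralizer of a real element of odd order contains no involution. -/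
theorem no_invol {x : N} (hx : x * k = k * x) (hxx : x * x = 1) : x = 1 := by
  by_contra hx1
  have hox := orderOf_eq_two_of hx1 hxx
  have := h.exp2 x k hox hx.symm
  exact hk.1 (eq_one_of_odd_of_sq hk.2.1 this)

include h hk in
theorem odd_of_commute {x : N} (hx : x * k = k * x) : Odd (orderOf x) := by
  apply odd_orderOf_of_pow
  intro j hj
  refine no_invol h hk ?_ hj
  exact ((Commute.pow_left (show Commute x k from hx) j)).eq

include ht hk in
theorem conj_commute {x : N} (hx : x * k = k * x) : (t * x * t⁻¹) * k = k * (t * x * t⁻¹) := by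
  have h1 : t * k * t⁻¹ = k⁻¹ := hk.2.2
  have h2 : t⁻¹ * k * t = k⁻¹ := by
    have : t⁻¹ = t := inv_inv_eq ht
    calc t⁻¹ * k * t = t * k * t⁻¹ := by rw [this]
      _ = k⁻¹ := h1
  have hx' : x * k⁻¹ = k⁻¹ * x := by
    calc x * k⁻¹ = k⁻¹ * (k * x) * k⁻¹ := by group
      _ = k⁻¹ * (x * k) * k⁻¹ := by rw [hx]
      _ = k⁻¹ * x := by group
  calc t * x * t⁻¹ * k = t * x * (t⁻¹ * k * t) * t⁻¹ := by group
    _ = t * (x * k⁻¹) * t⁻¹ := by rw [h2]; group
    _ = t * (k⁻¹ * x) * t⁻¹ := by rw [hx']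
    _ = (t * k⁻¹ * t⁻¹) * (t * x * t⁻¹) := by group
    _ = k * (t * x * t⁻¹) := by
        have : t * k⁻¹ * t⁻¹ = k := by
          calc t * k⁻¹ * t⁻¹ = (t * k * t⁻¹)⁻¹ := by group
            _ = k := by rw [h1, inv_inv]
        rw [this]

include h in
/-- An involution `s` normalizing a subgroup `A` without involutions inverts `A`. -/
theorem inverts_of_normalizes {s : N} (hs : orderOf s = 2)
    (A : Subgroup N) (hodd : ∀ x ∈ A, x * x = 1 → x = 1)
    (hnorm : ∀ x ∈ A, s * x * s⁻¹ ∈ A) : ∀ x ∈ A, s * x * s⁻¹ = x⁻¹ := by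
  have hsi : s⁻¹ = s := inv_inv_eq hs
  have hss := inv_sq hs
  let φ : A → A := fun x => ⟨(x : N)⁻¹ * (s * x * s⁻¹), A.mul_mem (A.inv_mem x.2) (hnorm x x.2)⟩
  have hinj : Function.Injective φ := by
    intro x y hxy
    have e : (x : N)⁻¹ * (s * x * s⁻¹) = (y : N)⁻¹ * (s * y * s⁻¹) := congrArg Subtype.val hxy
    -- y x⁻¹ commutes with s
    have hc : ((y : N) * (x : N)⁻¹) * s = s * ((y : N) * (x : N)⁻¹) := by
      have e' : (y : N) * (x : N)⁻¹ = s * y * s⁻¹ * (s * x * s⁻¹)⁻¹ := by
        calc (y : N) * (x : N)⁻¹ = y * ((x : N)⁻¹ * (s * x * s⁻¹)) * (s * x * s⁻¹)⁻¹ := by group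
          _ = y * ((y : N)⁻¹ * (s * y * s⁻¹)) * (s * x * s⁻¹)⁻¹ := by rw [e]
          _ = s * y * s⁻¹ * (s * x * s⁻¹)⁻¹ := by group
      have e'' : (y : N) * (x : N)⁻¹ = s * ((y : N) * (x : N)⁻¹) * s⁻¹ := by
        calc (y : N) * (x : N)⁻¹ = s * y * s⁻¹ * (s * x * s⁻¹)⁻¹ := e'
          _ = s * ((y : N) * (x : N)⁻¹) * s⁻¹ := by group
      calc (y : N) * (x : N)⁻¹ * s = s * ((y : N) * (x : N)⁻¹) * s⁻¹ * s := by rw [← e'']
        _ = s * ((y : N) * (x : N)⁻¹) := by group
    have hmem : (y : N) * (x : N)⁻¹ ∈ A := A.mul_mem y.2 (A.inv_mem x.2)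
    have hsq := h.exp2 s _ hs hc
    have h1 := hodd _ hmem hsq
    have : (y : N) = x := by
      calc (y : N) = (y : N) * (x : N)⁻¹ * x := by group
        _ = x := by rw [h1, one_mul]
    exact Subtype.ext this.symm
  have hsurj : Function.Surjective φ := Finite.surjective_of_injective hinj
  intro a ha
  obtain ⟨x, hx⟩ := hsurj ⟨a, ha⟩
  have hax : a = (x : N)⁻¹ * (s * x * s⁻¹) := (congrArg Subtype.val hx).symm
  rw [hax]
  calc s * ((x : N)⁻¹ * (s * x * s⁻¹)) * s⁻¹ = (s * x * s⁻¹)⁻¹ * ((s * s) * x * (s * s)⁻¹) := by group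
    _ = (s * x * s⁻¹)⁻¹ * x := by rw [hss]; group
    _ = ((x : N)⁻¹ * (s * x * s⁻¹))⁻¹ := by group

include h ht hk in
/-- `t` inverts the centralizer of `k`. -/
theorem cent_inverts {x : N} (hx : x * k = k * x) : t * x * t⁻¹ = x⁻¹ := by
  refine inverts_of_normalizes h ht (Subgroup.centralizer ({k} : Set N)) ?_ ?_ x (mem_cent.mpr hx)
  · intro y hy hyy
    exact no_invol h hk (mem_cent.mp hy) hyy
  · intro y hy
    exact mem_cent.mpr (conj_commute ht hk (mem_cent.mp hy))

include h ht hk in
/-- The centralizer of `k` is abelian. -/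
theorem cent_comm {x y : N} (hx : x * k = k * x) (hy : y * k = k * y) : x * y = y * x := by
  have hxy : (x * y) * k = k * (x * y) := by
    rw [mul_assoc, hy, ← mul_assoc, hx, mul_assoc]
  have h1 := cent_inverts h ht hk hx
  have h2 := cent_inverts h ht hk hy
  have h3 := cent_inverts h ht hk hxy
  have : t * (x * y) * t⁻¹ = (t * x * t⁻¹) * (t * y * t⁻¹) := by group
  rw [h3, h1, h2] at this
  -- (x y)⁻¹ = x⁻¹ y⁻¹
  calc x * y = ((x * y)⁻¹)⁻¹ := by rw [inv_inv]
    _ = (x⁻¹ * y⁻¹)⁻¹ := by rw [this]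
    _ = y * x := by group

include h ht hk in
theorem inverts_of_commute {k' : N} (hk' : k' * k = k * k') (hk'1 : k' ≠ 1) : Inverts t k' :=
  ⟨hk'1, odd_of_commute h hk hk', cent_inverts h ht hk hk'⟩

include h ht hk in
/-- The centralizers of commuting real elements coincide. -/
theorem commute_trans {k' x : N} (hk' : k' * k = k * k') (hk'1 : k' ≠ 1) (hx : x * k' = k' * x) :
    x * k = k * x := by
  have hk'' := inverts_of_commute h ht hk hk' hk'1
  -- k commutes with k', so k lies in the abelian centralizer of k'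
  exact (cent_comm h ht hk'' hx hk'.symm)

end Local


section Pair

variable [Finite N] (h : Hyp N) {t u k : N} (ht : orderOf t = 2) (hu : orderOf u = 2)
  (hut : u * t = t * u) (hne : u ≠ t) (hk : Inverts t k)

include ht hu hut hk in
theorem inverts_conj : Inverts t (u * k * u⁻¹) := by
  refine ⟨?_, ?_, ?_⟩
  · intro h1
    apply hk.1
    calc k = u⁻¹ * (u * k * u⁻¹) * u := by group
      _ = 1 := by rw [h1]; group
  · have : orderOf (u * k * u⁻¹) = orderOf k := by
      have := orderOf_injective (MulAut.conj u).toMonoidHom (MulAut.conj u).injective k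
      simpa using this
    rw [this]; exact hk.2.1
  · have hut' : t * u = u * t := hut.symm
    have hui : u⁻¹ = u := inv_inv_eq hu
    have hti : t⁻¹ = t := inv_inv_eq ht
    have e1 : t * (u * k * u⁻¹) * t⁻¹ = u * (t * k * t⁻¹) * u⁻¹ := by
      rw [hui, hti]
      calc t * (u * k * u) * t = (t * u) * k * (u * t) := by group
        _ = (u * t) * k * (t * u) := by rw [hut']
        _ = u * (t * k * t) * u := by group
    rw [e1, hk.2.2]; group

include h ht hu hut hne hk in
/-- `k` and its conjugate under the second involution of `C(t)` do not commute. -/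
theorem not_commute_conj : ¬ ((u * k * u⁻¹) * k = k * (u * k * u⁻¹)) := by
  intro hc
  have hk' := inverts_conj ht hu hut hk
  have hui : u⁻¹ = u := inv_inv_eq hu
  have hti : t⁻¹ = t := inv_inv_eq ht
  -- u normalizes the centralizer of k
  have hinv : ∀ x ∈ Subgroup.centralizer ({k} : Set N), u * x * u⁻¹ = x⁻¹ := by
    refine inverts_of_normalizes h hu _ ?_ ?_
    · intro y hy hyy
      exact no_invol h hk (mem_cent.mp hy) hyy
    · intro y hy
      have hy' := mem_cent.mp hy
      have h1 : (u * y * u⁻¹) * (u * k * u⁻¹) = (u * k * u⁻¹) * (u * y * u⁻¹) := by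
        calc (u * y * u⁻¹) * (u * k * u⁻¹) = u * (y * k) * u⁻¹ := by group
          _ = u * (k * y) * u⁻¹ := by rw [hy']
          _ = (u * k * u⁻¹) * (u * y * u⁻¹) := by group
      exact mem_cent.mpr (commute_trans h ht hk hc hk'.1 h1)
  have h2 : u * k * u⁻¹ = k⁻¹ := hinv k (mem_cent.mpr rfl)
  -- then t u centralizes k
  have h3 : (t * u) * k = k * (t * u) := by
    have e : (t * u) * k * (t * u)⁻¹ = k := by
      calc (t * u) * k * (t * u)⁻¹ = t * (u * k * u⁻¹) * t⁻¹ := by group
        _ = t * k⁻¹ * t⁻¹ := by rw [h2]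
        _ = (t * k * t⁻¹)⁻¹ := by group
        _ = k := by rw [hk.2.2, inv_inv]
    calc (t * u) * k = (t * u) * k * (t * u)⁻¹ * (t * u) := by group
      _ = k * (t * u) := by rw [e]
  have htu1 : t * u ≠ 1 := by
    intro h1
    apply hne
    calc u = t⁻¹ * (t * u) := by group
      _ = t := by rw [h1, mul_one, hti]
  have htu2 : (t * u) * (t * u) = 1 := by
    calc (t * u) * (t * u) = t * (u * t) * u := by group
      _ = t * (t * u) * u := by rw [hut]
      _ = (t * t) * (u * u) := by group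
      _ = 1 := by rw [inv_sq ht, inv_sq hu, one_mul]
  have := h.exp2 (t * u) k (orderOf_eq_two_of htu1 htu2) h3.symm
  exact hk.1 (eq_one_of_odd_of_sq hk.2.1 this)

end Pair


section Count

variable [Fintype N]

/-- order of the centralizer -/
noncomputable def cc (k : N) : ℕ := Nat.card (Subgroup.centralizer ({k} : Set N))

/-- the real odd elements inverted by `t` -/
noncomputable def Kset (t : N) : Finset N := Finset.univ.filter (fun k => Inverts t k)

/-- the involutions -/
noncomputable def Inv (N : Type*) [Group N] [Fintype N] : Finset N :=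
  Finset.univ.filter (fun s => orderOf s = 2)

/-- the block of `k`: the nonidentity elements of `C(k)` and of `C(k^u)` -/
noncomputable def Blk (t u k : N) : Finset N :=
  (Kset t).filter (fun x => x * k = k * x ∨ x * (u * k * u⁻¹) = (u * k * u⁻¹) * x)

theorem mem_Kset {t k : N} : k ∈ Kset t ↔ Inverts t k := by
  simp [Kset]

theorem mem_Inv {s : N} : s ∈ Inv N ↔ orderOf s = 2 := by
  simp [Inv]

theorem cc_pos (k : N) : 0 < cc k := Nat.card_pos

theorem card_filter_commute (k : N) :
    (Finset.univ.filter (fun x : N => x * k = k * x)).card = cc k := by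
  unfold cc
  rw [Nat.card_eq_fintype_card, Fintype.card_subtype]
  congr 1
  ext x
  simp only [Finset.mem_filter, Finset.mem_univ, true_and]
  exact mem_cent.symm

theorem cc_conj (u k : N) : cc (u * k * u⁻¹) = cc k := by
  unfold cc
  have : Subgroup.centralizer ({u * k * u⁻¹} : Set N) =
      (Subgroup.centralizer ({k} : Set N)).map (MulAut.conj u).toMonoidHom := by
    ext x
    rw [mem_cent, Subgroup.mem_map]
    constructor
    · intro hx
      refine ⟨u⁻¹ * x * u, mem_cent.mpr ?_, by simp [mul_assoc]⟩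
      calc u⁻¹ * x * u * k = u⁻¹ * (x * (u * k * u⁻¹)) * u := by group
        _ = u⁻¹ * ((u * k * u⁻¹) * x) * u := by rw [hx]
        _ = k * (u⁻¹ * x * u) := by group
    · rintro ⟨y, hy, rfl⟩
      have hy' := mem_cent.mp hy
      simp only [MulEquiv.coe_toMonoidHom, MulAut.conj_apply]
      calc u * y * u⁻¹ * (u * k * u⁻¹) = u * (y * k) * u⁻¹ := by group
        _ = u * (k * y) * u⁻¹ := by rw [hy']
        _ = u * k * u⁻¹ * (u * y * u⁻¹) := by group
  rw [this]
  exact Subgroup.card_map_of_injective (MulAut.conj u).injective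

variable (h : Hyp N) {t u : N} (ht : orderOf t = 2) (hu : orderOf u = 2)
  (hut : u * t = t * u) (hne : u ≠ t)

include h ht in
theorem cc_eq_of_commute {k x : N} (hk : Inverts t k) (hx : x * k = k * x) (hx1 : x ≠ 1) :
    cc x = cc k := by
  unfold cc
  have hx' := inverts_of_commute h ht hk hx hx1
  have : Subgroup.centralizer ({x} : Set N) = Subgroup.centralizer ({k} : Set N) := by
    ext y
    rw [mem_cent, mem_cent]
    exact ⟨commute_trans h ht hk hx hx1, commute_trans h ht hx' hx.symm hk.1⟩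
  rw [this]

include h ht in
theorem card_filter_Kset_commute {k : N} (hk : Inverts t k) :
    ((Kset t).filter (fun x => x * k = k * x)).card = cc k - 1 := by
  have : (Kset t).filter (fun x => x * k = k * x) =
      (Finset.univ.filter (fun x : N => x * k = k * x)).erase 1 := by
    ext x
    simp only [Finset.mem_filter, Finset.mem_erase, Finset.mem_univ, true_and, mem_Kset]
    constructor
    · rintro ⟨hx, hc⟩
      exact ⟨hx.1, hc⟩
    · rintro ⟨hx1, hc⟩
      exact ⟨inverts_of_commute h ht hk hc hx1, hc⟩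
  rw [this, Finset.card_erase_of_mem, card_filter_commute]
  simp

include h ht hu hut hne in
theorem card_Blk {k : N} (hk : Inverts t k) : (Blk t u k).card = 2 * (cc k - 1) := by
  have hk' := inverts_conj ht hu hut hk
  have hsplit : Blk t u k = (Kset t).filter (fun x => x * k = k * x) ∪
      (Kset t).filter (fun x => x * (u * k * u⁻¹) = (u * k * u⁻¹) * x) := by
    unfold Blk
    rw [Finset.filter_or]
  have hdisj : Disjoint ((Kset t).filter (fun x => x * k = k * x))
      ((Kset t).filter (fun x => x * (u * k * u⁻¹) = (u * k * u⁻¹) * x)) := by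
    rw [Finset.disjoint_left]
    intro x hx1 hx2
    rw [Finset.mem_filter, mem_Kset] at hx1 hx2
    -- k^u commutes with x, x ~ k
    have := commute_trans h ht hk hx1.2 hx1.1.1 hx2.2.symm
    exact not_commute_conj h ht hu hut hne hk this
  rw [hsplit, Finset.card_union_of_disjoint hdisj, card_filter_Kset_commute h ht hk,
    card_filter_Kset_commute h ht hk', cc_conj]
  ring

include h ht hu hut in
theorem cc_eq_of_mem_Blk {k x : N} (hk : Inverts t k) (hx : x ∈ Blk t u k) : cc x = cc k := by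
  have hk' := inverts_conj ht hu hut hk
  unfold Blk at hx
  rw [Finset.mem_filter, mem_Kset] at hx
  rcases hx.2 with hc | hc
  · exact cc_eq_of_commute h ht hk hc hx.1.1
  · rw [cc_eq_of_commute h ht hk' hc hx.1.1, cc_conj]

include h ht hu hut in
/-- Blocks of elements outside each other are disjoint. -/
theorem Blk_disjoint {k₁ k₂ : N} (hk₁ : Inverts t k₁) (hk₂ : Inverts t k₂)
    (hnot : k₂ ∉ Blk t u k₁) : Disjoint (Blk t u k₁) (Blk t u k₂) := by
  have hk₁' := inverts_conj ht hu hut hk₁
  have hk₂' := inverts_conj ht hu hut hk₂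
  have hui : u⁻¹ = u := inv_inv_eq hu
  have huu := inv_sq hu
  -- conjugating a commutation relation by u
  have hconj : ∀ a b : N, (u * a * u⁻¹) * b = b * (u * a * u⁻¹) →
      a * (u * b * u⁻¹) = (u * b * u⁻¹) * a := by
    intro a b hab
    have e0 : a * (u⁻¹ * b * u) = (u⁻¹ * b * u) * a := by
      calc a * (u⁻¹ * b * u) = u⁻¹ * ((u * a * u⁻¹) * b) * u := by group
        _ = u⁻¹ * (b * (u * a * u⁻¹)) * u := by rw [hab]
        _ = (u⁻¹ * b * u) * a := by group
    have e : u⁻¹ * b * u = u * b * u⁻¹ := by rw [hui]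
    rw [e] at e0
    exact e0
  have hnot' : ¬ (k₂ * k₁ = k₁ * k₂ ∨ k₂ * (u * k₁ * u⁻¹) = (u * k₁ * u⁻¹) * k₂) := by
    intro hc
    apply hnot
    unfold Blk
    rw [Finset.mem_filter, mem_Kset]
    exact ⟨hk₂, hc⟩
  rw [Finset.disjoint_left]
  intro x hx1 hx2
  unfold Blk at hx1 hx2
  rw [Finset.mem_filter, mem_Kset] at hx1 hx2
  obtain ⟨hxK, hx1⟩ := hx1
  obtain ⟨-, hx2⟩ := hx2
  apply hnot'
  rcases hx1 with hx1 | hx1 <;> rcases hx2 with hx2 | hx2
  · -- x ~ k₁, x ~ k₂
    left
    exact commute_trans h ht hk₁ hx1 hxK.1 hx2.symm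
  · -- x ~ k₁, x ~ k₂^u
    right
    have := commute_trans h ht hk₁ hx1 hxK.1 hx2.symm
    exact hconj k₂ k₁ this
  · -- x ~ k₁^u, x ~ k₂
    right
    exact commute_trans h ht hk₁' hx1 hxK.1 hx2.symm
  · -- x ~ k₁^u, x ~ k₂^u
    left
    have := commute_trans h ht hk₁' hx1 hxK.1 hx2.symm
    -- (u k₂ u⁻¹) commutes with (u k₁ u⁻¹)
    calc k₂ * k₁ = u⁻¹ * ((u * k₂ * u⁻¹) * (u * k₁ * u⁻¹)) * u := by group
      _ = u⁻¹ * ((u * k₁ * u⁻¹) * (u * k₂ * u⁻¹)) * u := by rw [this]
      _ = k₁ * k₂ := by group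

theorem Blk_subset (t u k : N) : Blk t u k ⊆ Kset t := Finset.filter_subset _ _

theorem self_mem_Blk {t u k : N} (hk : Inverts t k) : k ∈ Blk t u k := by
  unfold Blk
  rw [Finset.mem_filter, mem_Kset]
  exact ⟨hk, Or.inl rfl⟩

include h ht hu hut hne in
/-- The weight of a block. -/
theorem sum_Blk {k : N} (hk : Inverts t k) :
    ∑ x ∈ Blk t u k, (1 / (cc x : ℚ)) = 2 * ((cc k : ℚ) - 1) / (cc k : ℚ) := by
  have h1 : ∀ x ∈ Blk t u k, (1 / (cc x : ℚ)) = 1 / (cc k : ℚ) := by
    intro x hx
    rw [cc_eq_of_mem_Blk h ht hu hut hk hx]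
  rw [Finset.sum_congr rfl h1, Finset.sum_const, card_Blk h ht hu hut hne hk]
  have hpos : 1 ≤ cc k := cc_pos k
  rw [nsmul_eq_mul]
  push_cast [Nat.cast_sub hpos]
  ring

include h in
/-- Every involution inverts exactly `i - 3` real odd elements, `i` the number of involutions. -/
theorem card_Kset {s : N} (hs : orderOf s = 2) : (Kset s).card + 3 = (Inv N).card := by
  have hsi : s⁻¹ = s := inv_inv_eq hs
  have hss := inv_sq hs
  have h1 : ((Inv N).filter (fun x => x * s = s * x)).card = 3 := by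
    have : (Inv N).filter (fun x => x * s = s * x) =
        (Finset.univ.filter (fun x : N => x * s = s * x)).erase 1 := by
      ext x
      simp only [Finset.mem_filter, Finset.mem_erase, Finset.mem_univ, true_and, mem_Inv]
      constructor
      · rintro ⟨hx, hc⟩
        exact ⟨inv_ne_one hx, hc⟩
      · rintro ⟨hx1, hc⟩
        exact ⟨orderOf_eq_two_of hx1 (h.exp2 s x hs hc), hc⟩
    rw [this, Finset.card_erase_of_mem (by simp), card_filter_commute]
    unfold cc
    rw [h.cent4 s hs]
  have h2 : ((Inv N).filter (fun x => ¬ x * s = s * x)).card = (Kset s).card := by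
    apply Finset.card_bij (fun x _ => s * x)
    · intro x hx
      rw [Finset.mem_filter, mem_Inv] at hx
      rw [mem_Kset]
      have hxx := inv_sq hx.1
      have hxi : x⁻¹ = x := inv_inv_eq hx.1
      refine ⟨?_, ?_, ?_⟩
      · intro h1'
        apply hx.2
        have : x = s := by
          calc x = s⁻¹ * (s * x) := by group
            _ = s := by rw [h1', mul_one, hsi]
        rw [this]
      · exact odd_orderOf_mul h hs hx.1 (fun e => hx.2 e.symm)
      · rw [mul_inv_rev, hxi, hsi]
        calc s * (s * x) * s = (s * s) * x * s := by group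
          _ = x * s := by rw [hss, one_mul]
    · intro x _ y _ hxy
      exact mul_left_cancel hxy
    · intro k hk
      rw [mem_Kset] at hk
      have hk3 : s * k * s = k⁻¹ := by
        have := hk.2.2; rwa [hsi] at this
      refine ⟨s * k, ?_, ?_⟩
      · rw [Finset.mem_filter, mem_Inv]
        constructor
        · apply orderOf_eq_two_of
          · intro h1'
            have : k = s := by
              calc k = s⁻¹ * (s * k) := by group
                _ = s := by rw [h1', mul_one, hsi]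
            have hodd := hk.2.1
            rw [this, hs] at hodd
            exact absurd hodd (by decide)
          · calc s * k * (s * k) = (s * k * s) * k := by group
              _ = 1 := by rw [hk3]; group
        · intro hc
          -- s k s = s s k = k, so k = k⁻¹
          have : k⁻¹ = k := by
            calc k⁻¹ = s * k * s := hk3.symm
              _ = s * (s * k) := hc
              _ = k := by rw [← mul_assoc, hss, one_mul]
          apply hk.1
          apply eq_one_of_odd_of_sq hk.2.1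
          calc k * k = k⁻¹ * k := by rw [this]
            _ = 1 := by group
      · calc s * (s * k) = (s * s) * k := by group
          _ = k := by rw [hss, one_mul]
  rw [← Finset.card_filter_add_card_filter_not (s := Inv N) (fun x => x * s = s * x), h1, h2]
  ring

/-- all real odd elements -/
noncomputable def Kall (N : Type*) [Group N] [Fintype N] : Finset N :=
  Finset.univ.filter (fun k => ∃ s, orderOf s = 2 ∧ Inverts s k)

theorem mem_Kall {k : N} : k ∈ Kall N ↔ ∃ s, orderOf s = 2 ∧ Inverts s k := by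
  simp [Kall]

include h in
/-- A real odd element is inverted by exactly `|C(k)|` involutions. -/
theorem card_inverting {k : N} (hk : k ∈ Kall N) :
    ((Inv N).filter (fun s => Inverts s k)).card = cc k := by
  obtain ⟨s₀, hs₀, hk₀⟩ := mem_Kall.mp hk
  have hsi : s₀⁻¹ = s₀ := inv_inv_eq hs₀
  have hss := inv_sq hs₀
  rw [← card_filter_commute k]
  symm
  apply Finset.card_bij (fun x _ => x * s₀)
  · intro x hx
    rw [Finset.mem_filter] at hx
    have hxk := hx.2
    have hinv : s₀ * x * s₀ = x⁻¹ := by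
      have := cent_inverts h hs₀ hk₀ hxk; rwa [hsi] at this
    have hxk' : x * k⁻¹ = k⁻¹ * x := by
      calc x * k⁻¹ = k⁻¹ * (k * x) * k⁻¹ := by group
        _ = k⁻¹ * (x * k) * k⁻¹ := by rw [hxk]
        _ = k⁻¹ * x := by group
    have hI : Inverts (x * s₀) k := by
      refine ⟨hk₀.1, hk₀.2.1, ?_⟩
      calc x * s₀ * k * (x * s₀)⁻¹ = x * (s₀ * k * s₀⁻¹) * x⁻¹ := by group
        _ = x * k⁻¹ * x⁻¹ := by rw [hk₀.2.2]
        _ = k⁻¹ * x * x⁻¹ := by rw [hxk']
        _ = k⁻¹ := by group
    rw [Finset.mem_filter, mem_Inv]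
    refine ⟨?_, hI⟩
    apply orderOf_eq_two_of
    · intro h1
      have hx : x = s₀ := by
        calc x = (x * s₀) * s₀⁻¹ := by group
          _ = s₀ := by rw [h1, one_mul, hsi]
      rw [hx] at hxk
      -- s₀ commutes with and inverts k
      have : k⁻¹ = k := by
        calc k⁻¹ = s₀ * k * s₀⁻¹ := hk₀.2.2.symm
          _ = k * s₀ * s₀⁻¹ := by rw [hxk]
          _ = k := by group
      apply hk₀.1
      apply eq_one_of_odd_of_sq hk₀.2.1
      calc k * k = k⁻¹ * k := by rw [this]
        _ = 1 := by group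
    · calc x * s₀ * (x * s₀) = x * (s₀ * x * s₀) := by group
        _ = 1 := by rw [hinv]; group
  · intro x _ y _ hxy
    exact mul_right_cancel hxy
  · intro s hs
    rw [Finset.mem_filter, mem_Inv] at hs
    obtain ⟨hs2, hsk⟩ := hs
    refine ⟨s * s₀, ?_, ?_⟩
    · rw [Finset.mem_filter]
      refine ⟨Finset.mem_univ _, ?_⟩
      have e : (s * s₀) * k * (s * s₀)⁻¹ = k := by
        calc (s * s₀) * k * (s * s₀)⁻¹ = s * (s₀ * k * s₀⁻¹) * s⁻¹ := by group
          _ = s * k⁻¹ * s⁻¹ := by rw [hk₀.2.2]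
          _ = (s * k * s⁻¹)⁻¹ := by group
          _ = k := by rw [hsk.2.2, inv_inv]
      calc (s * s₀) * k = (s * s₀) * k * (s * s₀)⁻¹ * (s * s₀) := by group
        _ = k * (s * s₀) := by rw [e]
    · calc s * s₀ * s₀ = s * (s₀ * s₀) := by group
        _ = s := by rw [hss, mul_one]

include h in
/-- The weighted double count. -/
theorem sum_sum_eq :
    ∑ s ∈ Inv N, ∑ k ∈ Kset s, (1 / (cc k : ℚ)) = ((Kall N).card : ℚ) := by
  have hswap : ∑ s ∈ Inv N, ∑ k ∈ Kset s, (1 / (cc k : ℚ)) =
      ∑ k ∈ Kall N, ∑ s ∈ (Inv N).filter (fun s => Inverts s k), (1 / (cc k : ℚ)) := by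
    apply Finset.sum_comm'
    intro s k
    rw [Finset.mem_filter, mem_Inv, mem_Kset, mem_Kall]
    constructor
    · rintro ⟨hs, hk⟩
      exact ⟨⟨hs, hk⟩, s, hs, hk⟩
    · rintro ⟨⟨hs, hk⟩, -⟩
      exact ⟨hs, hk⟩
  rw [hswap]
  have : ∀ k ∈ Kall N, ∑ s ∈ (Inv N).filter (fun s => Inverts s k), (1 / (cc k : ℚ)) = 1 := by
    intro k hk
    rw [Finset.sum_const, card_inverting h hk, nsmul_eq_mul]
    have : (cc k : ℚ) ≠ 0 := by
      have := cc_pos k
      positivity
    field_simp
  rw [Finset.sum_congr rfl this]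
  simp

/-- Real odd elements, the identity and the involutions are disjoint. -/
theorem card_Kall_le : (Kall N).card + 1 + (Inv N).card ≤ Fintype.card N := by
  have hd1 : Disjoint (Kall N) (insert 1 (Inv N)) := by
    rw [Finset.disjoint_left]
    intro k hk hk'
    obtain ⟨s, -, hks⟩ := mem_Kall.mp hk
    rw [Finset.mem_insert, mem_Inv] at hk'
    rcases hk' with h1 | h2
    · exact hks.1 h1
    · have := hks.2.1
      rw [h2] at this
      exact absurd this (by decide)
  have h1 : (1 : N) ∉ Inv N := by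
    rw [mem_Inv, orderOf_one]; omega
  have := Finset.card_le_univ (Kall N ∪ insert 1 (Inv N))
  rw [Finset.card_union_of_disjoint hd1, Finset.card_insert_of_notMem h1] at this
  omega

include h in
/-- The number of involutions is a quarter of the group order. -/
theorem card_Inv_mul_four (hconj : ∀ s s' : N, orderOf s = 2 → orderOf s' = 2 → IsConj s s')
    {t : N} (ht : orderOf t = 2) : (Inv N).card * 4 = Fintype.card N := by
  have key := MulAction.card_orbit_mul_card_stabilizer_eq_card_group (ConjAct N) t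
  have h1 : Fintype.card (MulAction.orbit (ConjAct N) t) = (Inv N).card := by
    rw [← Nat.card_eq_fintype_card, ← Nat.card_eq_finsetCard]
    apply Nat.card_congr
    refine Equiv.subtypeEquivRight ?_
    intro x
    rw [ConjAct.mem_orbit_conjAct, mem_Inv]
    constructor
    · intro hx
      obtain ⟨c, hc⟩ := isConj_iff.mp hx
      -- hc : c * x * c⁻¹ = t
      have : orderOf x = orderOf t := by
        rw [← hc]
        have := orderOf_injective (MulAut.conj c).toMonoidHom (MulAut.conj c).injective x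
        simpa using this.symm
      rw [this, ht]
    · intro hx
      exact hconj x t hx ht
  have h2 : Fintype.card (MulAction.stabilizer (ConjAct N) t) = 4 := by
    rw [← Nat.card_eq_fintype_card, ← Subgroup.nat_card_centralizer_nat_card_stabilizer]
    exact h.cent4 t ht
  have h3 : Fintype.card (ConjAct N) = Fintype.card N := rfl
  rw [h1, h2, h3] at key
  exact key

include h ht in
theorem cc_odd {k : N} (hk : Inverts t k) : Odd (cc k) := by
  by_contra hodd
  rw [Nat.not_odd_iff_even, even_iff_two_dvd] at hodd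
  have : Fact (Nat.Prime 2) := ⟨Nat.prime_two⟩
  obtain ⟨x, hx⟩ := exists_prime_orderOf_dvd_card' (G := ↥(Subgroup.centralizer ({k} : Set N))) 2 hodd
  have hx' : orderOf (x : N) = 2 := by rw [Subgroup.orderOf_coe]; exact hx
  have := no_invol h hk (mem_cent.mp x.2) (inv_sq hx')
  exact inv_ne_one hx' this

include h ht in
theorem three_le_cc {k : N} (hk : Inverts t k) : 3 ≤ cc k := by
  have hodd := cc_odd h ht hk
  have h2 : 2 ≤ cc k := by
    unfold cc
    have : Nontrivial ↥(Subgroup.centralizer ({k} : Set N)) :=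
      ⟨⟨⟨k, mem_cent.mpr rfl⟩, 1, fun e => hk.1 (congrArg Subtype.val e)⟩⟩
    exact Finite.one_lt_card
  rcases hodd with ⟨m, hm⟩
  omega

theorem cc_dvd (k : N) : cc k ∣ Fintype.card N := by
  unfold cc
  rw [← Nat.card_eq_fintype_card]
  exact Subgroup.card_subgroup_dvd_card _

theorem blk_weight_ge {a : ℕ} (ha : 3 ≤ a) : (4 / 3 : ℚ) ≤ 2 * ((a : ℚ) - 1) / (a : ℚ) := by
  have h3 : (3 : ℚ) ≤ a := by exact_mod_cast ha
  have hpos : (0 : ℚ) < a := by linarith
  rw [div_le_div_iff₀ (by norm_num) hpos]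
  linarith

theorem two_blocks_arith {a₁ a₂ : ℕ} (h1 : 3 ≤ a₁) (h2 : 3 ≤ a₂) (o1 : Odd a₁) (o2 : Odd a₂)
    (hW : 2 * ((a₁ : ℚ) - 1) / (a₁ : ℚ) + 2 * ((a₂ : ℚ) - 1) / (a₂ : ℚ) < 3) :
    (a₁ = 3 ∧ a₂ = 3) ∨ (a₁ = 3 ∧ a₂ = 5) ∨ (a₁ = 5 ∧ a₂ = 3) := by
  have p1 : (0 : ℚ) < a₁ := by
    have : (3 : ℚ) ≤ a₁ := by exact_mod_cast h1
    linarith
  have p2 : (0 : ℚ) < a₂ := by
    have : (3 : ℚ) ≤ a₂ := by exact_mod_cast h2
    linarith
  have key : (a₁ : ℚ) * a₂ < 2 * a₁ + 2 * a₂ := by
    rw [div_add_div _ _ p1.ne' p2.ne', div_lt_iff₀ (mul_pos p1 p2)] at hW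
    nlinarith
  have keyN : a₁ * a₂ < 2 * a₁ + 2 * a₂ := by exact_mod_cast key
  have b1 : a₁ ≤ 5 := by
    by_contra hc
    push Not at hc
    nlinarith
  have b2 : a₂ ≤ 5 := by
    by_contra hc
    push Not at hc
    nlinarith
  rcases o1 with ⟨m1, hm1⟩
  rcases o2 with ⟨m2, hm2⟩
  have : m1 = 1 ∨ m1 = 2 := by omega
  have : m2 = 1 ∨ m2 = 2 := by omega
  rcases ‹m1 = 1 ∨ m1 = 2› with rfl | rfl <;> rcases ‹m2 = 1 ∨ m2 = 2› with rfl | rfl
  · left; omega
  · right; left; omega
  · right; right; omega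
  · exfalso; subst hm1 hm2; omega

include h in
theorem card_eq_aux (hconj : ∀ s s' : N, orderOf s = 2 → orderOf s' = 2 → IsConj s s')
    (hex : ∃ s : N, orderOf s = 2) (h3 : 3 ∣ Fintype.card N) :
    Fintype.card N = 12 ∨ Fintype.card N = 60 := by
  obtain ⟨t₀, ht₀⟩ := hex
  have hi4 : (Inv N).card * 4 = Fintype.card N := card_Inv_mul_four h hconj ht₀
  have hsum := sum_sum_eq h
  have hle := card_Kall_le (N := N)
  have hipos : 0 < (Inv N).card := Finset.card_pos.mpr ⟨t₀, mem_Inv.mpr ht₀⟩
  -- an involution of small weight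
  have : ∃ t ∈ Inv N, ∑ k ∈ Kset t, (1 / (cc k : ℚ)) < 3 := by
    by_contra hcon
    push Not at hcon
    have h1 : (3 : ℚ) * (Inv N).card ≤ ∑ s ∈ Inv N, ∑ k ∈ Kset s, (1 / (cc k : ℚ)) := by
      calc (3 : ℚ) * (Inv N).card = ∑ _s ∈ Inv N, (3 : ℚ) := by
            rw [Finset.sum_const, nsmul_eq_mul]; ring
        _ ≤ _ := Finset.sum_le_sum hcon
    rw [hsum] at h1
    have h2 : 3 * (Inv N).card ≤ (Kall N).card := by exact_mod_cast h1
    omega
  obtain ⟨t, htI, hW⟩ := this
  have ht := mem_Inv.mp htI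
  have hKt : (Kset t).card + 3 = (Inv N).card := card_Kset h ht
  -- the second involution of C(t)
  obtain ⟨u, hu, hut, hne⟩ : ∃ u : N, orderOf u = 2 ∧ u * t = t * u ∧ u ≠ t := by
    have hc4 : (Finset.univ.filter (fun x : N => x * t = t * x)).card = 4 := by
      rw [card_filter_commute]; exact h.cent4 t ht
    have hlt : ({1, t} : Finset N).card < (Finset.univ.filter (fun x : N => x * t = t * x)).card := by
      rw [hc4]
      exact lt_of_le_of_lt (Finset.card_insert_le _ _) (by simp)
    obtain ⟨u, hu1, hu2⟩ := Finset.exists_mem_notMem_of_card_lt_card hlt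
    rw [Finset.mem_filter] at hu1
    rw [Finset.mem_insert, Finset.mem_singleton] at hu2
    push Not at hu2
    exact ⟨u, orderOf_eq_two_of hu2.1 (h.exp2 t u ht hu1.2), hu1.2, hu2.2⟩
  have hwnonneg : ∀ k ∈ Kset t, (0 : ℚ) ≤ 1 / (cc k : ℚ) := by
    intro k _; positivity
  by_cases hK0 : Kset t = ∅
  · left
    rw [hK0, Finset.card_empty] at hKt
    omega
  obtain ⟨k₁, hk₁m⟩ := Finset.nonempty_iff_ne_empty.mpr hK0
  have hk₁ := mem_Kset.mp hk₁m
  have hB₁ := card_Blk h ht hu hut hne hk₁
  have hw₁ := sum_Blk h ht hu hut hne hk₁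
  have ha₁ := three_le_cc h ht hk₁
  have ho₁ := cc_odd h ht hk₁
  have hd₁ := cc_dvd k₁
  by_cases hS₁ : Kset t ⊆ Blk t u k₁
  · exfalso
    have heq : Kset t = Blk t u k₁ := Finset.Subset.antisymm hS₁ (Blk_subset t u k₁)
    rw [heq, hB₁] at hKt
    -- n = 8 a + 4
    have hn : Fintype.card N = 8 * cc k₁ + 4 := by omega
    rw [hn] at hd₁
    have : cc k₁ ∣ 4 := by
      have h8 : cc k₁ ∣ 8 * cc k₁ := Dvd.intro_left 8 rfl
      exact (Nat.dvd_add_right h8).mp hd₁
    have hle4 := Nat.le_of_dvd (by norm_num) this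
    rcases ho₁ with ⟨m, hm⟩
    have : cc k₁ = 3 := by omega
    rw [this] at ‹cc k₁ ∣ 4›
    omega
  obtain ⟨k₂, hk₂m, hk₂n⟩ := Finset.not_subset.mp hS₁
  have hk₂ := mem_Kset.mp hk₂m
  have hB₂ := card_Blk h ht hu hut hne hk₂
  have hw₂ := sum_Blk h ht hu hut hne hk₂
  have ha₂ := three_le_cc h ht hk₂
  have ho₂ := cc_odd h ht hk₂
  have hdisj₁₂ := Blk_disjoint h ht hu hut hk₁ hk₂ hk₂n
  by_cases hS₂ : Kset t ⊆ Blk t u k₁ ∪ Blk t u k₂
  · have heq : Kset t = Blk t u k₁ ∪ Blk t u k₂ :=
      Finset.Subset.antisymm hS₂ (Finset.union_subset (Blk_subset t u k₁) (Blk_subset t u k₂))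
    rw [heq, Finset.sum_union hdisj₁₂, hw₁, hw₂] at hW
    rw [heq, Finset.card_union_of_disjoint hdisj₁₂, hB₁, hB₂] at hKt
    rcases two_blocks_arith ha₁ ha₂ ho₁ ho₂ hW with ⟨e1, e2⟩ | ⟨e1, e2⟩ | ⟨e1, e2⟩
    · exfalso
      rw [e1, e2] at hKt
      have : Fintype.card N = 44 := by omega
      rw [this] at h3
      omega
    · right
      rw [e1, e2] at hKt
      omega
    · right
      rw [e1, e2] at hKt
      omega
  exfalso
  obtain ⟨k₃, hk₃m, hk₃n⟩ := Finset.not_subset.mp hS₂
  have hk₃ := mem_Kset.mp hk₃m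
  have hw₃ := sum_Blk h ht hu hut hne hk₃
  have ha₃ := three_le_cc h ht hk₃
  rw [Finset.mem_union, not_or] at hk₃n
  have hdisj₁₃ := Blk_disjoint h ht hu hut hk₁ hk₃ hk₃n.1
  have hdisj₂₃ := Blk_disjoint h ht hu hut hk₂ hk₃ hk₃n.2
  have hsub : Blk t u k₁ ∪ Blk t u k₂ ∪ Blk t u k₃ ⊆ Kset t :=
    Finset.union_subset (Finset.union_subset (Blk_subset t u k₁) (Blk_subset t u k₂))
      (Blk_subset t u k₃)
  have hge := Finset.sum_le_sum_of_subset_of_nonneg hsub (f := fun k => (1 / (cc k : ℚ)))
    (fun k hk _ => hwnonneg k hk)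
  have hd : Disjoint (Blk t u k₁ ∪ Blk t u k₂) (Blk t u k₃) :=
    Finset.disjoint_union_left.mpr ⟨hdisj₁₃, hdisj₂₃⟩
  rw [Finset.sum_union hd, Finset.sum_union hdisj₁₂, hw₁, hw₂, hw₃] at hge
  have g1 := blk_weight_ge ha₁
  have g2 := blk_weight_ge ha₂
  have g3 := blk_weight_ge ha₃
  linarith

end Count

/-- **Four-group centralizers.** If every involution of the finite group `N` has an elementary
abelian centralizer of order four, all involutions are conjugate, and `3 ∣ |N|`, then `|N|` is
`12` or `60`. -/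
theorem card_eq_twelve_or_sixty [Finite N] (h : Hyp N)
    (hconj : ∀ s s' : N, orderOf s = 2 → orderOf s' = 2 → IsConj s s')
    (hex : ∃ s : N, orderOf s = 2) (h3 : 3 ∣ Nat.card N) :
    Nat.card N = 12 ∨ Nat.card N = 60 := by
  cases nonempty_fintype N
  rw [Nat.card_eq_fintype_card] at h3 ⊢
  exact card_eq_aux h hconj hex h3

end Cfsg.Agent.Helper21.FourCent
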