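import Mathlib
import Cfsg.Agent.Lib.Helper21.FourCent
import Cfsg.Agent.Lib.Helper4.D8.Simple

/-!
# Groups with an involution whose centralizer has order four and is a Sylow subgroup
-/

set_option autoImplicit false
set_option linter.unusedSectionVars false
set_option linter.style.haveILetI false

namespace Cfsg.Agent.Helper21.D8Cent

open Cfsg.Agent.Helper21.FourCent

variable {N : Type*} [Group N] [Finite N]

theorem conj_orderOf (g x : N) : orderOf (g * x * g⁻¹) = orderOf x := by
  have := orderOf_injective (MulAut.conj g).toMonoidHom (MulAut.conj g).injective x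
  simpa using this

/-- **Dichotomy.** If the centralizer `V` of the involution `z` has order four and `8 ∤ |N|`, then
`N` has a normal `2`-complement or `N` satisfies the hypotheses of the four-group lemma. -/
theorem four_sylow_dichotomy (z : N) (hz : orderOf z = 2)
    (hC : Nat.card (Subgroup.centralizer ({z} : Set N)) = 4) (h8 : ¬ 8 ∣ Nat.card N) :
    (∃ K : Subgroup N, K.Normal ∧ Odd (Nat.card K) ∧ Nat.card K * 4 = Nat.card N) ∨
    (Hyp N ∧ (∀ s s' : N, orderOf s = 2 → orderOf s' = 2 → IsConj s s') ∧ 3 ∣ Nat.card N ∧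
      ∃ g : N, (∀ x : N, x * z = z * x ↔ (g * x * g⁻¹) * z = z * (g * x * g⁻¹)) ∧
        3 ∣ orderOf g) := by
  haveI : Fact (Nat.Prime 2) := ⟨Nat.prime_two⟩
  set V : Subgroup N := Subgroup.centralizer ({z} : Set N) with hV
  have hzz := inv_sq hz
  have hz1 := inv_ne_one hz
  have hzi := inv_inv_eq hz
  have hmemV : ∀ x : N, x ∈ V ↔ x * z = z * x := fun x => mem_cent
  have hzV : z ∈ V := (hmemV z).mpr rfl
  have hVp : IsPGroup 2 V := IsPGroup.of_card (n := 2) (by rw [hC]; norm_num)
  have hVidx : ¬ 2 ∣ V.index := by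
    intro h2
    apply h8
    rw [← V.card_mul_index, hC]
    obtain ⟨c, hc⟩ := h2
    exact ⟨c, by rw [hc]; ring⟩
  set Q : Sylow 2 N := hVp.toSylow hVidx with hQ
  have hQV : (Q : Subgroup N) = V := IsPGroup.toSylow_coe hVp hVidx
  have hVcomm : ∀ a ∈ V, ∀ b ∈ V, a * b = b * a := by
    intro a ha b hb
    have := IsPGroup.commutative_of_card_eq_prime_sq (p := 2) (G := V) (by rw [hC]; norm_num) ⟨a, ha⟩ ⟨b, hb⟩
    exact congrArg Subtype.val this
  have hQcard : Nat.card (Q : Subgroup N) = 4 := by rw [hQV]; exact hC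
  by_cases hNC : Subgroup.normalizer ((Q : Subgroup N) : Set N) ≤
      Subgroup.centralizer ((Q : Subgroup N) : Set N)
  · left
    have hcompl := MonoidHom.ker_transferSylow_isComplement' Q hNC
    refine ⟨(MonoidHom.transferSylow Q hNC).ker, inferInstance, ?_, ?_⟩
    · have h1 := hcompl.card_mul_card
      rw [hQcard] at h1
      by_contra hodd
      rw [Nat.not_odd_iff_even, even_iff_two_dvd] at hodd
      apply h8
      rw [← h1]
      obtain ⟨c, hc⟩ := hodd
      exact ⟨c, by rw [hc]; ring⟩
    · have h1 := hcompl.card_mul_card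
      rw [hQcard] at h1
      exact h1
  · right
    obtain ⟨g, hgN, hgC⟩ := SetLike.not_le_iff_exists.mp hNC
    rw [hQV] at hgN hgC
    have hgN' : ∀ x, x ∈ V ↔ g * x * g⁻¹ ∈ V := fun x => (Subgroup.mem_normalizer_iff.mp hgN) x
    -- g does not commute with z
    have hgz : g * z ≠ z * g := by
      intro hc
      apply hgC
      rw [Subgroup.mem_centralizer_iff]
      intro v hv
      exact hVcomm v hv g ((hmemV g).mpr hc)
    set z₁ := g * z * g⁻¹ with hz₁
    have hz₁V : z₁ ∈ V := (hgN' z).mp hzV
    have hz₁o : orderOf z₁ = 2 := by rw [hz₁, conj_orderOf, hz]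
    have hz₁1 := inv_ne_one hz₁o
    have hz₁z : z₁ ≠ z := by
      intro h1
      apply hgz
      calc g * z = (g * z * g⁻¹) * g := by group
        _ = z * g := by rw [← hz₁, h1]
    have hz₁z₁ := inv_sq hz₁o
    have hzz₁comm : z * z₁ = z₁ * z := hVcomm z hzV z₁ hz₁V
    -- the elements of V
    have hVelts : ∀ x ∈ V, x = 1 ∨ x = z ∨ x = z₁ ∨ x = z * z₁ := by
      classical
      haveI : Fintype N := Fintype.ofFinite N
      intro x hx
      by_contra hcon
      push Not at hcon
      have hsub : ({1, z, z₁, z * z₁, x} : Finset N) ⊆ Finset.univ.filter (fun y => y ∈ V) := by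
        intro y hy
        simp only [Finset.mem_insert, Finset.mem_singleton] at hy
        rw [Finset.mem_filter]
        refine ⟨Finset.mem_univ _, ?_⟩
        rcases hy with rfl | rfl | rfl | rfl | rfl
        · exact V.one_mem
        · exact hzV
        · exact hz₁V
        · exact V.mul_mem hzV hz₁V
        · exact hx
      have hcard5 : ({1, z, z₁, z * z₁, x} : Finset N).card = 5 := by
        have hzz₁1 : z * z₁ ≠ 1 := by
          intro h1
          apply hz₁z
          calc z₁ = z⁻¹ * (z * z₁) := by group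
            _ = z := by rw [h1, mul_one, hzi]
        have hzz₁z : z * z₁ ≠ z := by
          intro h1
          apply hz₁1
          calc z₁ = z⁻¹ * (z * z₁) := by group
            _ = 1 := by rw [h1]; group
        have hzz₁z₁ : z * z₁ ≠ z₁ := by
          intro h1
          apply hz1
          calc z = (z * z₁) * z₁⁻¹ := by group
            _ = 1 := by rw [h1]; group
        rw [Finset.card_insert_of_notMem, Finset.card_insert_of_notMem,
          Finset.card_insert_of_notMem, Finset.card_insert_of_notMem, Finset.card_singleton]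
        · simp only [Finset.mem_singleton]; exact fun h => hcon.2.2.2 h.symm
        · simp only [Finset.mem_insert, Finset.mem_singleton]
          rintro (h | h)
          · exact hzz₁z₁ h.symm
          · exact hcon.2.2.1 h.symm
        · simp only [Finset.mem_insert, Finset.mem_singleton]
          rintro (h | h | h)
          · exact hz₁z h.symm
          · exact hzz₁z h.symm
          · exact hcon.2.1 h.symm
        · simp only [Finset.mem_insert, Finset.mem_singleton]
          rintro (h | h | h | h)
          · exact hz1 h.symm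
          · exact hz₁1 h.symm
          · exact hzz₁1 h.symm
          · exact hcon.1 h.symm
      have hle := Finset.card_le_card hsub
      rw [hcard5] at hle
      have hV4 : (Finset.univ.filter (fun y => y ∈ V)).card = 4 := by
        rw [← hC, Nat.card_eq_fintype_card, Fintype.card_subtype]
      omega
    have hVexp : ∀ x ∈ V, x * x = 1 := by
      intro x hx
      rcases hVelts x hx with rfl | rfl | rfl | rfl
      · simp
      · exact hzz
      · exact hz₁z₁
      · calc z * z₁ * (z * z₁) = z * (z₁ * z) * z₁ := by group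
          _ = z * (z * z₁) * z₁ := by rw [hzz₁comm]
          _ = (z * z) * (z₁ * z₁) := by group
          _ = 1 := by rw [hzz, hz₁z₁, one_mul]
    -- the image of z₁
    set z₂ := g * z₁ * g⁻¹ with hz₂
    have hz₂V : z₂ ∈ V := (hgN' z₁).mp hz₁V
    have hz₂1 : z₂ ≠ 1 := inv_ne_one (by rw [hz₂, conj_orderOf, hz₁o])
    have hz₂z₁ : z₂ ≠ z₁ := by
      intro h1
      apply hz₁z
      have : g * z₁ * g⁻¹ = g * z * g⁻¹ := h1
      calc z₁ = g⁻¹ * (g * z₁ * g⁻¹) * g := by group
        _ = g⁻¹ * (g * z * g⁻¹) * g := by rw [this]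
        _ = z := by group
    have hz₂eq : z₂ = z * z₁ := by
      rcases hVelts z₂ hz₂V with h1 | h1 | h1 | h1
      · exact absurd h1 hz₂1
      · -- swap case: g is a 2-element normalizing Q
        exfalso
        have hg2 : (g * g) * z = z * (g * g) := by
          have e : (g * g) * z * (g * g)⁻¹ = z := by
            calc (g * g) * z * (g * g)⁻¹ = g * (g * z * g⁻¹) * g⁻¹ := by group
              _ = z := h1
          calc (g * g) * z = (g * g) * z * (g * g)⁻¹ * (g * g) := by group
            _ = z * (g * g) := by rw [e]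
        have hg2V : g * g ∈ V := (hmemV _).mpr hg2
        have hg4 : g ^ 4 = 1 := by
          have := hVexp _ hg2V
          calc g ^ 4 = (g * g) * (g * g) := by
                rw [show (4 : ℕ) = 2 + 2 from rfl, pow_add, pow_two]
            _ = 1 := this
        have hgp : IsPGroup 2 (Subgroup.zpowers g) := by
          rw [IsPGroup.iff_card, Nat.card_zpowers]
          have hd : orderOf g ∣ 2 ^ 2 := orderOf_dvd_of_pow_eq_one (by simpa using hg4)
          obtain ⟨k, -, hk⟩ := (Nat.dvd_prime_pow Nat.prime_two).mp hd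
          exact ⟨k, hk⟩
        have hinf := hgp.inf_normalizer_sylow Q
        have hgmem : g ∈ Subgroup.zpowers g ⊓ (Q : Subgroup N) := by
          rw [← hinf]
          refine ⟨Subgroup.mem_zpowers g, ?_⟩
          show g ∈ Subgroup.normalizer ((Q : Subgroup N) : Set N)
          rw [hQV]; exact hgN
        have hgV : g ∈ V := by rw [← hQV]; exact hgmem.2
        exact hgz ((hmemV g).mp hgV)
      · exact absurd h1 hz₂z₁
      · exact h1
    -- conjugates of z in V
    have hconjz : ∀ x ∈ V, x ≠ 1 → ∃ m : N, m * z * m⁻¹ = x ∧ ∀ y, y ∈ V ↔ m * y * m⁻¹ ∈ V := by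
      intro x hx hx1
      rcases hVelts x hx with h1 | h1 | h1 | h1
      · exact absurd h1 hx1
      · exact ⟨1, by rw [h1]; group, fun y => by simp⟩
      · exact ⟨g, by rw [h1], hgN'⟩
      · refine ⟨g * g, ?_, ?_⟩
        · rw [h1, ← hz₂eq, hz₂, hz₁]; group
        · intro y
          rw [hgN' y, hgN' (g * y * g⁻¹)]
          have : g * (g * y * g⁻¹) * g⁻¹ = g * g * y * (g * g)⁻¹ := by group
          rw [this]
    -- every involution is conjugate to z with centralizer a conjugate of V
    have hinvol : ∀ s : N, orderOf s = 2 → ∃ m : N, m * z * m⁻¹ = s ∧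
        ∀ y, y * s = s * y → (m⁻¹ * y * m) ∈ V := by
      intro s hs
      have hsp : IsPGroup 2 (Subgroup.zpowers s) := by
        rw [IsPGroup.iff_card, Nat.card_zpowers, hs]; exact ⟨1, by norm_num⟩
      obtain ⟨P', hP'⟩ := hsp.exists_le_sylow
      obtain ⟨n, hn⟩ := MulAction.exists_smul_eq N P' Q
      have hsQ : n * s * n⁻¹ ∈ (Q : Subgroup N) := by
        rw [← hn, Sylow.coe_subgroup_smul, Subgroup.mem_smul_pointwise_iff_exists]
        exact ⟨s, hP' (Subgroup.mem_zpowers s), by simp [MulAut.smul_def]⟩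
      rw [hQV] at hsQ
      have hs1 : n * s * n⁻¹ ≠ 1 := inv_ne_one (by rw [conj_orderOf, hs])
      obtain ⟨m, hm, hmV⟩ := hconjz _ hsQ hs1
      refine ⟨n⁻¹ * m, ?_, ?_⟩
      · calc n⁻¹ * m * z * (n⁻¹ * m)⁻¹ = n⁻¹ * (m * z * m⁻¹) * n := by group
          _ = n⁻¹ * (n * s * n⁻¹) * n := by rw [hm]
          _ = s := by group
      · intro y hy
        -- m⁻¹ n y n⁻¹ m commutes with z
        rw [hmemV]
        have hs' : s = n⁻¹ * (m * z * m⁻¹) * n := by rw [hm]; group
        have : (n⁻¹ * m)⁻¹ * y * (n⁻¹ * m) * z = m⁻¹ * n * (y * s) * n⁻¹ * m := by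
          rw [hs']; group
        rw [this, hy, hs']; group
    -- 3 divides the order of g
    have h3g : 3 ∣ orderOf g := by
      by_contra h3
      have hcop : Nat.Coprime 3 (orderOf g) := (Nat.Prime.coprime_iff_not_dvd Nat.prime_three).mpr h3
      obtain ⟨m, hm⟩ := exists_pow_eq_self_of_coprime hcop
      have hg3 : (g ^ 3) * z = z * (g ^ 3) := by
        have e : g ^ 3 * z * (g ^ 3)⁻¹ = z := by
          have e3 : g ^ 3 = g * g * g := by rw [pow_succ, pow_two]
          calc g ^ 3 * z * (g ^ 3)⁻¹ = g * (g * (g * z * g⁻¹) * g⁻¹) * g⁻¹ := by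
                rw [e3]; group
            _ = g * z₂ * g⁻¹ := by rw [← hz₁, ← hz₂]
            _ = g * (z * z₁) * g⁻¹ := by rw [hz₂eq]
            _ = (g * z * g⁻¹) * (g * z₁ * g⁻¹) := by group
            _ = z₁ * z₂ := by rw [← hz₁, ← hz₂]
            _ = z₁ * (z * z₁) := by rw [hz₂eq]
            _ = z₁ * (z₁ * z) := by rw [hzz₁comm]
            _ = (z₁ * z₁) * z := by group
            _ = z := by rw [hz₁z₁, one_mul]
        calc g ^ 3 * z = g ^ 3 * z * (g ^ 3)⁻¹ * g ^ 3 := by group
          _ = z * g ^ 3 := by rw [e]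
      apply hgz
      rw [← hm]
      exact ((Commute.pow_left (show Commute (g ^ 3) z from hg3) m)).eq
    refine ⟨⟨?_, ?_⟩, ?_, h3g.trans (orderOf_dvd_natCard g),
      ⟨g, fun x => by rw [← hmemV, ← hmemV]; exact hgN' x, h3g⟩⟩
    · intro s hs
      obtain ⟨m, hm, -⟩ := hinvol s hs
      rw [← Cfsg.Agent.Helper4.D8.card_centralizer_conj z s (isConj_iff.mpr ⟨m, hm⟩)]
      exact hC
    · intro s x hs hx
      obtain ⟨m, hm, hmc⟩ := hinvol s hs
      have := hVexp _ (hmc x hx)
      calc x * x = m * ((m⁻¹ * x * m) * (m⁻¹ * x * m)) * m⁻¹ := by group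
        _ = 1 := by rw [this]; group
    · intro s s' hs hs'
      obtain ⟨m, hm, -⟩ := hinvol s hs
      obtain ⟨m', hm', -⟩ := hinvol s' hs'
      exact (isConj_iff.mpr ⟨m, hm⟩).symm.trans (isConj_iff.mpr ⟨m', hm'⟩)

end Cfsg.Agent.Helper21.D8Cent
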