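import Mathlib
import Cfsg.Agent.Lib.Helper21.FourCent
import Cfsg.Agent.Lib.Helper21.D8Cent1
import Cfsg.Agent.Lib.Helper4.D8.Simple
import Cfsg.Agent.Lib.Helper5.PSL
import Cfsg.Agent.Lib.Helper5.SLCard

/-!
# Groups with a dihedral involution centralizer of order eight: the index-two branch
-/

set_option autoImplicit false
set_option linter.unusedSectionVars false
set_option linter.style.haveILetI false

namespace Cfsg.Agent.Helper21.D8Cent

open Cfsg.Agent.Helper21.FourCent

/-! ### `SL₃(2)` is simple -/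

theorem center_SL3_eq_bot :
    Subgroup.center (Matrix.SpecialLinearGroup (Fin 3) (ZMod 2)) = ⊥ := by
  apply Subgroup.eq_bot_of_card_eq
  rw [Cfsg.Agent.Helper5.card_center_SL (ZMod.card 2) 3 (by norm_num)]
  rfl

theorem isSimpleGroup_SL3 : IsSimpleGroup (Matrix.SpecialLinearGroup (Fin 3) (ZMod 2)) := by
  have h1 : IsSimpleGroup (Matrix.ProjectiveSpecialLinearGroup (Fin 3) (ZMod 2)) :=
    Cfsg.Agent.Helper5.psl_isSimpleGroup (by simp)
  let e : Matrix.ProjectiveSpecialLinearGroup (Fin 3) (ZMod 2) ≃*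
      Matrix.SpecialLinearGroup (Fin 3) (ZMod 2) :=
    (QuotientGroup.quotientMulEquivOfEq center_SL3_eq_bot).trans QuotientGroup.quotientBot
  have : Nontrivial (Matrix.SpecialLinearGroup (Fin 3) (ZMod 2)) := e.symm.toEquiv.nontrivial
  exact IsSimpleGroup.isSimpleGroup_of_surjective e.toMonoidHom e.surjective

/-! ### Recognizing symmetric groups -/

theorem perm_iso_of_core_bot {G : Type*} [Group G] [Finite G] (H : Subgroup G) (k : ℕ)
    (hidx : H.index = k) (hcore : H.normalCore = ⊥) (hcard : Nat.card G = k.factorial) :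
    Nonempty (G ≃* Equiv.Perm (Fin k)) := by
  have hk : Nat.card (G ⧸ H) = k := hidx
  have e0 : (G ⧸ H) ≃ Fin k := Finite.equivFinOfCardEq hk
  let f : G →* Equiv.Perm (Fin k) :=
    (Equiv.permCongrHom e0).toMonoidHom.comp (MulAction.toPermHom G (G ⧸ H))
  have hinj : Function.Injective f := by
    have h1 : Function.Injective (MulAction.toPermHom G (G ⧸ H)) := by
      rw [← MonoidHom.ker_eq_bot_iff, ← Subgroup.normalCore_eq_ker, hcore]
    exact (Equiv.permCongrHom e0).injective.comp h1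
  have hbij : Function.Bijective f := by
    rw [Nat.bijective_iff_injective_and_card]
    refine ⟨hinj, ?_⟩
    rw [hcard, Nat.card_perm, Nat.card_fin]
  exact ⟨MulEquiv.ofBijective f hbij⟩

/-! ### The index-two branch -/

section Branch

variable {G : Type*} [Group G] [Finite G] (z : G)
  (e : Subgroup.centralizer ({z} : Set G) ≃* DihedralGroup 4) (N : Subgroup G)

/-- Involutions of `N` lie in every normal subgroup of `G` containing `z`. -/
theorem invol_mem (hz : orderOf z = 2) (hzN : z ∈ N)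
    (hconj : ∀ s s' : ↥N, orderOf s = 2 → orderOf s' = 2 → IsConj s s')
    (M : Subgroup G) [M.Normal] (hzM : z ∈ M) (s : ↥N) (hs : orderOf s = 2) : (s : G) ∈ M := by
  have hz' : orderOf (⟨z, hzN⟩ : ↥N) = 2 := by rw [Subgroup.orderOf_mk]; exact hz
  obtain ⟨c, hc⟩ := isConj_iff.mp (hconj ⟨z, hzN⟩ s hz' hs)
  have h1 : (s : G) = (c : G) * z * (c : G)⁻¹ := by
    have := congrArg Subtype.val hc
    simpa using this.symm
  rw [h1]
  exact Subgroup.Normal.conj_mem inferInstance z hzM c

include e in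
/-- **Claim.** A normal subgroup of `G` not containing `z` is trivial. -/
theorem normal_eq_bot (hz : orderOf z = 2) (hN : N.index = 2) (hzN : z ∈ N) (hH : Hyp ↥N)
    (hconj : ∀ s s' : ↥N, orderOf s = 2 → orderOf s' = 2 → IsConj s s')
    (hV4 : Nat.card (Subgroup.centralizer ({(⟨z, hzN⟩ : ↥N)} : Set ↥N)) = 4)
    (K : Subgroup G) [hKn : K.Normal] (hzK : z ∉ K) : K = ⊥ := by
  have hz1 : z ≠ 1 := inv_ne_one hz
  set z' : ↥N := ⟨z, hzN⟩ with hz'def
  have hz' : orderOf z' = 2 := by rw [Subgroup.orderOf_mk]; exact hz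
  have hNn : N.Normal := Subgroup.normal_of_index_eq_two hN
  set A : Subgroup ↥N := K.subgroupOf N with hA
  have hAodd : ∀ x ∈ A, x * x = 1 → x = 1 := by
    intro x hx hxx
    by_contra hx1
    have hox := orderOf_eq_two_of hx1 hxx
    obtain ⟨c, hc⟩ := isConj_iff.mp (hconj x z' hox hz')
    apply hzK
    have h1 : z = (c : G) * (x : G) * (c : G)⁻¹ := by
      have := congrArg Subtype.val hc
      simpa using this.symm
    rw [h1]
    exact hKn.conj_mem _ (Subgroup.mem_subgroupOf.mp hx) _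
  have hAnorm : ∀ (s : ↥N), ∀ x ∈ A, s * x * s⁻¹ ∈ A := by
    intro s x hx
    rw [hA, Subgroup.mem_subgroupOf] at hx ⊢
    simpa using hKn.conj_mem _ hx (s : G)
  obtain ⟨u, huV, hu1, huz⟩ : ∃ u : ↥N, u * z' = z' * u ∧ u ≠ 1 ∧ u ≠ z' := by
    by_contra hcon
    push Not at hcon
    have hle : Subgroup.centralizer ({z'} : Set ↥N) ≤ Subgroup.zpowers z' := by
      intro x hx
      by_cases hx1 : x = 1
      · rw [hx1]; exact Subgroup.one_mem _
      · rw [hcon x (mem_cent.mp hx) hx1]; exact Subgroup.mem_zpowers _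
    have := Subgroup.card_dvd_of_le hle
    rw [hV4, Nat.card_zpowers, hz'] at this
    omega
  have huu : u * u = 1 := hH.exp2 z' u hz' huV
  have huo : orderOf u = 2 := orderOf_eq_two_of hu1 huu
  have hzz' := inv_sq hz'
  have hzi' := inv_inv_eq hz'
  have hzu1 : z' * u ≠ 1 := by
    intro h
    apply huz
    calc u = z'⁻¹ * (z' * u) := by group
      _ = z' := by rw [h, mul_one, hzi']
  have hzuzu : (z' * u) * (z' * u) = 1 := by
    calc (z' * u) * (z' * u) = z' * (u * z') * u := by group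
      _ = z' * (z' * u) * u := by rw [huV]
      _ = (z' * z') * (u * u) := by group
      _ = 1 := by rw [hzz', huu, one_mul]
  have hzuo : orderOf (z' * u) = 2 := orderOf_eq_two_of hzu1 hzuzu
  have i1 := inverts_of_normalizes hH hz' A hAodd (hAnorm z')
  have i2 := inverts_of_normalizes hH huo A hAodd (hAnorm u)
  have i3 := inverts_of_normalizes hH hzuo A hAodd (hAnorm (z' * u))
  have hAbot : ∀ x ∈ A, x = 1 := by
    intro x hx
    apply hAodd x hx
    have e1 := i1 x hx
    have e2 := i2 x hx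
    have e3 := i3 x hx
    have h1 : x⁻¹ = x := by
      calc x⁻¹ = (z' * u) * x * (z' * u)⁻¹ := e3.symm
        _ = z' * (u * x * u⁻¹) * z'⁻¹ := by group
        _ = z' * x⁻¹ * z'⁻¹ := by rw [e2]
        _ = (z' * x * z'⁻¹)⁻¹ := by group
        _ = x := by rw [e1, inv_inv]
    calc x * x = x⁻¹ * x := by rw [h1]
      _ = 1 := inv_mul_cancel x
  have hKN : ∀ w ∈ K, w ∈ N → w = 1 := by
    intro w hwK hwN
    have := hAbot ⟨w, hwN⟩ (Subgroup.mem_subgroupOf.mpr hwK)
    exact congrArg Subtype.val this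
  rw [Subgroup.eq_bot_iff_forall]
  intro w hwK
  by_contra hw1
  have hwN : w ∉ N := fun h => hw1 (hKN w hwK h)
  have hcent : ∀ g : G, g * w = w * g := by
    intro g
    have h1 : g * w * g⁻¹ ∈ K := hKn.conj_mem w hwK g
    have h2 : g * w * g⁻¹ ∉ N := by
      intro h
      apply hwN
      have := hNn.conj_mem _ h g⁻¹
      have e2 : g⁻¹ * (g * w * g⁻¹) * g⁻¹⁻¹ = w := by group
      rwa [e2] at this
    have h3 : w⁻¹ * (g * w * g⁻¹) ∈ N := by
      rw [Subgroup.mul_mem_iff_of_index_two hN]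
      constructor
      · intro h; exact absurd (N.inv_mem_iff.mp h) hwN
      · intro h; exact absurd h h2
    have h4 := hKN _ (K.mul_mem (K.inv_mem hwK) h1) h3
    calc g * w = w * (w⁻¹ * (g * w * g⁻¹)) * g := by group
      _ = w * g := by rw [h4, mul_one]
  have hwC : w ∈ Subgroup.centralizer ({z} : Set G) := mem_cent.mpr (hcent z).symm
  obtain ⟨q, hq⟩ := Cfsg.Agent.Helper4.D8.exists_phi_eq z e hwC
  have hqc : ∀ p : DihedralGroup 4, q * p = p * q := by
    intro p
    apply Cfsg.Agent.Helper4.D8.phi_injective z e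
    rw [map_mul, map_mul, hq]
    exact (hcent _).symm
  rcases Cfsg.Agent.Helper4.D8.center_d8 q hqc with h | h
  · apply hw1; rw [← hq, h, map_one]
  · apply hzK
    rw [← Cfsg.Agent.Helper4.D8.phi_r2 z e hz1, ← h, hq]; exact hwK

include e in
theorem z_mem (hz : orderOf z = 2) (hN : N.index = 2) : z ∈ N := by
  have hz1 := inv_ne_one hz
  rw [← Cfsg.Agent.Helper4.D8.cc_sq z e hz1]
  exact Subgroup.mul_self_mem_of_index_two hN _

theorem card_eq_of_index_two (hN : N.index = 2) : Nat.card G = Nat.card ↥N * 2 := by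
  rw [← hN, Subgroup.card_mul_index]

include e in
theorem not_eight_dvd (hz : orderOf z = 2) (hN : N.index = 2) : ¬ 8 ∣ Nat.card ↥N := by
  haveI : Fact (Nat.Prime 2) := ⟨Nat.prime_two⟩
  have hz1 := inv_ne_one hz
  obtain ⟨S, hS⟩ := Cfsg.Agent.Helper4.D8.exists_sylow z e hz1
  have h1 := S.not_dvd_index
  have h2 := (S : Subgroup G).card_mul_index
  rw [hS] at h1 h2
  rw [Cfsg.Agent.Helper4.D8.card_centralizer z e, card_eq_of_index_two N hN] at h2
  rintro ⟨c, hc⟩
  apply h1
  rw [hc] at h2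
  exact ⟨c, by omega⟩

include e in
theorem card_inf (hz : orderOf z = 2) (hN : N.index = 2) :
    Nat.card ↥(Subgroup.centralizer ({z} : Set G) ⊓ N) = 4 := by
  have hNn : N.Normal := Subgroup.normal_of_index_eq_two hN
  set C := Subgroup.centralizer ({z} : Set G) with hC
  have hC8 : Nat.card C = 8 := Cfsg.Agent.Helper4.D8.card_centralizer z e
  have h1 := Subgroup.relIndex_mul_relIndex ⊥ (C ⊓ N) C bot_le inf_le_left
  rw [Subgroup.relIndex_bot_left, Subgroup.relIndex_bot_left, Subgroup.inf_relIndex_left, hC8] at h1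
  have h2 : N.relIndex C ∣ 2 := by
    rw [← hN]; exact Subgroup.relIndex_dvd_index_of_normal N C
  have h3 : N.relIndex C ≠ 1 := by
    intro h
    rw [Subgroup.relIndex_eq_one] at h
    have := Subgroup.card_dvd_of_le h
    rw [hC8] at this
    exact not_eight_dvd z e N hz hN this
  rcases (Nat.dvd_prime Nat.prime_two).mp h2 with h | h
  · exact absurd h h3
  · rw [h] at h1; omega

theorem cent_eq_subgroupOf (hzN : z ∈ N) :
    Subgroup.centralizer ({(⟨z, hzN⟩ : ↥N)} : Set ↥N) =
      (Subgroup.centralizer ({z} : Set G)).subgroupOf N := by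
  ext x
  rw [mem_cent, Subgroup.mem_subgroupOf, mem_cent, Subtype.ext_iff]
  rfl

theorem card_subgroupOf_dvd (M : Subgroup G) : Nat.card ↥(M.subgroupOf N) ∣ Nat.card ↥M := by
  let f : ↥(M.subgroupOf N) →* ↥M :=
    (N.subtype.comp (M.subgroupOf N).subtype).codRestrict M
      (fun x => Subgroup.mem_subgroupOf.mp x.2)
  have hf : Function.Injective f := by
    intro a b hab
    have := congrArg Subtype.val hab
    exact Subtype.ext (Subtype.ext this)
  exact Subgroup.card_dvd_of_injective f hf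

include e in
theorem card_cent_N (hz : orderOf z = 2) (hN : N.index = 2) (hzN : z ∈ N) :
    Nat.card (Subgroup.centralizer ({(⟨z, hzN⟩ : ↥N)} : Set ↥N)) = 4 := by
  rw [cent_eq_subgroupOf z N hzN, ← card_inf z e N hz hN, ← Subgroup.subgroupOf_map_subtype,
    Subgroup.card_map_of_injective N.subtype_injective]

/-- Case (a): a normal `2`-complement of `N` is a normal `2`-complement of `G`. -/
theorem exists_normal_odd (hN : N.index = 2) (hC8 : Nat.card (Subgroup.centralizer ({z} : Set G)) = 8)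
    (K : Subgroup ↥N) [hKn : K.Normal] (hodd : Odd (Nat.card K))
    (hcard : Nat.card K * 4 = Nat.card ↥N) :
    ∃ K' : Subgroup G, K'.Normal ∧ (Nat.card K').Coprime 2 ∧
      Subgroup.centralizer ({z} : Set G) ⊔ K' = ⊤ := by
  have hNn : N.Normal := Subgroup.normal_of_index_eq_two hN
  have hKpos : 0 < Nat.card K := Nat.card_pos
  have hKidx : K.index = 4 := by
    have := K.card_mul_index
    rw [← hcard] at this
    exact Nat.eq_of_mul_eq_mul_left hKpos this
  have hmemK : ∀ y : ↥N, Odd (orderOf y) → y ∈ K := by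
    intro y hy
    have h1 : y ^ 4 ∈ K := by rw [← hKidx]; exact K.pow_index_mem y
    have hcop : Nat.Coprime 4 (orderOf y) := by
      have : Nat.Coprime (2 ^ 2) (orderOf y) := Nat.Coprime.pow_left 2 (Nat.coprime_two_left.mpr hy)
      simpa using this
    obtain ⟨m, hm⟩ := exists_pow_eq_self_of_coprime hcop
    rw [← hm]
    exact K.pow_mem h1 m
  have hoddK : ∀ k ∈ K, Odd (orderOf k) := by
    intro k hk
    have h1 : orderOf (⟨k, hk⟩ : ↥K) ∣ Nat.card K := orderOf_dvd_natCard _
    rw [Subgroup.orderOf_mk] at h1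
    exact Odd.of_dvd_nat hodd h1
  refine ⟨K.map N.subtype, ⟨?_⟩, ?_, ?_⟩
  · intro n hn g
    obtain ⟨k, hk, rfl⟩ := Subgroup.mem_map.mp hn
    have hmem : g * (k : G) * g⁻¹ ∈ N := hNn.conj_mem _ k.2 g
    refine Subgroup.mem_map.mpr ⟨⟨g * (k : G) * g⁻¹, hmem⟩, ?_, rfl⟩
    apply hmemK
    rw [Subgroup.orderOf_mk, conj_orderOf, Subgroup.orderOf_coe]
    exact hoddK k hk
  · rw [Subgroup.card_map_of_injective N.subtype_injective]
    exact (Nat.coprime_two_right.mpr hodd)
  · set J := Subgroup.centralizer ({z} : Set G) ⊔ K.map N.subtype with hJ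
    have h8 : 8 ∣ Nat.card J := by
      rw [← hC8]; exact Subgroup.card_dvd_of_le le_sup_left
    have hK : Nat.card K ∣ Nat.card J := by
      rw [← Subgroup.card_map_of_injective (K := K) N.subtype_injective]
      exact Subgroup.card_dvd_of_le le_sup_right
    have hcop : Nat.Coprime 8 (Nat.card K) := by
      have : Nat.Coprime (2 ^ 3) (Nat.card K) := Nat.Coprime.pow_left 3 (Nat.coprime_two_left.mpr hodd)
      simpa using this
    have h1 : 8 * Nat.card K ∣ Nat.card J := Nat.Coprime.mul_dvd_of_dvd_of_dvd hcop h8 hK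
    have h2 : Nat.card G = 8 * Nat.card K := by
      rw [card_eq_of_index_two N hN, ← hcard]; ring
    apply Subgroup.eq_top_of_card_eq
    apply Nat.dvd_antisymm (Subgroup.card_subgroup_dvd_card J)
    rw [h2]; exact h1

/-- The four-group `C_N(z)` embeds in every normal subgroup of `G` containing `z`. -/
theorem four_dvd_card (hz : orderOf z = 2) (hzN : z ∈ N) (hH : Hyp ↥N)
    (hconj : ∀ s s' : ↥N, orderOf s = 2 → orderOf s' = 2 → IsConj s s')
    (hV4 : Nat.card (Subgroup.centralizer ({(⟨z, hzN⟩ : ↥N)} : Set ↥N)) = 4)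
    (M : Subgroup G) [M.Normal] (hzM : z ∈ M) : 4 ∣ Nat.card ↥M := by
  have hz' : orderOf (⟨z, hzN⟩ : ↥N) = 2 := by rw [Subgroup.orderOf_mk]; exact hz
  set V' := Subgroup.centralizer ({(⟨z, hzN⟩ : ↥N)} : Set ↥N) with hV'
  have hmem : ∀ x : ↥V', ((x : ↥N) : G) ∈ M := by
    intro x
    by_cases hx1 : (x : ↥N) = 1
    · rw [hx1]; exact M.one_mem
    · have hxx := hH.exp2 _ (x : ↥N) hz' (mem_cent.mp x.2)
      exact invol_mem z N hz hzN hconj M hzM x (orderOf_eq_two_of hx1 hxx)
  let f : ↥V' →* ↥M := (N.subtype.comp V'.subtype).codRestrict M hmem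
  have hf : Function.Injective f := by
    intro a b hab
    have := congrArg Subtype.val hab
    exact Subtype.ext (Subtype.ext this)
  have := Subgroup.card_dvd_of_injective f hf
  rwa [hV4] at this

/-- Counting involutions of `N` inside a normal subgroup of `G` containing `z`. -/
theorem invol_count_le (hz : orderOf z = 2) (hzN : z ∈ N) (hH : Hyp ↥N)
    (hconj : ∀ s s' : ↥N, orderOf s = 2 → orderOf s' = 2 → IsConj s s')
    (M : Subgroup G) [M.Normal] (hzM : z ∈ M) :
    Nat.card ↥N + 4 ≤ 4 * Nat.card ↥(M.subgroupOf N) := by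
  classical
  have hz' : orderOf (⟨z, hzN⟩ : ↥N) = 2 := by rw [Subgroup.orderOf_mk]; exact hz
  haveI : Fintype ↥N := Fintype.ofFinite _
  have h1 := card_Inv_mul_four hH hconj hz'
  have hsub : insert 1 (FourCent.Inv ↥N) ⊆ Finset.univ.filter (fun y : ↥N => y ∈ M.subgroupOf N) := by
    intro y hy
    rw [Finset.mem_filter]
    refine ⟨Finset.mem_univ _, ?_⟩
    rw [Finset.mem_insert] at hy
    rcases hy with rfl | hy
    · exact Subgroup.one_mem _
    · rw [Subgroup.mem_subgroupOf]
      exact invol_mem z N hz hzN hconj M hzM y (mem_Inv.mp hy)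
  have hnot : (1 : ↥N) ∉ FourCent.Inv ↥N := by
    rw [mem_Inv, orderOf_one]; omega
  have h2 := Finset.card_le_card hsub
  rw [Finset.card_insert_of_notMem hnot] at h2
  have h3 : (Finset.univ.filter (fun y : ↥N => y ∈ M.subgroupOf N)).card =
      Nat.card ↥(M.subgroupOf N) := by
    rw [Nat.card_eq_fintype_card, Fintype.card_subtype]
  rw [h3] at h2
  rw [Nat.card_eq_fintype_card (α := ↥N), ← h1]
  omega

include e in
theorem iso_S4 (hz : orderOf z = 2) (hN : N.index = 2) (hzN : z ∈ N) (hH : Hyp ↥N)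
    (hconj : ∀ s s' : ↥N, orderOf s = 2 → orderOf s' = 2 → IsConj s s')
    (hV4 : Nat.card (Subgroup.centralizer ({(⟨z, hzN⟩ : ↥N)} : Set ↥N)) = 4)
    (hcardN : Nat.card ↥N = 12) : Nonempty (G ≃* Equiv.Perm (Fin 4)) := by
  haveI : Fact (Nat.Prime 3) := ⟨Nat.prime_three⟩
  have hG : Nat.card G = 24 := by rw [card_eq_of_index_two N hN, hcardN]
  obtain ⟨P⟩ : Nonempty (Sylow 3 G) := inferInstance
  have h3 : 3 ∣ Nat.card (P : Subgroup G) := P.dvd_card_of_dvd_card (by rw [hG]; norm_num)
  have hidx8 : (P : Subgroup G).index ∣ 8 := by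
    have h1 := (P : Subgroup G).card_mul_index
    rw [hG] at h1
    obtain ⟨m, hm⟩ := h3
    rw [hm] at h1
    have h2 : m * (P : Subgroup G).index = 8 := by
      have : 3 * (m * (P : Subgroup G).index) = 3 * 8 := by rw [← mul_assoc, h1]
      exact Nat.eq_of_mul_eq_mul_left (by norm_num) this
    exact Dvd.intro_left m h2
  have hn3 : Nat.card (Sylow 3 G) ∣ 8 := (P.card_dvd_index).trans hidx8
  have hmod := card_sylow_modEq_one 3 G
  have hnorm := P.card_eq_index_normalizer
  have hzP : ∀ Q : Subgroup G, IsPGroup 3 Q → z ∉ Q := by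
    intro Q hQ hzQ
    obtain ⟨k, hk⟩ := (IsPGroup.iff_orderOf.mp hQ) ⟨z, hzQ⟩
    rw [Subgroup.orderOf_mk, hz] at hk
    have : Odd (3 ^ k) := Odd.pow (by decide)
    rw [← hk] at this
    exact absurd this (by decide)
  have hcases : Nat.card (Sylow 3 G) = 1 ∨ Nat.card (Sylow 3 G) = 4 := by
    have key : ∀ n : ℕ, n ∣ 8 → n ≡ 1 [MOD 3] → n = 1 ∨ n = 4 := by
      intro n hn hm
      have hle : n ≤ 8 := Nat.le_of_dvd (by norm_num) hn
      interval_cases n <;> first | omega | (exfalso; revert hn hm; decide)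
    exact key _ hn3 hmod
  rcases hcases with h1 | h4
  · exfalso
    rw [h1] at hnorm
    have htop : Subgroup.normalizer ((P : Subgroup G) : Set G) = ⊤ :=
      Subgroup.index_eq_one.mp hnorm.symm
    haveI hPn : (P : Subgroup G).Normal := Subgroup.normalizer_eq_top_iff.mp htop
    have hbot := normal_eq_bot z e N hz hN hzN hH hconj hV4 (P : Subgroup G) (hzP _ P.isPGroup')
    rw [hbot, Subgroup.card_bot] at h3
    omega
  · set H := Subgroup.normalizer ((P : Subgroup G) : Set G) with hHdef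
    have hHidx : H.index = 4 := by rw [← h4]; exact hnorm.symm
    have hHcard : Nat.card H = 6 := by
      have := H.card_mul_index
      rw [hHidx, hG] at this
      omega
    refine perm_iso_of_core_bot H 4 hHidx ?_ (by rw [hG]; rfl)
    apply normal_eq_bot z e N hz hN hzN hH hconj hV4 H.normalCore
    intro hzK
    have h1 := four_dvd_card z N hz hzN hH hconj hV4 H.normalCore hzK
    have h2 := Subgroup.card_dvd_of_le H.normalCore_le
    rw [hHcard] at h2
    have := h1.trans h2
    omega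

include e in
theorem iso_S5 (hz : orderOf z = 2) (hN : N.index = 2) (hzN : z ∈ N) (hH : Hyp ↥N)
    (hconj : ∀ s s' : ↥N, orderOf s = 2 → orderOf s' = 2 → IsConj s s')
    (hcardN : Nat.card ↥N = 60) (g : ↥N)
    (hg : ∀ x : ↥N, x * (⟨z, hzN⟩ : ↥N) = ⟨z, hzN⟩ * x ↔
      (g * x * g⁻¹) * (⟨z, hzN⟩ : ↥N) = ⟨z, hzN⟩ * (g * x * g⁻¹))
    (h3 : 3 ∣ orderOf g) : Nonempty (G ≃* Equiv.Perm (Fin 5)) := by
  have hNn : N.Normal := Subgroup.normal_of_index_eq_two hN
  have hG : Nat.card G = 120 := by rw [card_eq_of_index_two N hN, hcardN]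
  have hV4 := card_cent_N z e N hz hN hzN
  set C := Subgroup.centralizer ({z} : Set G) with hC
  have hC8 : Nat.card C = 8 := Cfsg.Agent.Helper4.D8.card_centralizer z e
  have hVg4 : Nat.card ↥(C ⊓ N) = 4 := card_inf z e N hz hN
  set H := Subgroup.normalizer ((C ⊓ N : Subgroup G) : Set G) with hHdef
  have hCH : C ≤ H := by
    intro c hc
    rw [hHdef, Subgroup.mem_normalizer_iff]
    intro x
    constructor
    · rintro ⟨hxC, hxN⟩
      exact ⟨C.mul_mem (C.mul_mem hc hxC) (C.inv_mem hc), hNn.conj_mem _ hxN c⟩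
    · rintro ⟨hxC, hxN⟩
      have e1 : x = c⁻¹ * (c * x * c⁻¹) * c⁻¹⁻¹ := by group
      rw [e1]
      exact ⟨C.mul_mem (C.mul_mem (C.inv_mem hc) hxC) (C.inv_mem (C.inv_mem hc)),
        hNn.conj_mem _ hxN c⁻¹⟩
  have hgH : (g : G) ∈ H := by
    rw [hHdef, Subgroup.mem_normalizer_iff]
    intro x
    have hNiff : x ∈ N ↔ (g : G) * x * (g : G)⁻¹ ∈ N := by
      constructor
      · intro hx; exact hNn.conj_mem _ hx _
      · intro hx
        have e1 : x = (g : G)⁻¹ * ((g : G) * x * (g : G)⁻¹) * (g : G)⁻¹⁻¹ := by group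
        rw [e1]
        exact hNn.conj_mem _ hx _
    constructor
    · rintro ⟨hxC, hxN⟩
      refine ⟨?_, hNiff.mp hxN⟩
      have h1 := (hg ⟨x, hxN⟩).mp (Subtype.ext (mem_cent.mp hxC))
      exact mem_cent.mpr (congrArg Subtype.val h1)
    · rintro ⟨hxC, hxN⟩
      have hxN' := hNiff.mpr hxN
      refine ⟨?_, hxN'⟩
      have h1 := (hg ⟨x, hxN'⟩).mpr (Subtype.ext (mem_cent.mp hxC))
      exact mem_cent.mpr (congrArg Subtype.val h1)
  have h8 : 8 ∣ Nat.card H := by
    rw [← hC8]; exact Subgroup.card_dvd_of_le hCH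
  have h3H : 3 ∣ Nat.card H := by
    have h1 : orderOf (⟨(g : G), hgH⟩ : ↥H) ∣ Nat.card H := orderOf_dvd_natCard _
    rw [Subgroup.orderOf_mk, Subgroup.orderOf_coe] at h1
    exact h3.trans h1
  have h24 : 24 ∣ Nat.card H := by
    have : Nat.Coprime 8 3 := by decide
    exact Nat.Coprime.mul_dvd_of_dvd_of_dvd this h8 h3H
  have hidx : H.index = 1 ∨ H.index = 5 := by
    have h1 := H.card_mul_index
    rw [hG] at h1
    obtain ⟨m, hm⟩ := h24
    rw [hm] at h1
    have h2 : m * H.index = 5 := by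
      have : 24 * (m * H.index) = 24 * 5 := by rw [← mul_assoc, h1]
      exact Nat.eq_of_mul_eq_mul_left (by norm_num) this
    have h5 : H.index ∣ 5 := Dvd.intro_left m h2
    exact (Nat.dvd_prime (by norm_num)).mp h5
  have hzV : z ∈ C ⊓ N := ⟨mem_cent.mpr rfl, hzN⟩
  rcases hidx with h1 | h5
  · exfalso
    have htop : H = ⊤ := Subgroup.index_eq_one.mp h1
    haveI hVn : (C ⊓ N : Subgroup G).Normal := Subgroup.normalizer_eq_top_iff.mp htop
    have hcount := invol_count_le z N hz hzN hH hconj (C ⊓ N) hzV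
    have hdvd := card_subgroupOf_dvd N (C ⊓ N)
    rw [hVg4] at hdvd
    have hle := Nat.le_of_dvd (by norm_num) hdvd
    rw [hcardN] at hcount
    omega
  · have hHcard : Nat.card H = 24 := by
      have := H.card_mul_index
      rw [h5, hG] at this
      omega
    refine perm_iso_of_core_bot H 5 h5 ?_ (by rw [hG]; rfl)
    apply normal_eq_bot z e N hz hN hzN hH hconj hV4 H.normalCore
    intro hzK
    have hcount := invol_count_le z N hz hzN hH hconj H.normalCore hzK
    have hd1 := (card_subgroupOf_dvd N H.normalCore).trans (Subgroup.card_dvd_of_le H.normalCore_le)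
    rw [hHcard] at hd1
    have hd2 := Subgroup.card_subgroup_dvd_card (H.normalCore.subgroupOf N)
    rw [hcardN] at hd2 hcount
    have hd3 : Nat.card ↥(H.normalCore.subgroupOf N) ∣ 12 := Nat.dvd_gcd hd1 hd2
    have hle := Nat.le_of_dvd (by norm_num) hd3
    omega

end Branch

end Cfsg.Agent.Helper21.D8Cent
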