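import Mathlib
import Cfsg.Agent.Lib.Helper52.FCDefs

set_option autoImplicit false

namespace Cfsg.Agent.Helper21.FC

open Subgroup Cfsg.Agent.Helper52.FC
open scoped commutatorElement

universe u

variable {G : Type u} [Group G]

/-- iterate of an invariance: `a^k x a^-k ∈ X`. -/
theorem h21_inv_pow {a : G} {X : Subgroup G} (hX : Inv a X) (k : ℕ) : ∀ x ∈ X, a ^ k * x * (a ^ k)⁻¹ ∈ X := by
  induction k with
  | zero => intro x hx; simpa using hx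
  | succ k ih =>
    intro x hx
    have h1 := hX _ (ih x hx)
    have : a ^ (k + 1) * x * (a ^ (k + 1))⁻¹ = a * (a ^ k * x * (a ^ k)⁻¹) * a⁻¹ := by
      rw [pow_succ']; group
    rw [this]; exact h1

/-- `a⁻¹ x a ∈ X` for an `a`-invariant subgroup of a finite group. -/
theorem h21_inv_inv [Finite G] {a : G} {X : Subgroup G} (hX : Inv a X) : ∀ x ∈ X, a⁻¹ * x * a ∈ X := by
  intro x hx
  have hpos : 0 < orderOf a := orderOf_pos a
  have h1 := h21_inv_pow hX (orderOf a - 1) x hx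
  have h2 : a ^ (orderOf a - 1) = a⁻¹ := by
    have : a ^ (orderOf a - 1) * a = 1 := by
      rw [← pow_succ, Nat.sub_add_cancel hpos, pow_orderOf_eq_one]
    exact eq_inv_of_mul_eq_one_left this
  rw [h2, inv_inv] at h1
  exact h1

/-- conjugation by `y⁻¹` also preserves `V`. -/
theorem h21_norm_inv [Finite G] {V : Subgroup G} (y : G) (hy : ∀ v ∈ V, y * v * y⁻¹ ∈ V) :
    ∀ v ∈ V, y⁻¹ * v * y ∈ V := by
  have hI : Inv y V := hy
  exact h21_inv_inv hI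

/-- (R1b) -/
theorem exists_central_mod [Finite G] (a : G) (V L : Subgroup G) (hLa : Inv a L) (hVa : Inv a V) (hLV : ∀ y ∈ L, ∀ v ∈ V, y * v * y⁻¹ ∈ V)
    (s : ℕ) (hs : s.Prime) (hLs : IsPGroup s L) (hnc : ∃ v ∈ V, ∃ y ∈ L, v * y ≠ y * v) :
    ∃ A₀ : Subgroup G, A₀ ≤ L ∧ Inv a A₀ ∧ NormBy L A₀ ∧ (∀ x ∈ A₀, ∀ y ∈ L, ∀ v ∈ V, (x * y * x⁻¹ * y⁻¹) * v = v * (x * y * x⁻¹ * y⁻¹)) ∧
      (∀ x ∈ A₀, ∀ x' ∈ A₀, ∀ v ∈ V, (x * x' * x⁻¹ * x'⁻¹) * v = v * (x * x' * x⁻¹ * x'⁻¹)) ∧ ∃ x ∈ A₀, ∃ v ∈ V, x * v ≠ v * x := by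
  haveI : Fact s.Prime := ⟨hs⟩
  -- K = C_L(V)
  set K : Subgroup G := L ⊓ Subgroup.centralizer (V : Set G) with hK
  have hKmem : ∀ k : G, k ∈ K ↔ k ∈ L ∧ ∀ v ∈ V, v * k = k * v := by
    intro k
    rw [hK, Subgroup.mem_inf, Subgroup.mem_centralizer_iff]
    rfl
  -- K is normalized by L
  have hKn : ∀ y ∈ L, ∀ k ∈ K, y * k * y⁻¹ ∈ K := by
    intro y hy k hk
    rw [hKmem] at hk ⊢
    refine ⟨L.mul_mem (L.mul_mem hy hk.1) (L.inv_mem hy), ?_⟩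
    intro v hv
    have hv' : y⁻¹ * v * y ∈ V := h21_norm_inv y (hLV y hy) v hv
    have h1 := hk.2 _ hv'
    -- v * (y k y⁻¹) = y (y⁻¹ v y k) y⁻¹ = y (k y⁻¹ v y) y⁻¹ = y k y⁻¹ v
    calc v * (y * k * y⁻¹) = y * ((y⁻¹ * v * y) * k) * y⁻¹ := by group
      _ = y * (k * (y⁻¹ * v * y)) * y⁻¹ := by rw [h1]
      _ = y * k * y⁻¹ * v := by group
  -- K is a-invariant
  have hKa : ∀ k ∈ K, a * k * a⁻¹ ∈ K := by
    intro k hk
    rw [hKmem] at hk ⊢
    refine ⟨hLa k hk.1, ?_⟩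
    intro v hv
    have hv' : a⁻¹ * v * a ∈ V := h21_inv_inv hVa v hv
    have h1 := hk.2 _ hv'
    calc v * (a * k * a⁻¹) = a * ((a⁻¹ * v * a) * k) * a⁻¹ := by group
      _ = a * (k * (a⁻¹ * v * a)) * a⁻¹ := by rw [h1]
      _ = a * k * a⁻¹ * v := by group
  -- the subgroup A₀
  let A₀ : Subgroup G :=
    { carrier := {x | x ∈ L ∧ ∀ y ∈ L, x * y * x⁻¹ * y⁻¹ ∈ K}
      one_mem' := ⟨L.one_mem, fun y _ => by simpa using K.one_mem⟩
      mul_mem' := by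
        rintro x x' ⟨hx, hxc⟩ ⟨hx', hxc'⟩
        refine ⟨L.mul_mem hx hx', fun y hy => ?_⟩
        have h1 := hKn x hx _ (hxc' y hy)
        have h2 := hxc y hy
        have : x * x' * y * (x * x')⁻¹ * y⁻¹ = (x * (x' * y * x'⁻¹ * y⁻¹) * x⁻¹) * (x * y * x⁻¹ * y⁻¹) := by
          group
        rw [this]
        exact K.mul_mem h1 h2
      inv_mem' := by
        rintro x ⟨hx, hxc⟩
        refine ⟨L.inv_mem hx, fun y hy => ?_⟩
        have h2 := K.inv_mem (hxc y hy)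
        have h3 := hKn x⁻¹ (L.inv_mem hx) _ h2
        have : x⁻¹ * y * x⁻¹⁻¹ * y⁻¹ = x⁻¹ * (x * y * x⁻¹ * y⁻¹)⁻¹ * x⁻¹⁻¹ := by group
        rw [this]
        exact h3 }
  have hA₀mem : ∀ x : G, x ∈ A₀ ↔ x ∈ L ∧ ∀ y ∈ L, x * y * x⁻¹ * y⁻¹ ∈ K := fun x => Iff.rfl
  refine ⟨A₀, fun x hx => hx.1, ?_, ?_, ?_, ?_, ?_⟩
  · -- Inv a A₀
    intro x hx
    rw [hA₀mem] at hx ⊢
    refine ⟨hLa x hx.1, fun y hy => ?_⟩
    have hy' : a⁻¹ * y * a ∈ L := h21_inv_inv hLa y hy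
    have h1 := hKa _ (hx.2 _ hy')
    have : a * x * a⁻¹ * y * (a * x * a⁻¹)⁻¹ * y⁻¹ = a * (x * (a⁻¹ * y * a) * x⁻¹ * (a⁻¹ * y * a)⁻¹) * a⁻¹ := by
      group
    rw [this]
    exact h1
  · -- NormBy L A₀
    intro y hy x hx
    rw [hA₀mem] at hx ⊢
    refine ⟨L.mul_mem (L.mul_mem hy hx.1) (L.inv_mem hy), fun z hz => ?_⟩
    have hz' : y⁻¹ * z * y ∈ L := L.mul_mem (L.mul_mem (L.inv_mem hy) hz) hy
    have h1 := hKn y hy _ (hx.2 _ hz')
    have : y * x * y⁻¹ * z * (y * x * y⁻¹)⁻¹ * z⁻¹ = y * (x * (y⁻¹ * z * y) * x⁻¹ * (y⁻¹ * z * y)⁻¹) * y⁻¹ := by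
      group
    rw [this]
    exact h1
  · intro x hx y hy v hv
    have h1 := ((hKmem _).1 (hx.2 y hy)).2 v hv
    exact h1.symm
  · intro x hx x' hx' v hv
    have h1 := ((hKmem _).1 (hx.2 x' hx'.1)).2 v hv
    exact h1.symm
  · -- A₀ ⊄ K via lower central series of L
    have hnil : Group.IsNilpotent L := IsPGroup.isNilpotent hLs
    obtain ⟨n, hn⟩ := (Subgroup.isNilpotent_iff_lowerCentralSeries L).mp hnil
    have hex : ∃ n : ℕ, L.lowerCentralSeries n ≤ K := ⟨n, by rw [hn]; exact bot_le⟩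
    classical
    set m := Nat.find hex with hm
    have hmP : L.lowerCentralSeries m ≤ K := Nat.find_spec hex
    have hm0 : m ≠ 0 := by
      intro h0
      rw [h0, Subgroup.lowerCentralSeries_zero] at hmP
      obtain ⟨v, hv, y, hy, hvy⟩ := hnc
      exact hvy (((hKmem y).1 (hmP hy)).2 v hv)
    obtain ⟨i, hi⟩ := Nat.exists_eq_succ_of_ne_zero hm0
    have hnot : ¬ L.lowerCentralSeries i ≤ K := by
      apply Nat.find_min hex
      rw [← hm, hi]; exact Nat.lt_succ_self i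
    rw [SetLike.not_le_iff_exists] at hnot
    obtain ⟨x, hx, hxK⟩ := hnot
    have hxL : x ∈ L := by
      have := Subgroup.lowerCentralSeries_antitone L (Nat.zero_le i)
      rw [Subgroup.lowerCentralSeries_zero] at this
      exact this hx
    have hxA : x ∈ A₀ := by
      rw [hA₀mem]
      refine ⟨hxL, fun y hy => ?_⟩
      apply hmP
      rw [hi, Subgroup.lowerCentralSeries_succ]
      have := Subgroup.commutator_mem_commutator hx hy
      rw [commutatorElement_def] at this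
      exact this
    refine ⟨x, hxA, ?_⟩
    by_contra hcon
    push Not at hcon
    apply hxK
    rw [hKmem]
    exact ⟨hxL, fun v hv => (hcon v hv).symm⟩

end Cfsg.Agent.Helper21.FC
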