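import Mathlib
import Cfsg.Agent.Lib.Helper52.FCDefs
import Cfsg.Agent.Lib.Helper52.Coprime
import Cfsg.Agent.S1910
import Cfsg.Agent.Lib.Helper21.FCR1b

set_option autoImplicit false

namespace Cfsg.Agent.Helper21.FC

open Subgroup Cfsg.Agent.Helper52.FC
open scoped commutatorElement

universe u

variable {G : Type u} [Group G]

theorem h21_le_normalizer_of_normBy {H V : Subgroup G} (hn : NormBy H V) :
    H ≤ normalizer (V : Set G) := by
  intro g hg
  rw [Subgroup.mem_normalizer_iff]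
  intro x
  constructor
  · intro hx; exact hn g hg x hx
  · intro hx
    have := hn g⁻¹ (H.inv_mem hg) _ hx
    have h2 : g⁻¹ * (g * x * g⁻¹) * g⁻¹⁻¹ = x := by group
    rw [h2] at this
    exact this

theorem h21_zpowers_le_normalizer [Finite G] {a : G} {V : Subgroup G} (hI : Inv a V) :
    zpowers a ≤ normalizer (V : Set G) := by
  rw [Subgroup.zpowers_le, Subgroup.mem_normalizer_iff]
  intro x
  constructor
  · intro hx; exact hI x hx
  · intro hx
    have := h21_inv_inv hI _ hx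
    have h2 : a⁻¹ * (a * x * a⁻¹) * a = x := by group
    rw [h2] at this
    exact this

theorem h21_normBy_of_le_normalizer {H V : Subgroup G} (h : H ≤ normalizer (V : Set G)) : NormBy H V := by
  intro g hg x hx
  have := h hg
  rw [Subgroup.mem_normalizer_iff] at this
  exact (this x).1 hx

/-- the decomposition step of (R1a). -/
theorem h21_decomp [Finite G] {p : ℕ} {a : G} {H : Subgroup G} (mx : MCX p G a H) (V : Subgroup G)
    (hV : MinNormal a H V) (hVab : Ab V)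
    (L : Subgroup G) (l₀ : G) (hl₀ : l₀ ∈ L) (hL : L = Lh a l₀) (hLH : L ≤ H) (hVL : V ⊔ L = H) (hVL' : V ⊓ L = ⊥)
    (hcop : (Nat.card V).Coprime (Nat.card L)) (n : G) (hn : n ∈ V) :
    ∃ w ∈ V, ∃ u ∈ V, n = w * u ∧ u * a = a * u ∧ w * (l₀⁻¹ * a * l₀) = (l₀⁻¹ * a * l₀) * w := by
  have hp : p.Prime := mx.mc.hp
  have hyp := mx.mc.hyp
  set P : Subgroup G := zpowers a with hP
  have haP : a ∈ P := Subgroup.mem_zpowers a
  have hcardP : Nat.card P ∣ p := by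
    rw [hP, Nat.card_zpowers]
    exact orderOf_dvd_of_pow_eq_one hyp.pow
  have hVH : V ≤ H := hV.le
  have hVcardH : Nat.card V ∣ Nat.card H := Subgroup.card_dvd_of_le hVH
  have hLcardH : Nat.card L ∣ Nat.card H := Subgroup.card_dvd_of_le hLH
  have hcopVP : (Nat.card V).Coprime (Nat.card P) :=
    Nat.Coprime.coprime_dvd_left hVcardH (Nat.Coprime.coprime_dvd_right hcardP hyp.cop)
  have hcopLP : (Nat.card L).Coprime (Nat.card P) :=
    Nat.Coprime.coprime_dvd_left hLcardH (Nat.Coprime.coprime_dvd_right hcardP hyp.cop)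
  have hLinv : Inv a L := by rw [hL]; exact mx.Lh_inv l₀
  have hl₀H : l₀ ∈ H := hLH hl₀
  have hnH : n ∈ H := hVH hn
  set h : G := l₀ * n with hh
  have hhH : h ∈ H := H.mul_mem hl₀H hnH
  set X : Subgroup G := Lh a h with hX
  have hXinv : Inv a X := mx.Lh_inv h
  have hXH : X ≤ H := mx.Lh_le H hyp.inv h hhH
  have hXne : X ≠ H := mx.no_gen h hhH
  -- normalizer facts
  have hHV : H ≤ normalizer (V : Set G) := h21_le_normalizer_of_normBy hV.norm
  have hPV : P ≤ normalizer (V : Set G) := h21_zpowers_le_normalizer hV.inv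
  have hPL : P ≤ normalizer (L : Set G) := h21_zpowers_le_normalizer hLinv
  have hPX : P ≤ normalizer (X : Set G) := h21_zpowers_le_normalizer hXinv
  -- a^i n a^-i ∈ V
  have hVpow : ∀ i : ℕ, a ^ i * n * (a ^ i)⁻¹ ∈ V := fun i => h21_inv_pow hV.inv i n hn
  -- step 2: V ⊔ X = H
  have hLVX : L ≤ V ⊔ X := by
    rw [hL, Lh, Subgroup.closure_le]
    rintro c ⟨i, rfl⟩
    have hgen : h⁻¹ * (a ^ i * h * (a ^ i)⁻¹) ∈ X := by
      rw [hX, Lh]
      exact Subgroup.subset_closure ⟨i, rfl⟩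
    have : l₀⁻¹ * (a ^ i * l₀ * (a ^ i)⁻¹) =
        n * (h⁻¹ * (a ^ i * h * (a ^ i)⁻¹)) * (a ^ i * n * (a ^ i)⁻¹)⁻¹ := by
      rw [hh]; group
    rw [this]
    exact Subgroup.mul_mem _ (Subgroup.mul_mem _ (Subgroup.mem_sup_left hn) (Subgroup.mem_sup_right hgen))
      (Subgroup.inv_mem _ (Subgroup.mem_sup_left (hVpow i)))
  have hVX : V ⊔ X = H := by
    apply le_antisymm
    · exact sup_le hVH hXH
    · rw [← hVL]; exact sup_le le_sup_left hLVX
  -- step 3: V ⊓ X = ⊥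
  have hVX' : V ⊓ X = ⊥ := by
    by_contra hne
    have hWn : NormBy H (V ⊓ X) := by
      apply h21_normBy_of_le_normalizer
      rw [← hVX]
      apply sup_le
      · -- V normalizes V ⊓ X (V abelian)
        intro v hv
        rw [Subgroup.mem_normalizer_iff]
        intro x
        have hiff : ∀ y ∈ V, v * y * v⁻¹ = y := by
          intro y hy
          rw [hVab v hv y hy]; group
        constructor
        · intro hx
          rw [hiff x hx.1]; exact hx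
        · intro hx
          have hxV : x ∈ V := by
            have := V.mul_mem (V.mul_mem (V.inv_mem hv) hx.1) hv
            have h2 : v⁻¹ * (v * x * v⁻¹) * v = x := by group
            rw [h2] at this; exact this
          rw [hiff x hxV] at hx; exact hx
      · intro x hx
        have h1 := hHV (hXH hx)
        rw [Subgroup.mem_normalizer_iff] at h1 ⊢
        intro y
        constructor
        · intro hy
          exact ⟨(h1 y).1 hy.1, X.mul_mem (X.mul_mem hx hy.2) (X.inv_mem hx)⟩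
        · intro hy
          refine ⟨(h1 y).2 hy.1, ?_⟩
          have := X.mul_mem (X.mul_mem (X.inv_mem hx) hy.2) hx
          have h2 : x⁻¹ * (x * y * x⁻¹) * x = y := by group
          rw [h2] at this; exact this
    have hWi : Inv a (V ⊓ X) := fun x hx => ⟨hV.inv x hx.1, hXinv x hx.2⟩
    have hWV := hV.min (V ⊓ X) inf_le_left hWn hWi hne
    have hVleX : V ≤ X := by rw [← hWV]; exact inf_le_right
    apply hXne
    have h5 : V ⊔ X = X := sup_eq_right.mpr hVleX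
    rw [← hVX, h5]
  -- cards
  have hXnorm : X ≤ normalizer (V : Set G) := hXH.trans hHV
  have hLnorm : L ≤ normalizer (V : Set G) := hLH.trans hHV
  have hc1 := Cfsg.Agent.S1910.card_sup_eq_mul V X hXnorm hVX'
  have hc2 := Cfsg.Agent.S1910.card_sup_eq_mul V L hLnorm hVL'
  have hXL : Nat.card X = Nat.card L := by
    rw [hVX] at hc1; rw [hVL] at hc2
    have hVpos : 0 < Nat.card V := Nat.card_pos
    have : Nat.card V * Nat.card X = Nat.card V * Nat.card L := by rw [← hc1, ← hc2]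
    exact Nat.eq_of_mul_eq_mul_left hVpos this
  have hLP' : L ⊓ P = ⊥ := Subgroup.inf_eq_bot_of_coprime hcopLP
  have hXP' : X ⊓ P = ⊥ := Subgroup.inf_eq_bot_of_coprime (by rw [hXL]; exact hcopLP)
  have hc3 := Cfsg.Agent.S1910.card_sup_eq_mul L P hPL hLP'
  have hc4 := Cfsg.Agent.S1910.card_sup_eq_mul X P hPX hXP'
  set Y₀ : Subgroup G := L ⊔ P with hY₀
  set Yn : Subgroup G := X ⊔ P with hYn
  have hcardY : Nat.card Yn = Nat.card Y₀ := by rw [hc4, hc3, hXL]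
  have hY₀norm : Y₀ ≤ normalizer (V : Set G) := sup_le hLnorm hPV
  have hcopVY : (Nat.card V).Coprime (Nat.card Y₀) := by
    rw [hc3]; exact Nat.Coprime.mul_right hcop hcopVP
  have hVsolv : Group.IsSolvable V := by
    apply isSolvable_of_comm
    intro x y
    exact Subtype.ext (hVab x x.2 y y.2)
  have hYnle : Yn ≤ V ⊔ Y₀ := by
    apply sup_le
    · calc X ≤ H := hXH
        _ = V ⊔ L := hVL.symm
        _ ≤ V ⊔ Y₀ := sup_le_sup_left le_sup_left V
    · exact le_sup_right.trans le_sup_right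
  obtain ⟨u₀, hu₀V, hconj⟩ := Cfsg.Agent.Helper52.sz_conj_internal V Y₀ Yn hY₀norm (Or.inl hVsolv) hcopVY hcardY hYnle
  have hmemYn : ∀ g : G, g ∈ Yn → u₀⁻¹ * g * u₀ ∈ Y₀ := by
    intro g hg
    rw [hconj, Subgroup.mem_map] at hg
    obtain ⟨y, hy, rfl⟩ := hg
    have : (MulAut.conj u₀).toMonoidHom y = u₀ * y * u₀⁻¹ := by simp [MulAut.conj_apply]
    rw [this]
    have h2 : u₀⁻¹ * (u₀ * y * u₀⁻¹) * u₀ = y := by group
    rw [h2]; exact hy
  have hVY₀ : V ⊓ Y₀ = ⊥ := Subgroup.inf_eq_bot_of_coprime hcopVY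
  have haY₀ : a ∈ Y₀ := Subgroup.mem_sup_right haP
  have haYn : a ∈ Yn := Subgroup.mem_sup_right haP
  -- step 6: u₀ commutes with a
  have hu₀a : u₀⁻¹ * a * u₀ = a := by
    have h1 : u₀⁻¹ * a * u₀ * a⁻¹ ∈ Y₀ := Y₀.mul_mem (hmemYn a haYn) (Y₀.inv_mem haY₀)
    have h2 : u₀⁻¹ * a * u₀ * a⁻¹ ∈ V := by
      have := V.mul_mem (V.inv_mem hu₀V) (hV.inv u₀ hu₀V)
      have h3 : u₀⁻¹ * (a * u₀ * a⁻¹) = u₀⁻¹ * a * u₀ * a⁻¹ := by group
      rw [h3] at this; exact this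
    have h3 : u₀⁻¹ * a * u₀ * a⁻¹ ∈ V ⊓ Y₀ := ⟨h2, h1⟩
    rw [hVY₀, Subgroup.mem_bot] at h3
    exact mul_inv_eq_one.mp h3
  -- step 7
  set b : G := l₀⁻¹ * a * l₀ with hb
  have hbY₀ : b ∈ Y₀ := by
    have hl₀Y : l₀ ∈ Y₀ := Subgroup.mem_sup_left hl₀
    exact Y₀.mul_mem (Y₀.mul_mem (Y₀.inv_mem hl₀Y) haY₀) hl₀Y
  have hhaYn : h⁻¹ * a * h ∈ Yn := by
    have hgen : h⁻¹ * (a ^ 1 * h * (a ^ 1)⁻¹) ∈ X := by
      rw [hX, Lh]
      exact Subgroup.subset_closure ⟨1, rfl⟩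
    rw [pow_one] at hgen
    have : h⁻¹ * a * h = (h⁻¹ * (a * h * a⁻¹)) * a := by group
    rw [this]
    exact Yn.mul_mem (Subgroup.mem_sup_left hgen) haYn
  set w : G := n * u₀ with hw
  have hwV : w ∈ V := V.mul_mem hn hu₀V
  have hbV : ∀ v ∈ V, b * v * b⁻¹ ∈ V := by
    intro v hv
    have h1 : l₀ * v * l₀⁻¹ ∈ V := hV.norm l₀ hl₀H v hv
    have h2 : a * (l₀ * v * l₀⁻¹) * a⁻¹ ∈ V := hV.inv _ h1
    have h3 := hV.norm l₀⁻¹ (H.inv_mem hl₀H) _ h2
    have : b * v * b⁻¹ = l₀⁻¹ * (a * (l₀ * v * l₀⁻¹) * a⁻¹) * l₀⁻¹⁻¹ := by rw [hb]; group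
    rw [this]; exact h3
  have hwb : w⁻¹ * b * w = b := by
    have h0 := hmemYn _ hhaYn
    have h0' : u₀⁻¹ * (h⁻¹ * a * h) * u₀ = w⁻¹ * b * w := by rw [hw, hb, hh]; group
    rw [h0'] at h0
    have h1 : w⁻¹ * b * w * b⁻¹ ∈ Y₀ := Y₀.mul_mem h0 (Y₀.inv_mem hbY₀)
    have h2 : w⁻¹ * b * w * b⁻¹ ∈ V := by
      have := V.mul_mem (V.inv_mem hwV) (hbV w hwV)
      have h3 : w⁻¹ * (b * w * b⁻¹) = w⁻¹ * b * w * b⁻¹ := by group
      rw [h3] at this; exact this
    have h3 : w⁻¹ * b * w * b⁻¹ ∈ V ⊓ Y₀ := ⟨h2, h1⟩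
    rw [hVY₀, Subgroup.mem_bot] at h3
    exact mul_inv_eq_one.mp h3
  refine ⟨w, hwV, u₀⁻¹, V.inv_mem hu₀V, ?_, ?_, ?_⟩
  · rw [hw]; group
  · -- u₀⁻¹ a = a u₀⁻¹
    calc u₀⁻¹ * a = (u₀⁻¹ * a * u₀) * u₀⁻¹ := by group
      _ = a * u₀⁻¹ := by rw [hu₀a]
  · calc w * b = w * (w⁻¹ * b * w) := by rw [hwb]
      _ = b * w := by group

/-- (R1a) -/
theorem card_le_sq [Finite G] {p : ℕ} {a : G} {H : Subgroup G} (mx : MCX p G a H) (V : Subgroup G) (hV : MinNormal a H V) (hVab : Ab V)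
    (L : Subgroup G) (l₀ : G) (hl₀ : l₀ ∈ L) (hL : L = Lh a l₀) (hLH : L ≤ H) (hVL : V ⊔ L = H) (hVL' : V ⊓ L = ⊥)
    (hcop : (Nat.card V).Coprime (Nat.card L)) : Nat.card V ≤ Nat.card (V ⊓ Fix a : Subgroup G) ^ 2 := by
  classical
  have hdec := h21_decomp mx V hV hVab L l₀ hl₀ hL hLH hVL hVL' hcop
  have hl₀H : l₀ ∈ H := hLH hl₀
  -- choose the decomposition
  choose! w hwV u huV hnwu hua hwb using hdec
  -- map V → (V ⊓ Fix a) × (V ⊓ Fix a), n ↦ (l₀ w l₀⁻¹, u)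
  have hmemFix : ∀ x : G, x ∈ Fix a ↔ x * a = a * x := by
    intro x
    unfold Cfsg.Agent.Helper52.FC.Fix
    rw [Subgroup.mem_centralizer_iff]
    constructor
    · intro h; exact (h a (Set.mem_singleton a)).symm
    · intro h y hy
      rw [Set.mem_singleton_iff] at hy
      subst hy
      exact h.symm
  have h1 : ∀ n : V, l₀ * w n * l₀⁻¹ ∈ (V ⊓ Fix a : Subgroup G) := by
    intro n
    refine ⟨hV.norm l₀ hl₀H _ (hwV n n.2), (hmemFix _).2 ?_⟩
    have := hwb n n.2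
    -- w (l₀⁻¹ a l₀) = (l₀⁻¹ a l₀) w
    calc l₀ * w n * l₀⁻¹ * a = l₀ * (w n * (l₀⁻¹ * a * l₀)) * l₀⁻¹ := by group
      _ = l₀ * ((l₀⁻¹ * a * l₀) * w n) * l₀⁻¹ := by rw [this]
      _ = a * (l₀ * w n * l₀⁻¹) := by group
  have h2 : ∀ n : V, u n ∈ (V ⊓ Fix a : Subgroup G) := by
    intro n
    exact ⟨huV n n.2, (hmemFix _).2 (hua n n.2)⟩
  let f : V → (V ⊓ Fix a : Subgroup G) × (V ⊓ Fix a : Subgroup G) :=
    fun n => (⟨l₀ * w n * l₀⁻¹, h1 n⟩, ⟨u n, h2 n⟩)
  have hf : Function.Injective f := by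
    intro n m hnm
    have e1 : l₀ * w n * l₀⁻¹ = l₀ * w m * l₀⁻¹ := congrArg (fun z => (z.1 : G)) hnm
    have e2 : u n = u m := congrArg (fun z => (z.2 : G)) hnm
    have e1' : w n = w m := by
      have := mul_left_cancel (mul_right_cancel e1)
      exact this
    apply Subtype.ext
    rw [hnwu n n.2, hnwu m m.2, e1', e2]
  have := Nat.card_le_card_of_injective f hf
  rw [Nat.card_prod, ← pow_two] at this
  exact this

end Cfsg.Agent.Helper21.FC
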