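import Cfsg.Agent.Lib.Helper21.Components

/-!
# The layer as a central product of the components (helper21)

* `mem_sup_of_le_centralizer` : if `B ≤ C(A)` then elements of `A ⊔ B` are products `a * b`.
* `zOf L` : `Z(L)` as a subgroup of `G`, `mem_zOf`.
* `component_le_layer`, `layer_le_centralizer_of_component...`
* `center_layer_eq` : `Z(E(G)) = ⨆ Z(L)` over the components (finite `G`).
-/

set_option autoImplicit false

namespace Cfsg.Agent.Helper21

open Subgroup
open scoped commutatorElement

variable {G : Type*} [Group G]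

/-- If `A` and `B` commute elementwise, every element of `A ⊔ B` is a product `a * b`. -/
theorem mem_sup_of_le_centralizer {A B : Subgroup G} (h : B ≤ centralizer (A : Set G)) {x : G}
    (hx : x ∈ A ⊔ B) : ∃ a ∈ A, ∃ b ∈ B, x = a * b := by
  rw [sup_eq_closure] at hx
  induction hx using closure_induction with
  | mem x hx =>
    rcases hx with hx | hx
    · exact ⟨x, hx, 1, B.one_mem, by simp⟩
    · exact ⟨1, A.one_mem, x, hx, by simp⟩
  | one => exact ⟨1, A.one_mem, 1, B.one_mem, by simp⟩
  | mul x y _ _ ihx ihy =>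
    obtain ⟨a1, ha1, b1, hb1, rfl⟩ := ihx
    obtain ⟨a2, ha2, b2, hb2, rfl⟩ := ihy
    refine ⟨a1 * a2, A.mul_mem ha1 ha2, b1 * b2, B.mul_mem hb1 hb2, ?_⟩
    have hc : a2 * b1 = b1 * a2 := h hb1 a2 ha2
    calc a1 * b1 * (a2 * b2) = a1 * (b1 * a2) * b2 := by group
      _ = a1 * (a2 * b1) * b2 := by rw [hc]
      _ = a1 * a2 * (b1 * b2) := by group
  | inv x _ ih =>
    obtain ⟨a, ha, b, hb, rfl⟩ := ih
    refine ⟨a⁻¹, A.inv_mem ha, b⁻¹, B.inv_mem hb, ?_⟩
    have hc : a⁻¹ * b⁻¹ = b⁻¹ * a⁻¹ := h (B.inv_mem hb) a⁻¹ (A.inv_mem ha)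
    rw [mul_inv_rev, hc]

/-- `Z(L)` viewed in `G`. -/
def zOf (L : Subgroup G) : Subgroup G := (center ↥L).map L.subtype

theorem mem_zOf {L : Subgroup G} {x : G} :
    x ∈ zOf L ↔ x ∈ L ∧ ∀ y ∈ L, y * x = x * y := by
  unfold zOf
  constructor
  · rintro ⟨⟨x, hxL⟩, hx, rfl⟩
    refine ⟨hxL, fun y hy => ?_⟩
    have := Subgroup.mem_center_iff.1 hx ⟨y, hy⟩
    exact congrArg Subtype.val this
  · rintro ⟨hxL, hx⟩
    refine ⟨⟨x, hxL⟩, ?_, rfl⟩
    show (⟨x, hxL⟩ : L) ∈ center ↥L
    rw [Subgroup.mem_center_iff]
    rintro ⟨y, hy⟩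
    exact Subtype.ext (hx y hy)

theorem zOf_le (L : Subgroup G) : zOf L ≤ L := fun _ hx => (mem_zOf.1 hx).1

theorem component_le_layer {L : Subgroup G} (hL : IsComponent L) : L ≤ layer G :=
  le_sSup hL

/-- two distinct components commute elementwise -/
theorem component_commute_of_ne {L₁ L₂ : Subgroup G} (h₁ : IsComponent L₁)
    (h₂ : IsComponent L₂) (hne : L₁ ≠ L₂) {x y : G} (hx : x ∈ L₁) (hy : y ∈ L₂) :
    x * y = y * x := by
  have h := component_commutator_eq_bot_of_ne L₁ L₂ h₁ h₂ hne
  rw [Subgroup.commutator_eq_bot_iff_le_centralizer] at h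
  exact (h hx y hy).symm

/-- Key induction: in a join of finitely many components, an element centralizing all of them
lies in the join of their centres. -/
theorem mem_iSup_zOf_of_finite (T : Set (Subgroup G)) (hT : T.Finite)
    (hcomp : ∀ L ∈ T, IsComponent L) :
    ∀ z ∈ sSup T, (∀ L ∈ T, ∀ y ∈ L, y * z = z * y) → z ∈ ⨆ L ∈ T, zOf L := by
  induction T, hT using Set.Finite.induction_on with
  | empty =>
    intro z hz _
    rw [sSup_empty, Subgroup.mem_bot] at hz
    rw [hz]; exact one_mem _
  | insert _ _ ih =>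
    rename_i L T' hLT' hfin
    intro z hz hcz
    rw [sSup_insert] at hz
    have hcL : IsComponent L := hcomp L (Set.mem_insert _ _)
    have hcT' : ∀ L' ∈ T', IsComponent L' := fun L' h => hcomp L' (Set.mem_insert_of_mem _ h)
    have hcent : sSup T' ≤ centralizer (L : Set G) := by
      apply sSup_le
      intro L' hL' y hy x hx
      have hne : L ≠ L' := fun h => hLT' (h ▸ hL')
      exact component_commute_of_ne hcL (hcT' L' hL') hne hx hy
    obtain ⟨l, hl, e, he, rfl⟩ := mem_sup_of_le_centralizer hcent hz
    -- l is central in L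
    have hlz : l ∈ zOf L := by
      rw [mem_zOf]
      refine ⟨hl, fun y hy => ?_⟩
      have h1 := hcz L (Set.mem_insert _ _) y hy
      have h2 : y * e = e * y := hcent he y hy
      have h3 : y * l * e = l * y * e := by
        calc y * l * e = y * (l * e) := by group
          _ = l * e * y := h1
          _ = l * (e * y) := by group
          _ = l * (y * e) := by rw [h2]
          _ = l * y * e := by group
      exact mul_right_cancel h3
    have hez : e ∈ ⨆ L' ∈ T', zOf L' := by
      apply ih hcT' e he
      intro L' hL' y hy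
      have hne : L ≠ L' := fun h => hLT' (h ▸ hL')
      have h1 := hcz L' (Set.mem_insert_of_mem _ hL') y hy
      have h2 : l * y = y * l := component_commute_of_ne hcL (hcT' L' hL') hne hl hy
      have h3 : l * (y * e) = l * (e * y) := by
        calc l * (y * e) = (l * y) * e := by group
          _ = (y * l) * e := by rw [h2]
          _ = y * (l * e) := by group
          _ = l * e * y := h1
          _ = l * (e * y) := by group
      exact mul_left_cancel h3
    rw [iSup_insert]
    exact mul_mem (mem_sup_left hlz) (mem_sup_right hez)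

/-- `Z(L) ≤ Z(E(G))` for a component `L`. -/
theorem zOf_component_le_zOf_layer {L : Subgroup G} (hL : IsComponent L) :
    zOf L ≤ zOf (layer G) := by
  intro x hx
  rw [mem_zOf] at hx ⊢
  refine ⟨component_le_layer hL hx.1, ?_⟩
  have : layer G ≤ centralizer ({x} : Set G) := by
    apply sSup_le
    intro L' hL' y hy
    rw [Subgroup.mem_centralizer_singleton_iff]
    by_cases h : L = L'
    · subst h
      exact hx.2 y hy
    · exact (component_commute_of_ne hL hL' h hx.1 hy).symm
  intro y hy
  have := this hy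
  rw [Subgroup.mem_centralizer_singleton_iff] at this
  exact this

/-- `Z(E(G))` is the join of the centres of the components. -/
theorem zOf_layer_eq [Finite G] :
    zOf (layer G) = ⨆ L ∈ {K : Subgroup G | IsComponent K}, zOf L := by
  apply le_antisymm
  · intro z hz
    rw [mem_zOf] at hz
    apply mem_iSup_zOf_of_finite {K : Subgroup G | IsComponent K} (Set.toFinite _)
      (fun L hL => hL) z hz.1
    intro L hL y hy
    exact hz.2 y (component_le_layer hL hy)
  · apply iSup₂_le
    intro L hL
    exact zOf_component_le_zOf_layer hL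

end Cfsg.Agent.Helper21
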