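import Mathlib

/-!
# M11CHR: the arithmetic of the character degrees of a simple group of order 7920

Pure arithmetic over an abstract finite index type `ι` with a degree function `deg : ι → ℕ`.
`arith_eleven`: the consequences of the degree equation for the prime 11 (two exceptional characters).
`arith_five`: the consequences of the (rational) degree equation for the prime 5; the degrees are forced.
`count_of_equiv`: the final count.
-/

set_option autoImplicit false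

namespace Cfsg.Agent.Helper21.M11CHR

/-- peeling off one term of a small sum of squares -/
theorem peel' {ι : Type*} [DecidableEq ι] (s : Finset ι) (a : ι → ℤ) (n : ℕ) (hn : n < 3)
    (h : ∑ i ∈ s, (a i) ^ 2 = n + 1) :
    ∃ j ∈ s, (a j = 1 ∨ a j = -1) ∧ ∑ i ∈ s.erase j, (a i) ^ 2 = n := by
  have hex : ∃ j ∈ s, a j ≠ 0 := by
    by_contra hno
    push Not at hno
    rw [Finset.sum_eq_zero (fun i hi => by rw [hno i hi]; ring)] at h
    omega
  obtain ⟨j, hj, hj0⟩ := hex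
  have hsplit := Finset.add_sum_erase s (fun i => (a i) ^ 2) hj
  have hnonneg : 0 ≤ ∑ i ∈ s.erase j, (a i) ^ 2 := Finset.sum_nonneg (fun i _ => sq_nonneg _)
  have h1 : (a j) ^ 2 ≤ 3 := by
    have : (a j) ^ 2 + ∑ i ∈ s.erase j, (a i) ^ 2 = n + 1 := by rw [hsplit, h]
    have hn' : (n : ℤ) < 3 := by exact_mod_cast hn
    linarith
  have h2 : a j = 1 ∨ a j = -1 := by
    have hle : a j ≤ 1 := by nlinarith
    have hge : -1 ≤ a j := by nlinarith
    have : a j = -1 ∨ a j = 0 ∨ a j = 1 := by omega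
    rcases this with h | h | h
    · exact Or.inr h
    · exact absurd h hj0
    · exact Or.inl h
  refine ⟨j, hj, h2, ?_⟩
  have h3 : (a j) ^ 2 = 1 := by rcases h2 with h | h <;> rw [h] <;> norm_num
  have : (a j) ^ 2 + ∑ i ∈ s.erase j, (a i) ^ 2 = n + 1 := by rw [hsplit, h]
  linarith

/-- a vanishing sum of squares -/
theorem all_zero' {ι : Type*} (s : Finset ι) (a : ι → ℤ) (h : ∑ i ∈ s, (a i) ^ 2 = 0) :
    ∀ i ∈ s, a i = 0 := by
  intro i hi
  have h0 := (Finset.sum_eq_zero_iff_of_nonneg (fun j _ => sq_nonneg (a j))).1 h i hi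
  exact pow_eq_zero_iff (two_ne_zero) |>.1 h0

theorem deg_of_one : ∀ n : ℕ, n ≤ 88 → n ∣ 7920 → n % 11 = 1 → n = 1 ∨ n = 12 ∨ n = 45 := by
  decide

theorem deg_of_neg_one : ∀ n : ℕ, n ≤ 88 → n ∣ 7920 → n % 11 = 10 → n = 10 := by
  decide

/-- (A11) -/
theorem arith_eleven {ι : Type*} [Fintype ι] [DecidableEq ι] (deg : ι → ℕ)
    (hdvd : ∀ i, deg i ∣ 7920) (hsq : ∑ i, (deg i) ^ 2 = 7920)
    (i0 i1 i2 i3 : ι) (h0 : deg i0 = 1) (h1 : deg i1 = 10) (h2 : deg i2 = 44) (h3 : deg i3 = 45)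
    (huniq : ∀ i, deg i = 1 → i = i0)
    (w : ℤ) (d : ℕ) (E : Finset ι) (a : ι → ℤ)
    (hE : E.card = 2) (hEd : ∀ i ∈ E, deg i = d) (hE0 : i0 ∉ E) (haE : ∀ i ∈ E, a i = 0)
    (ha0 : a i0 = 1) (ha1 : i1 ∉ E → a i1 = -1) (ha2 : i2 ∉ E → a i2 = 0) (ha3 : i3 ∉ E → a i3 = 1)
    (hmod : ∀ i, i ∉ E → (11 : ℤ) ∣ (deg i : ℤ) - a i)
    (hnorm : (2 : ℤ) * ∑ i, (a i) ^ 2 + w ^ 2 = 11)
    (hlin : ∑ i, a i * (deg i : ℤ) + (d : ℤ) * w = 0) :
    d = 16 ∧ i1 ∉ E ∧ i2 ∉ E ∧ i3 ∉ E ∧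
    ∃ j1 j2 : ι, j1 ≠ j2 ∧ j1 ≠ i1 ∧ j2 ≠ i1 ∧ j1 ∉ E ∧ j2 ∉ E ∧ deg j1 = 10 ∧ deg j2 = 10 ∧
      ∀ i, i ∉ E → i ≠ i0 → i ≠ i1 → i ≠ i3 → i ≠ j1 → i ≠ j2 → 11 ∣ deg i := by
  classical
  -- bounds
  have hle88 : ∀ i, deg i ≤ 88 := by
    intro i
    have h1 : (deg i) ^ 2 ≤ ∑ j, (deg j) ^ 2 :=
      Finset.single_le_sum (f := fun j => (deg j) ^ 2) (fun j _ => Nat.zero_le _) (Finset.mem_univ i)
    rw [hsq] at h1
    by_contra hc
    push Not at hc
    have : 89 ^ 2 ≤ (deg i) ^ 2 := Nat.pow_le_pow_left hc 2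
    omega
  -- congruence
  have hcong : (11 : ℤ) ∣ ∑ i, a i * (deg i : ℤ) - ∑ i, (a i) ^ 2 := by
    rw [← Finset.sum_sub_distrib]
    apply Finset.dvd_sum
    intro i _
    by_cases hi : i ∈ E
    · rw [haE i hi]; simp
    · have h := hmod i hi
      have e : a i * (deg i : ℤ) - (a i) ^ 2 = a i * ((deg i : ℤ) - a i) := by ring
      rw [e]; exact Dvd.dvd.mul_left h _
  -- splitting off i0
  have e0 := Finset.add_sum_erase Finset.univ (fun i => (a i) ^ 2) (Finset.mem_univ i0)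
  have g0 := Finset.add_sum_erase Finset.univ (fun i => a i * (deg i : ℤ)) (Finset.mem_univ i0)
  simp only [ha0, h0] at e0 g0
  have hnn0 : 0 ≤ ∑ i ∈ Finset.univ.erase i0, (a i) ^ 2 :=
    Finset.sum_nonneg (fun i _ => sq_nonneg _)
  -- w = ±1 and S = 5
  have hwb : -3 ≤ w ∧ w ≤ 3 := by constructor <;> nlinarith
  have hw1 : (w = 1 ∨ w = -1) ∧ ∑ i, (a i) ^ 2 = 5 := by
    obtain ⟨hw3, hw3'⟩ := hwb
    have hcases : w = -3 ∨ w = -2 ∨ w = -1 ∨ w = 0 ∨ w = 1 ∨ w = 2 ∨ w = 3 := by omega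
    have hbad : ∀ w' : ℤ, (w' = 3 ∨ w' = -3) → w = w' → False := by
      intro w' hw' hww
      have hS1 : ∑ i, (a i) ^ 2 = 1 := by
        rw [hww] at hnorm
        rcases hw' with h | h <;> rw [h] at hnorm <;> linarith
      have hz : ∑ i ∈ Finset.univ.erase i0, (a i) ^ 2 = 0 := by linarith
      have hall := all_zero' _ a hz
      have hlin0 : ∑ i ∈ Finset.univ.erase i0, a i * (deg i : ℤ) = 0 :=
        Finset.sum_eq_zero (fun i hi => by rw [hall i hi]; ring)
      rw [hww] at hlin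
      rcases hw' with h | h <;> rw [h] at hlin <;> omega
    rcases hcases with h | h | h | h | h | h | h
    · exact (hbad (-3) (Or.inr rfl) h).elim
    · rw [h] at hnorm; omega
    · refine ⟨Or.inr h, ?_⟩; rw [h] at hnorm; linarith
    · rw [h] at hnorm; omega
    · refine ⟨Or.inl h, ?_⟩; rw [h] at hnorm; linarith
    · rw [h] at hnorm; omega
    · exact (hbad 3 (Or.inl rfl) h).elim
  obtain ⟨hw, hS⟩ := hw1
  -- d * w ≡ -5 mod 11
  have hdw : (11 : ℤ) ∣ -((d : ℤ) * w) - 5 := by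
    have : ∑ i, a i * (deg i : ℤ) - ∑ i, (a i) ^ 2 = -((d : ℤ) * w) - 5 := by
      rw [hS]; linarith
    rw [← this]; exact hcong
  -- the three known characters are not exceptional
  have hi1 : i1 ∉ E := by
    intro hin
    have hd : d = 10 := by rw [← hEd i1 hin, h1]
    rw [hd] at hdw
    rcases hw with h | h <;> rw [h] at hdw <;> omega
  have hi2 : i2 ∉ E := by
    intro hin
    have hd : d = 44 := by rw [← hEd i2 hin, h2]
    rw [hd] at hdw
    rcases hw with h | h <;> rw [h] at hdw <;> omega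
  have hi3 : i3 ∉ E := by
    intro hin
    have hd : d = 45 := by rw [← hEd i3 hin, h3]
    rw [hd] at hdw
    rcases hw with h | h <;> rw [h] at hdw <;> omega
  have ha1' := ha1 hi1
  have ha2' := ha2 hi2
  have ha3' := ha3 hi3
  -- distinctness
  have n01 : i1 ≠ i0 := by intro h; rw [h, h0] at h1; omega
  have n03 : i3 ≠ i0 := by intro h; rw [h, h0] at h3; omega
  have n13 : i3 ≠ i1 := by intro h; rw [h, h1] at h3; omega
  -- split off i1 and i3
  have m1 : i1 ∈ Finset.univ.erase i0 := Finset.mem_erase.2 ⟨n01, Finset.mem_univ _⟩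
  have m3 : i3 ∈ (Finset.univ.erase i0).erase i1 :=
    Finset.mem_erase.2 ⟨n13, Finset.mem_erase.2 ⟨n03, Finset.mem_univ _⟩⟩
  have e1 := Finset.add_sum_erase (Finset.univ.erase i0) (fun i => (a i) ^ 2) m1
  have g1 := Finset.add_sum_erase (Finset.univ.erase i0) (fun i => a i * (deg i : ℤ)) m1
  have e3 := Finset.add_sum_erase ((Finset.univ.erase i0).erase i1) (fun i => (a i) ^ 2) m3
  have g3 := Finset.add_sum_erase ((Finset.univ.erase i0).erase i1)
    (fun i => a i * (deg i : ℤ)) m3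
  simp only [ha1', h1, ha3', h3] at e1 g1 e3 g3
  set s3 := ((Finset.univ.erase i0).erase i1).erase i3 with hs3
  have hs3sum : ∑ i ∈ s3, (a i) ^ 2 = ((1 : ℕ) : ℤ) + 1 := by push_cast; linarith
  obtain ⟨j1, hj1m, hj1a, hrest1⟩ := peel' s3 a 1 (by norm_num) hs3sum
  have hrest1' : ∑ i ∈ s3.erase j1, (a i) ^ 2 = ((0 : ℕ) : ℤ) + 1 := by
    rw [hrest1]; norm_num
  obtain ⟨j2, hj2m, hj2a, hrest2⟩ := peel' (s3.erase j1) a 0 (by norm_num) hrest1'
  have hzero := all_zero' _ a (by rw [hrest2]; norm_num)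
  -- memberships
  have hj1ne : j1 ≠ i3 ∧ j1 ≠ i1 ∧ j1 ≠ i0 := by
    simp only [hs3, Finset.mem_erase, Finset.mem_univ, and_true] at hj1m
    exact ⟨hj1m.1, hj1m.2.1, hj1m.2.2⟩
  have hj2ne : j2 ≠ j1 ∧ j2 ≠ i3 ∧ j2 ≠ i1 ∧ j2 ≠ i0 := by
    simp only [hs3, Finset.mem_erase, Finset.mem_univ, and_true] at hj2m
    exact ⟨hj2m.1, hj2m.2.1, hj2m.2.2.1, hj2m.2.2.2⟩
  have hj1E : j1 ∉ E := by
    intro hin; have := haE j1 hin; rcases hj1a with h | h <;> rw [h] at this <;> omega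
  have hj2E : j2 ∉ E := by
    intro hin; have := haE j2 hin; rcases hj2a with h | h <;> rw [h] at this <;> omega
  -- the linear sum
  have g4 := Finset.add_sum_erase s3 (fun i => a i * (deg i : ℤ)) hj1m
  have g5 := Finset.add_sum_erase (s3.erase j1) (fun i => a i * (deg i : ℤ)) hj2m
  have g6 : ∑ i ∈ (s3.erase j1).erase j2, a i * (deg i : ℤ) = 0 :=
    Finset.sum_eq_zero (fun i hi => by rw [hzero i hi]; ring)
  beta_reduce at g4 g5
  have hlin' : (1 : ℤ) * ((1 : ℕ) : ℤ) + (-1 * ((10 : ℕ) : ℤ) + (1 * ((45 : ℕ) : ℤ) +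
      (a j1 * (deg j1 : ℤ) + a j2 * (deg j2 : ℤ)))) + (d : ℤ) * w = 0 := by
    rw [← hlin, ← g0, ← g1, ← g3, ← g4, ← g5, g6]; ring
  -- degrees of j1, j2
  have hdegj : ∀ j, j ∉ E → j ≠ i0 → (a j = 1 ∨ a j = -1) →
      (a j * (deg j : ℤ) = 12 ∨ a j * (deg j : ℤ) = 45 ∨ (a j = -1 ∧ deg j = 10)) := by
    intro j hjE hj0 hja
    have hm := hmod j hjE
    rcases hja with h | h
    · rw [h] at hm
      have hmod1 : deg j % 11 = 1 := by
        have hp : 0 < deg j := Nat.pos_of_dvd_of_pos (hdvd j) (by norm_num)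
        omega
      rcases deg_of_one (deg j) (hle88 j) (hdvd j) hmod1 with h' | h' | h'
      · exact absurd (huniq j h') hj0
      · left; rw [h, h']; norm_num
      · right; left; rw [h, h']; norm_num
    · rw [h] at hm
      have hmod1 : deg j % 11 = 10 := by omega
      right; right
      exact ⟨h, deg_of_neg_one (deg j) (hle88 j) (hdvd j) hmod1⟩
  have hx := hdegj j1 hj1E hj1ne.2.2 hj1a
  have hy := hdegj j2 hj2E hj2ne.2.2.2 hj2a
  -- square bound on d
  have hdle : d ≤ 54 := by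
    have hsub : insert i3 E ⊆ Finset.univ := Finset.subset_univ _
    have hle := Finset.sum_le_sum_of_subset (f := fun i => (deg i) ^ 2) hsub
    rw [hsq, Finset.sum_insert hi3, h3] at hle
    have hEsum : ∑ i ∈ E, (deg i) ^ 2 = 2 * d ^ 2 := by
      rw [Finset.sum_congr rfl (fun i hi => by rw [hEd i hi]), Finset.sum_const, hE, smul_eq_mul]
    rw [hEsum] at hle
    by_contra hc
    push Not at hc
    have : 55 ^ 2 ≤ d ^ 2 := Nat.pow_le_pow_left hc 2
    omega
  -- an element of E gives d ∣ 7920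
  have hddvd : d ∣ 7920 := by
    have hne : E.Nonempty := by
      rw [← Finset.card_pos, hE]; norm_num
    obtain ⟨e, he⟩ := hne
    rw [← hEd e he]; exact hdvd e
  -- final case analysis
  have hfin : d = 16 ∧ (a j1 = -1 ∧ deg j1 = 10) ∧ (a j2 = -1 ∧ deg j2 = 10) := by
    have hd0 : (0 : ℤ) ≤ d := Int.natCast_nonneg d
    have hd54 : (d : ℤ) ≤ 54 := by exact_mod_cast hdle
    have key : ∀ x y : ℤ, (x = 12 ∨ x = 45 ∨ x = -10) → (y = 12 ∨ y = 45 ∨ y = -10) →
        36 + (x + y) + (d : ℤ) * w = 0 → (d = 16 ∧ x = -10 ∧ y = -10) := by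
      intro x y hx hy hxy
      rcases hw with h | h
      · rw [h] at hxy
        rcases hx with hx | hx | hx <;> rcases hy with hy | hy | hy <;> omega
      · rw [h] at hxy
        have hd' : d = 16 ∨ d = 38 := by
          rcases hx with hx | hx | hx <;> rcases hy with hy | hy | hy <;> omega
        rcases hd' with hd' | hd'
        · refine ⟨hd', ?_⟩
          rw [hd'] at hxy
          rcases hx with hx | hx | hx <;> rcases hy with hy | hy | hy <;> omega
        · rw [hd'] at hddvd; norm_num at hddvd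
    have hx' : a j1 * (deg j1 : ℤ) = 12 ∨ a j1 * (deg j1 : ℤ) = 45 ∨ a j1 * (deg j1 : ℤ) = -10 := by
      rcases hx with h | h | ⟨h, h'⟩
      · exact Or.inl h
      · exact Or.inr (Or.inl h)
      · right; right; rw [h, h']; norm_num
    have hy' : a j2 * (deg j2 : ℤ) = 12 ∨ a j2 * (deg j2 : ℤ) = 45 ∨ a j2 * (deg j2 : ℤ) = -10 := by
      rcases hy with h | h | ⟨h, h'⟩
      · exact Or.inl h
      · exact Or.inr (Or.inl h)
      · right; right; rw [h, h']; norm_num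
    have hk := key _ _ hx' hy' (by push_cast at hlin'; linarith)
    refine ⟨hk.1, ?_, ?_⟩
    · rcases hx with h | h | h
      · rw [h] at hk; omega
      · rw [h] at hk; omega
      · exact h
    · rcases hy with h | h | h
      · rw [h] at hk; omega
      · rw [h] at hk; omega
      · exact h
  obtain ⟨hd16, ⟨_, hdj1⟩, ⟨_, hdj2⟩⟩ := hfin
  refine ⟨hd16, hi1, hi2, hi3, j1, j2, hj2ne.1.symm, hj1ne.2.1, hj2ne.2.2.1, hj1E, hj2E, hdj1, hdj2, ?_⟩
  intro i hiE hi0 hi1' hi3' hij1 hij2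
  have him : i ∈ (s3.erase j1).erase j2 := by
    simp only [hs3, Finset.mem_erase, Finset.mem_univ, and_true]
    exact ⟨hij2, hij1, hi3', hi1', hi0⟩
  have hai := hzero i him
  have hm := hmod i hiE
  rw [hai, sub_zero] at hm
  exact_mod_cast hm

end Cfsg.Agent.Helper21.M11CHR
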