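import Mathlib
import Cfsg.Agent.Lib.Helper21.M11CHRArith

/-!
# M11CHR (A5): the prime 5 forces the remaining degrees 11 and 55
-/

set_option autoImplicit false

namespace Cfsg.Agent.Helper21.M11CHR

theorem sq_bound (x S : ℤ) (h : x ^ 2 + S = 3025) (hS : 0 ≤ S) (hx : 55 ≤ x) : x = 55 := by
  nlinarith

theorem two_terms (x y S : ℤ) (hx : 55 ≤ x) (hy : 55 ≤ y) (h : x ^ 2 + S = 3025) (hyS : y ^ 2 ≤ S) :
    False := by
  nlinarith

/-- (A5) -/
theorem arith_five {ι : Type*} [Fintype ι] [DecidableEq ι] (deg : ι → ℕ)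
    (hdvd : ∀ i, deg i ∣ 7920) (hsq : ∑ i, (deg i) ^ 2 = 7920)
    (i0 i1 i2 i3 j1 j2 : ι) (E : Finset ι)
    (h0 : deg i0 = 1) (h1 : deg i1 = 10) (h2 : deg i2 = 44) (h3 : deg i3 = 45)
    (hj1 : deg j1 = 10) (hj2 : deg j2 = 10) (hj12 : j1 ≠ j2) (hj1i : j1 ≠ i1) (hj2i : j2 ≠ i1)
    (hE : E.card = 2) (hEd : ∀ i ∈ E, deg i = 16)
    (hrest : ∀ i, i ∉ E → i ≠ i0 → i ≠ i1 → i ≠ i3 → i ≠ j1 → i ≠ j2 → 11 ∣ deg i)
    (b : ι → ℤ) (hbmod : ∀ i, (5 : ℤ) ∣ (deg i : ℤ) - b i)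
    (hbnorm : ∑ i, (b i) ^ 2 = 5) (hblin : ∑ i, b i * (deg i : ℤ) = 0) :
    ∃ e : Fin 10 ≃ ι, ∀ k, deg (e k) = ![1, 10, 10, 10, 11, 16, 16, 44, 45, 55] k := by
  classical
  obtain ⟨e1, e2, he12, hEeq⟩ := Finset.card_eq_two.1 hE
  have he1 : deg e1 = 16 := hEd e1 (by rw [hEeq]; simp)
  have he2 : deg e2 = 16 := hEd e2 (by rw [hEeq]; simp)
  have hpos : ∀ i, 0 < deg i := fun i => Nat.pos_of_dvd_of_pos (hdvd i) (by norm_num)
  -- |b i| ≤ 2
  have hb2 : ∀ i, -2 ≤ b i ∧ b i ≤ 2 := by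
    intro i
    have h1 : (b i) ^ 2 ≤ ∑ j, (b j) ^ 2 :=
      Finset.single_le_sum (f := fun j => (b j) ^ 2) (fun j _ => sq_nonneg _) (Finset.mem_univ i)
    rw [hbnorm] at h1
    constructor <;> nlinarith
  -- b is forced by the degree
  have hbv : ∀ i (n : ℕ) (c : ℤ), deg i = n → (5 : ℤ) ∣ (n : ℤ) - c → -2 ≤ c → c ≤ 2 → b i = c := by
    intro i n c hn hc hc1 hc2
    have := hbmod i
    rw [hn] at this
    obtain ⟨hl, hu⟩ := hb2 i
    omega
  have b0 : b i0 = 1 := hbv i0 1 1 h0 (by norm_num) (by norm_num) (by norm_num)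
  have b1 : b i1 = 0 := hbv i1 10 0 h1 (by norm_num) (by norm_num) (by norm_num)
  have bj1 : b j1 = 0 := hbv j1 10 0 hj1 (by norm_num) (by norm_num) (by norm_num)
  have bj2 : b j2 = 0 := hbv j2 10 0 hj2 (by norm_num) (by norm_num) (by norm_num)
  have b3 : b i3 = 0 := hbv i3 45 0 h3 (by norm_num) (by norm_num) (by norm_num)
  have b2 : b i2 = -1 := hbv i2 44 (-1) h2 (by norm_num) (by norm_num) (by norm_num)
  have be1 : b e1 = 1 := hbv e1 16 1 he1 (by norm_num) (by norm_num) (by norm_num)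
  have be2 : b e2 = 1 := hbv e2 16 1 he2 (by norm_num) (by norm_num) (by norm_num)
  -- distinctness via degrees
  have hned : ∀ x y : ι, deg x ≠ deg y → x ≠ y := fun x y h hxy => h (by rw [hxy])
  -- the chain of erasures
  set s1 := Finset.univ.erase i0 with hs1
  set s2 := s1.erase i1 with hs2
  set s3 := s2.erase j1 with hs3
  set s4 := s3.erase j2 with hs4
  set s5 := s4.erase i3 with hs5
  set s6 := s5.erase i2 with hs6
  set s7 := s6.erase e1 with hs7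
  set s8 := s7.erase e2 with hs8
  have m1 : i1 ∈ s1 := by
    simp only [hs1, Finset.mem_erase, Finset.mem_univ, and_true]
    exact hned _ _ (by rw [h1, h0]; norm_num)
  have m2 : j1 ∈ s2 := by
    simp only [hs2, hs1, Finset.mem_erase, Finset.mem_univ, and_true]
    exact ⟨hj1i, hned _ _ (by rw [hj1, h0]; norm_num)⟩
  have m3 : j2 ∈ s3 := by
    simp only [hs3, hs2, hs1, Finset.mem_erase, Finset.mem_univ, and_true]
    exact ⟨hj12.symm, hj2i, hned _ _ (by rw [hj2, h0]; norm_num)⟩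
  have m4 : i3 ∈ s4 := by
    simp only [hs4, hs3, hs2, hs1, Finset.mem_erase, Finset.mem_univ, and_true]
    exact ⟨hned _ _ (by rw [h3, hj2]; norm_num), hned _ _ (by rw [h3, hj1]; norm_num),
      hned _ _ (by rw [h3, h1]; norm_num), hned _ _ (by rw [h3, h0]; norm_num)⟩
  have m5 : i2 ∈ s5 := by
    simp only [hs5, hs4, hs3, hs2, hs1, Finset.mem_erase, Finset.mem_univ, and_true]
    exact ⟨hned _ _ (by rw [h2, h3]; norm_num), hned _ _ (by rw [h2, hj2]; norm_num),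
      hned _ _ (by rw [h2, hj1]; norm_num), hned _ _ (by rw [h2, h1]; norm_num),
      hned _ _ (by rw [h2, h0]; norm_num)⟩
  have m6 : e1 ∈ s6 := by
    simp only [hs6, hs5, hs4, hs3, hs2, hs1, Finset.mem_erase, Finset.mem_univ, and_true]
    exact ⟨hned _ _ (by rw [he1, h2]; norm_num), hned _ _ (by rw [he1, h3]; norm_num),
      hned _ _ (by rw [he1, hj2]; norm_num), hned _ _ (by rw [he1, hj1]; norm_num),
      hned _ _ (by rw [he1, h1]; norm_num), hned _ _ (by rw [he1, h0]; norm_num)⟩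
  have m7 : e2 ∈ s7 := by
    simp only [hs7, hs6, hs5, hs4, hs3, hs2, hs1, Finset.mem_erase, Finset.mem_univ, and_true]
    exact ⟨he12.symm, hned _ _ (by rw [he2, h2]; norm_num), hned _ _ (by rw [he2, h3]; norm_num),
      hned _ _ (by rw [he2, hj2]; norm_num), hned _ _ (by rw [he2, hj1]; norm_num),
      hned _ _ (by rw [he2, h1]; norm_num), hned _ _ (by rw [he2, h0]; norm_num)⟩
  -- a general splitting statement for the three sums
  have split : ∀ f : ι → ℤ, ∑ i, f i =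
      f i0 + (f i1 + (f j1 + (f j2 + (f i3 + (f i2 + (f e1 + (f e2 + ∑ i ∈ s8, f i))))))) := by
    intro f
    have t0 : f i0 + ∑ i ∈ s1, f i = ∑ i, f i :=
      Finset.add_sum_erase Finset.univ f (Finset.mem_univ i0)
    have t1 : f i1 + ∑ i ∈ s2, f i = ∑ i ∈ s1, f i := Finset.add_sum_erase s1 f m1
    have t2 : f j1 + ∑ i ∈ s3, f i = ∑ i ∈ s2, f i := Finset.add_sum_erase s2 f m2
    have t3 : f j2 + ∑ i ∈ s4, f i = ∑ i ∈ s3, f i := Finset.add_sum_erase s3 f m3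
    have t4 : f i3 + ∑ i ∈ s5, f i = ∑ i ∈ s4, f i := Finset.add_sum_erase s4 f m4
    have t5 : f i2 + ∑ i ∈ s6, f i = ∑ i ∈ s5, f i := Finset.add_sum_erase s5 f m5
    have t6 : f e1 + ∑ i ∈ s7, f i = ∑ i ∈ s6, f i := Finset.add_sum_erase s6 f m6
    have t7 : f e2 + ∑ i ∈ s8, f i = ∑ i ∈ s7, f i := Finset.add_sum_erase s7 f m7
    linarith
  have hsplb := split (fun i => (b i) ^ 2)
  have hspll := split (fun i => b i * (deg i : ℤ))
  have hspls := split (fun i => ((deg i : ℤ)) ^ 2)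
  simp only [b0, b1, bj1, bj2, b3, b2, be1, be2, h0, h1, hj1, hj2, h3, h2, he1, he2] at hsplb hspll hspls
  rw [hbnorm] at hsplb
  rw [hblin] at hspll
  have hsqZ : ∑ i, ((deg i : ℤ)) ^ 2 = 7920 := by exact_mod_cast hsq
  rw [hsqZ] at hspls
  -- the character δ of degree 11
  have hs8sum : ∑ i ∈ s8, (b i) ^ 2 = ((0 : ℕ) : ℤ) + 1 := by push_cast; linarith
  obtain ⟨δ, hδm, hδb, hrest0⟩ := peel' s8 b 0 (by norm_num) hs8sum
  have hzero := all_zero' _ b (by rw [hrest0]; norm_num)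
  have l9 := Finset.add_sum_erase s8 (fun i => b i * (deg i : ℤ)) hδm
  have q9 := Finset.add_sum_erase s8 (fun i => ((deg i : ℤ)) ^ 2) hδm
  beta_reduce at l9 q9
  have l10 : ∑ i ∈ s8.erase δ, b i * (deg i : ℤ) = 0 :=
    Finset.sum_eq_zero (fun i hi => by rw [hzero i hi]; ring)
  have hδ : b δ = 1 ∧ deg δ = 11 := by
    have hp := hpos δ
    have hpz : (0 : ℤ) < (deg δ : ℤ) := by exact_mod_cast hp
    rcases hδb with h | h
    · rw [h] at l9
      refine ⟨h, ?_⟩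
      have : (deg δ : ℤ) = 11 := by push_cast at hspll; linarith
      exact_mod_cast this
    · rw [h] at l9
      exfalso
      push_cast at hspll
      linarith
  obtain ⟨bδ, dδ⟩ := hδ
  rw [dδ] at q9
  set s9 := s8.erase δ with hs9
  have hs9sum : ∑ i ∈ s9, ((deg i : ℤ)) ^ 2 = 3025 := by push_cast at hspls q9; linarith
  -- membership facts
  have hmem8 : ∀ i, i ∈ s8 ↔ i ≠ e2 ∧ i ≠ e1 ∧ i ≠ i2 ∧ i ≠ i3 ∧ i ≠ j2 ∧ i ≠ j1 ∧ i ≠ i1 ∧ i ≠ i0 := by
    intro i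
    simp only [hs8, hs7, hs6, hs5, hs4, hs3, hs2, hs1, Finset.mem_erase, Finset.mem_univ, and_true]
  have hδne := (hmem8 δ).1 hδm
  -- elements of s9 have degree divisible by 55
  have h55 : ∀ i ∈ s9, 55 ≤ deg i := by
    intro i hi
    have hi8 : i ∈ s8 := Finset.mem_of_mem_erase hi
    have hne := (hmem8 i).1 hi8
    have hiE : i ∉ E := by
      rw [hEeq]; simp only [Finset.mem_insert, Finset.mem_singleton, not_or]
      exact ⟨hne.2.1, hne.1⟩
    have h11 := hrest i hiE hne.2.2.2.2.2.2.2 hne.2.2.2.2.2.2.1 hne.2.2.2.1 hne.2.2.2.2.2.1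
      hne.2.2.2.2.1
    have hb0 := hzero i hi
    have h5 := hbmod i
    rw [hb0, sub_zero] at h5
    have h5' : 5 ∣ deg i := by exact_mod_cast h5
    have hp := hpos i
    omega
  have hne9 : s9.Nonempty := by
    by_contra hc
    rw [Finset.not_nonempty_iff_eq_empty] at hc
    rw [hc, Finset.sum_empty] at hs9sum
    norm_num at hs9sum
  obtain ⟨ε, hεm⟩ := hne9
  have q10 := Finset.add_sum_erase s9 (fun i => ((deg i : ℤ)) ^ 2) hεm
  beta_reduce at q10
  have hnn : 0 ≤ ∑ i ∈ s9.erase ε, ((deg i : ℤ)) ^ 2 := Finset.sum_nonneg (fun i _ => sq_nonneg _)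
  have hε55 : deg ε = 55 := by
    have h1 := h55 ε hεm
    have h1z : (55 : ℤ) ≤ (deg ε : ℤ) := by exact_mod_cast h1
    have : (deg ε : ℤ) = 55 := sq_bound _ _ (q10.trans hs9sum) hnn h1z
    exact_mod_cast this
  have hempty : s9.erase ε = ∅ := by
    by_contra hc
    obtain ⟨x, hx⟩ := Finset.nonempty_iff_ne_empty.2 hc
    have hx9 : x ∈ s9 := Finset.mem_of_mem_erase hx
    have h1 := h55 x hx9
    have h1z : (55 : ℤ) ≤ (deg x : ℤ) := by exact_mod_cast h1
    have hle : ((deg x : ℤ)) ^ 2 ≤ ∑ i ∈ s9.erase ε, ((deg i : ℤ)) ^ 2 :=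
      Finset.single_le_sum (f := fun i => ((deg i : ℤ)) ^ 2) (fun i _ => sq_nonneg _) hx
    have hεz : (55 : ℤ) ≤ (deg ε : ℤ) := by rw [hε55]; norm_num
    exact two_terms _ _ _ hεz h1z (q10.trans hs9sum) hle
  have hε8 : ε ∈ s8 := Finset.mem_of_mem_erase hεm
  have hεne := (hmem8 ε).1 hε8
  have hεδ : ε ≠ δ := (Finset.mem_erase.1 hεm).1
  -- every element is one of the ten
  have hall : ∀ i, i = i0 ∨ i = i1 ∨ i = j1 ∨ i = j2 ∨ i = δ ∨ i = e1 ∨ i = e2 ∨ i = i2 ∨ i = i3 ∨ i = ε := by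
    intro i
    by_contra hc
    push Not at hc
    obtain ⟨c0, c1, c2, c3, c4, c5, c6, c7, c8, c9⟩ := hc
    have : i ∈ s9.erase ε := by
      rw [Finset.mem_erase]
      refine ⟨c9, ?_⟩
      rw [hs9, Finset.mem_erase]
      refine ⟨c4, ?_⟩
      rw [hmem8]
      exact ⟨c6, c5, c7, c8, c3, c2, c1, c0⟩
    rw [hempty] at this
    exact absurd this (Finset.notMem_empty i)
  -- the equivalence
  let f : Fin 10 → ι := ![i0, i1, j1, j2, δ, e1, e2, i2, i3, ε]
  have hdeg : ∀ k, deg (f k) = ![1, 10, 10, 10, 11, 16, 16, 44, 45, 55] k := by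
    intro k
    fin_cases k <;> simp [f, h0, h1, hj1, hj2, dδ, he1, he2, h2, h3, hε55]
  have hinj : Function.Injective f := by
    intro x y hxy
    have hv : (![1, 10, 10, 10, 11, 16, 16, 44, 45, 55] : Fin 10 → ℕ) x =
        ![1, 10, 10, 10, 11, 16, 16, 44, 45, 55] y := by
      rw [← hdeg x, ← hdeg y, hxy]
    fin_cases x <;> fin_cases y <;>
      first
      | rfl
      | (exfalso; revert hv; simp; done)
      | (exfalso; simp [f] at hxy;
         first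
          | exact hj1i hxy | exact hj1i hxy.symm | exact hj2i hxy | exact hj2i hxy.symm
          | exact hj12 hxy | exact hj12 hxy.symm | exact he12 hxy | exact he12 hxy.symm)
  have hsurj : Function.Surjective f := by
    intro i
    rcases hall i with h | h | h | h | h | h | h | h | h | h
    · exact ⟨0, by rw [h]; rfl⟩
    · exact ⟨1, by rw [h]; rfl⟩
    · exact ⟨2, by rw [h]; rfl⟩
    · exact ⟨3, by rw [h]; rfl⟩
    · exact ⟨4, by rw [h]; rfl⟩
    · exact ⟨5, by rw [h]; rfl⟩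
    · exact ⟨6, by rw [h]; rfl⟩
    · exact ⟨7, by rw [h]; rfl⟩
    · exact ⟨8, by rw [h]; rfl⟩
    · exact ⟨9, by rw [h]; rfl⟩
  exact ⟨Equiv.ofBijective f ⟨hinj, hsurj⟩, fun k => hdeg k⟩

end Cfsg.Agent.Helper21.M11CHR
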