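import Mathlib
import Cfsg.Prelude.Def_Characters
import Cfsg.Agent.Lib.Helper40.MT4Char

/-!
# M11CHR (CH1): the three irreducible characters of degrees 10, 44, 45 of a 4-transitive group on 11 points

For `K ≤ Perm α`, `|α| = 11`, `K` 4-transitive: helper40's `MT4.isIrr_z1/z2/z3` give irreducible characters
`fx - 1`, `p₂ - fx`, `(fx - 1)² - p₂`; their degrees are 10, 44, 45 and on an element of order 11 (an 11-cycle:
no fixed point, no 2-cycle) they take the values -1, 0, 1.
-/

set_option autoImplicit false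

namespace Cfsg.Agent.Helper21.M11CHR

open Cfsg Cfsg.Agent.Helper40

universe u

/-- a permutation of order 11 of 11 points has no fixed point -/
theorem no_fixed_of_order_eleven {α : Type u} [Fintype α] [DecidableEq α]
    (hα : Fintype.card α = 11) (σ : Equiv.Perm α) (hσ : orderOf σ = 11) (a : α) : σ a ≠ a := by
  have hp : (orderOf σ).Prime := by rw [hσ]; norm_num
  obtain ⟨n, hn⟩ := Equiv.Perm.cycleType_prime_order hp
  have hsum := Equiv.Perm.sum_cycleType σ
  rw [hn, Multiset.sum_replicate, hσ, smul_eq_mul] at hsum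
  have hle : σ.support.card ≤ Fintype.card α := Finset.card_le_univ _
  rw [hα] at hle
  have hcard : σ.support.card = Fintype.card α := by rw [hα]; omega
  have huniv : σ.support = Finset.univ := Finset.eq_univ_of_card _ hcard
  have ha : a ∈ σ.support := by rw [huniv]; exact Finset.mem_univ a
  exact Equiv.Perm.mem_support.1 ha

/-- (CH1) the three characters of a 4-transitive group on 11 points -/
theorem perm_chars {α : Type u} [Fintype α] [DecidableEq α] (hα : Fintype.card α = 11)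
    (K : Subgroup (Equiv.Perm α)) (hK : MulAction.IsMultiplyPretransitive K α 4) :
    ∃ χ₁ χ₂ χ₃ : K → ℂ, IsIrrCharacter K χ₁ ∧ IsIrrCharacter K χ₂ ∧ IsIrrCharacter K χ₃ ∧
      χ₁ 1 = 10 ∧ χ₂ 1 = 44 ∧ χ₃ 1 = 45 ∧
      ∀ x : K, orderOf x = 11 → χ₁ x = -1 ∧ χ₂ x = 0 ∧ χ₃ x = 1 := by
  classical
  haveI : Fintype K := Fintype.ofFinite K
  have hΩ : 4 ≤ Fintype.card α := by omega
  -- no fixed points for elements of order 11
  have hnf : ∀ y : K, orderOf y = 11 → ∀ a : α, y • a ≠ a := by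
    intro y hy a
    have h1 : orderOf (y : Equiv.Perm α) = 11 := by rw [Subgroup.orderOf_coe]; exact hy
    exact no_fixed_of_order_eleven hα (y : Equiv.Perm α) h1 a
  have hfx : ∀ y : K, orderOf y = 11 → MT4.fx (Ω := α) y = 0 := by
    intro y hy
    unfold MT4.fx MT4.fixF
    rw [Finset.card_eq_zero, Finset.filter_eq_empty_iff]
    intro a _
    exact hnf y hy a
  have hsw : ∀ y : K, orderOf y = 11 → MT4.sw (Ω := α) y = 0 := by
    intro y hy
    unfold MT4.sw MT4.Sw
    rw [Finset.card_eq_zero, Finset.filter_eq_empty_iff]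
    rintro ⟨a, b⟩ _ ⟨h1, h2, _⟩
    simp only at h1 h2
    have hy2 : orderOf (y ^ 2) = 11 := by
      rw [orderOf_pow' y (by norm_num), hy]; norm_num
    apply hnf (y ^ 2) hy2 a
    rw [pow_two, mul_smul, h1, h2]
  have hp2 : ∀ y : K, orderOf y = 11 → MT4.p2 (Ω := α) y = 0 := by
    intro y hy
    have h := MT4.two_p2_int (Ω := α) y
    rw [hfx y hy, hsw y hy] at h
    have : (MT4.p2 (Ω := α) y : ℤ) = 0 := by
      simp at h
      exact_mod_cast h
    exact_mod_cast this
  have hfx1 : MT4.fx (Ω := α) (1 : K) = 11 := by rw [MT4.fx_one, hα]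
  have hp21 : MT4.p2 (Ω := α) (1 : K) = 55 := by
    have h := MT4.two_p2_int (Ω := α) (1 : K)
    rw [hfx1, MT4.sw_one] at h
    have : (MT4.p2 (Ω := α) (1 : K) : ℤ) = 55 := by
      push_cast at h
      linarith
    exact_mod_cast this
  refine ⟨fun g => ((MT4.z1 (Ω := α) g : ℤ) : ℂ), fun g => ((MT4.z2 (Ω := α) g : ℤ) : ℂ),
    fun g => ((MT4.z3 (Ω := α) g : ℤ) : ℂ), MT4.isIrr_z1 hK hΩ, MT4.isIrr_z2 hK hΩ,
    MT4.isIrr_z3 hK hΩ, ?_, ?_, ?_, ?_⟩
  · simp only [MT4.z1, hfx1]; norm_num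
  · simp only [MT4.z2, hfx1, hp21]; norm_num
  · simp only [MT4.z3, hfx1, hp21]; norm_num
  · intro x hx
    refine ⟨?_, ?_, ?_⟩
    · simp only [MT4.z1, hfx x hx]; norm_num
    · simp only [MT4.z2, hfx x hx, hp2 x hx]; norm_num
    · simp only [MT4.z3, hfx x hx, hp2 x hx]; norm_num

end Cfsg.Agent.Helper21.M11CHR
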