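import Mathlib
import Cfsg.Prelude.Def_Characters
import Cfsg.Agent.Lib.Helper21.M11CHRPerm
import Cfsg.Agent.Lib.Helper7.M11UMain
import Cfsg.Agent.Lib.Helper74.M11Main
import Cfsg.Agent.Lib.Helper81.CharCorr

/-!
# M11CHR (CH): a simple group of order 7920 has irreducible characters of degrees 10, 44, 45
taking the values -1, 0, 1 on every element of order 11
-/

set_option autoImplicit false

namespace Cfsg.Agent.Helper21.M11CHR

open Cfsg

universe u

theorem exists_chars {G : Type u} [Group G] [Finite G] (hs : IsSimpleGroup G)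
    (hc : Nat.card G = 7920) :
    ∃ χ₁ χ₂ χ₃ : G → ℂ, IsIrrCharacter G χ₁ ∧ IsIrrCharacter G χ₂ ∧ IsIrrCharacter G χ₃ ∧
      χ₁ 1 = 10 ∧ χ₂ 1 = 44 ∧ χ₃ 1 = 45 ∧
      ∀ x : G, orderOf x = 11 → χ₁ x = -1 ∧ χ₂ x = 0 ∧ χ₃ x = 1 := by
  classical
  have h144 : ∀ R : Sylow 3 G, Nat.card (Subgroup.normalizer ((R : Subgroup G) : Set G)) = 144 :=
    fun R => Cfsg.Agent.Helper74.M11.main144 hs hc R
  have B := Cfsg.Agent.Helper7.M11UG.base_of_simple hs hc h144
  have L := Cfsg.Agent.Helper7.M11U.loc_of_base B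
  obtain ⟨M, N0, O, s, m, n, hch⟩ := Cfsg.Agent.Helper7.M11U.chain_exists B L
  obtain ⟨h11, K, hK, ⟨eK⟩⟩ := Cfsg.Agent.Helper7.M11UG.sharp_of_chain hs hc M N0 O s m n hch
  haveI : Fintype (G ⧸ M) := Fintype.ofFinite _
  have hα : Fintype.card (G ⧸ M) = 11 := by rw [← Nat.card_eq_fintype_card]; exact h11
  obtain ⟨χ₁, χ₂, χ₃, i1, i2, i3, d1, d2, d3, hv⟩ := perm_chars hα K hK.1
  refine ⟨fun x => χ₁ (eK x), fun x => χ₂ (eK x), fun x => χ₃ (eK x),
    Cfsg.Agent.Helper81.isIrrCharacter_comp_equiv eK i1,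
    Cfsg.Agent.Helper81.isIrrCharacter_comp_equiv eK i2,
    Cfsg.Agent.Helper81.isIrrCharacter_comp_equiv eK i3, ?_, ?_, ?_, ?_⟩
  · simp only [map_one]; exact d1
  · simp only [map_one]; exact d2
  · simp only [map_one]; exact d3
  · intro x hx
    have : orderOf (eK x) = 11 := by rw [MulEquiv.orderOf_eq]; exact hx
    exact hv (eK x) this

end Cfsg.Agent.Helper21.M11CHR
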