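import Mathlib

/-!
# M11CHR (FIN): counting the degrees from an explicit enumeration
-/

set_option autoImplicit false

namespace Cfsg.Agent.Helper21.M11CHR

theorem count_vec : ∀ n : ℕ, n ≤ 55 →
    (Finset.univ.filter (fun k : Fin 10 =>
      (![1, 10, 10, 10, 11, 16, 16, 44, 45, 55] : Fin 10 → ℕ) k = n)).card =
      (if n = 1 ∨ n = 11 ∨ n = 44 ∨ n = 45 ∨ n = 55 then 1 else if n = 10 then 3
        else if n = 16 then 2 else 0) := by
  decide

theorem vec_le : ∀ k : Fin 10, (![1, 10, 10, 10, 11, 16, 16, 44, 45, 55] : Fin 10 → ℕ) k ≤ 55 := by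
  decide

/-- (FIN) -/
theorem count_of_equiv {ι : Type*} [Finite ι] (deg : ι → ℕ) (e : Fin 10 ≃ ι)
    (he : ∀ k, deg (e k) = ![1, 10, 10, 10, 11, 16, 16, 44, 45, 55] k) :
    Nat.card ι = 10 ∧ ∀ n : ℕ, Nat.card {i : ι // deg i = n} =
      (if n = 1 ∨ n = 11 ∨ n = 44 ∨ n = 45 ∨ n = 55 then 1 else if n = 10 then 3
        else if n = 16 then 2 else 0) := by
  constructor
  · rw [← Nat.card_congr e, Nat.card_fin]
  · intro n
    have h1 : Nat.card {i : ι // deg i = n} =
        Nat.card {k : Fin 10 // (![1, 10, 10, 10, 11, 16, 16, 44, 45, 55] : Fin 10 → ℕ) k = n} := by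
      apply Nat.card_congr
      symm
      exact e.subtypeEquiv (fun k => by rw [he k])
    rw [h1, Nat.card_eq_fintype_card, Fintype.card_subtype]
    by_cases hn : n ≤ 55
    · exact count_vec n hn
    · push Not at hn
      have hempty : (Finset.univ.filter (fun k : Fin 10 =>
          (![1, 10, 10, 10, 11, 16, 16, 44, 45, 55] : Fin 10 → ℕ) k = n)) = ∅ := by
        rw [Finset.filter_eq_empty_iff]
        intro k _ hk
        have := vec_le k
        omega
      rw [hempty, Finset.card_empty]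
      have h1 : ¬ (n = 1 ∨ n = 11 ∨ n = 44 ∨ n = 45 ∨ n = 55) := by omega
      have h2 : ¬ n = 10 := by omega
      have h3 : ¬ n = 16 := by omega
      rw [if_neg h1, if_neg h2, if_neg h3]

end Cfsg.Agent.Helper21.M11CHR
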