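import Mathlib
import Cfsg.Prelude.Def_Characters
import Cfsg.Prelude.Def_Blocks
import Cfsg.Agent.Lib.Helper21.M11CHRChars
import Cfsg.Agent.Lib.Helper21.M11CHRArith5
import Cfsg.Agent.Lib.Helper21.M11CHRFin
import Cfsg.Agent.Lib.Helper17.PrimeTI
import Cfsg.Agent.Lib.Helper17.PrimeTIApp
import Cfsg.Agent.Lib.Helper17.RationalTI
import Cfsg.Agent.Lib.Helper7.M11LAMain
import Cfsg.Agent.Lib.Helper74.M11Main
import Cfsg.Agent.Lib.Helper74.FSBrauerFowler
import Cfsg.Agent.Lib.Helper79.Integrality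
import Cfsg.Agent.Lib.Helper3.CharDecomp

/-!
# M11CHR: the character degrees of a simple group of order 7920 (assembly)
-/

set_option autoImplicit false

namespace Cfsg.Agent.Helper21.M11CHR

open Cfsg

universe u

/-- a subgroup of prime order whose centralizer has the same order is self-centralizing -/
theorem cent_eq_of_prime {G : Type*} [Group G] [Finite G] {p : ℕ} [hp : Fact p.Prime]
    (P : Subgroup G) (hP : Nat.card P = p)
    (hc : Nat.card (Subgroup.centralizer (P : Set G)) = p) :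
    Subgroup.centralizer (P : Set G) = P := by
  have hle : P ≤ Subgroup.centralizer (P : Set G) := by
    intro x hx
    rw [Subgroup.mem_centralizer_iff]
    intro y hy
    have hcyc : IsCyclic P := isCyclic_of_prime_card hP
    have := IsCyclic.commGroup.mul_comm (⟨y, hy⟩ : P) ⟨x, hx⟩
    exact congrArg Subtype.val this
  exact (Subgroup.eq_of_le_of_card_ge hle (by rw [hc, hP])).symm

theorem degrees_7920 {G : Type u} [Group G] [Finite G] [IsSimpleGroup G]
    (hG : Nat.card G = 7920) :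
    Nat.card (Cfsg.IrrCharacter G) = 10 ∧
    ∀ n : ℕ, Nat.card {χ : Cfsg.IrrCharacter G // Cfsg.charDegree (χ : G → ℂ) = n} =
      (if n = 1 ∨ n = 11 ∨ n = 44 ∨ n = 45 ∨ n = 55 then 1 else if n = 10 then 3
        else if n = 16 then 2 else 0) := by
  classical
  haveI : Fintype G := Fintype.ofFinite G
  have hs : IsSimpleGroup G := inferInstance
  have F := Cfsg.Agent.Helper7.M11LA.facts (G := G) hG
  have hperf : commutator G = ⊤ :=
    Cfsg.Agent.Helper17.PrimeTI.perfect_of_simple (by rw [hG]; norm_num)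
  haveI : Fact (Nat.Prime 11) := ⟨by norm_num⟩
  haveI : Fact (Nat.Prime 5) := ⟨by norm_num⟩
  -- the prime 11
  obtain ⟨Q⟩ : Nonempty (Sylow 11 G) := inferInstance
  have hQ : Nat.card (Q : Subgroup G) = 11 := Cfsg.Agent.Helper7.M11LA.card_sylow11 hG Q
  have hCQ : Subgroup.centralizer ((Q : Subgroup G) : Set G) = (Q : Subgroup G) :=
    cent_eq_of_prime _ hQ (F.cq Q)
  have hNQ : Nat.card (Subgroup.normalizer ((Q : Subgroup G) : Set G)) = 11 * 5 := F.nq Q
  obtain ⟨w, d, E, a, hEc, hEd, hEne, haE, hval, hmod, hnorm, hlin⟩ :=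
    Cfsg.Agent.Helper17.PrimeTI.prime_degree_equation (Q : Subgroup G) 11 5 2 hQ hCQ hNQ
      (by norm_num) (by norm_num) (by norm_num)
  obtain ⟨k, hkQ, hk1⟩ := Cfsg.Agent.Helper17.PrimeTI.exists_ne_one_of_prime_card (Q : Subgroup G) hQ
  have hk11 : orderOf k = 11 := by
    have h1 := orderOf_dvd_natCard (⟨k, hkQ⟩ : (Q : Subgroup G))
    rw [hQ, Subgroup.orderOf_mk] at h1
    rcases (Nat.dvd_prime (by norm_num : Nat.Prime 11)).1 h1 with h | h
    · exact absurd (orderOf_eq_one_iff.1 h) hk1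
    · exact h
  -- the prime 5
  obtain ⟨P⟩ : Nonempty (Sylow 5 G) := inferInstance
  have hP : Nat.card (P : Subgroup G) = 5 := Cfsg.Agent.Helper7.M11LA.card_sylow5 hG P
  obtain ⟨y, hyP, hy1⟩ := Cfsg.Agent.Helper17.PrimeTI.exists_ne_one_of_prime_card (P : Subgroup G) hP
  have hy5 : orderOf y = 5 := by
    have h1 := orderOf_dvd_natCard (⟨y, hyP⟩ : (P : Subgroup G))
    rw [hP, Subgroup.orderOf_mk] at h1
    rcases (Nat.dvd_prime (by norm_num : Nat.Prime 5)).1 h1 with h | h
    · exact absurd (orderOf_eq_one_iff.1 h) hy1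
    · exact h
  have hcP : Nat.card (Subgroup.centralizer ((P : Subgroup G) : Set G)) = 5 := by
    have h5 := Cfsg.Agent.Helper74.M11.h5c_of_facts F y hy5
    have hle : Subgroup.centralizer ((P : Subgroup G) : Set G) ≤
        Subgroup.centralizer ({y} : Set G) :=
      Subgroup.centralizer_le (by
        intro z hz
        rw [Set.mem_singleton_iff] at hz
        rw [hz]; exact hyP)
    have hdvd := Subgroup.card_dvd_of_le hle
    rw [show Nat.card (Subgroup.centralizer ({y} : Set G)) = 5 from h5] at hdvd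
    have hPle : (P : Subgroup G) ≤ Subgroup.centralizer ((P : Subgroup G) : Set G) := by
      intro x hx
      rw [Subgroup.mem_centralizer_iff]
      intro z hz
      have hcyc : IsCyclic (P : Subgroup G) := isCyclic_of_prime_card hP
      have := IsCyclic.commGroup.mul_comm (⟨z, hz⟩ : (P : Subgroup G)) ⟨x, hx⟩
      exact congrArg Subtype.val this
    have hdvd2 := Subgroup.card_dvd_of_le hPle
    rw [hP] at hdvd2
    exact Nat.dvd_antisymm hdvd hdvd2
  have hCP : Subgroup.centralizer ((P : Subgroup G) : Set G) = (P : Subgroup G) :=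
    cent_eq_of_prime _ hP hcP
  have hNP : Nat.card (Subgroup.normalizer ((P : Subgroup G) : Set G)) = 5 * (5 - 1) := F.np P
  obtain ⟨b, hbval, hbmod, hbnorm, hblin⟩ :=
    Cfsg.Agent.Helper17.RationalTI.rational_degree_equation hperf P hP hCP hNP
  -- the three characters
  obtain ⟨χ₁, χ₂, χ₃, ir1, ir2, ir3, d1, d2, d3, hv⟩ := exists_chars hs hG
  obtain ⟨v1, v2, v3⟩ := hv k hk11
  -- the index set
  let deg : IrrCharacter G → ℕ := fun ψ => charDegree (ψ : G → ℂ)
  let i0 : IrrCharacter G := ⟨fun _ => 1, Cfsg.Agent.Helper3.isIrrCharacter_one⟩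
  let i1 : IrrCharacter G := ⟨χ₁, ir1⟩
  let i2 : IrrCharacter G := ⟨χ₂, ir2⟩
  let i3 : IrrCharacter G := ⟨χ₃, ir3⟩
  have hdvd : ∀ i, deg i ∣ 7920 := by
    intro i
    have := Cfsg.Agent.Helper79.irr_degree_dvd_card i
    rw [hG] at this
    exact this
  have hsq : ∑ i, (deg i) ^ 2 = 7920 := by
    have h := Cfsg.Agent.Helper74.FS.sum_sq_degree (G := G)
    rw [hG] at h
    have h' : ((∑ i, (deg i) ^ 2 : ℕ) : ℚ) = ((7920 : ℕ) : ℚ) := by
      push_cast
      exact h
    exact_mod_cast h'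
  have h0 : deg i0 = 1 := Cfsg.Agent.Helper17.PrimeTI.charDegree_one
  have h1 : deg i1 = 10 := by
    show charDegree χ₁ = 10
    unfold charDegree
    rw [d1]; simp
  have h2 : deg i2 = 44 := by
    show charDegree χ₂ = 44
    unfold charDegree
    rw [d2]; simp
  have h3 : deg i3 = 45 := by
    show charDegree χ₃ = 45
    unfold charDegree
    rw [d3]; simp
  have huniq : ∀ i, deg i = 1 → i = i0 := by
    intro i hi
    apply Subtype.ext
    exact Cfsg.Agent.Helper17.PrimeTI.linear_trivial_of_perfect hperf i hi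
  have hE0 : i0 ∉ E := fun hin => hEne i0 hin rfl
  have ha0 : a i0 = 1 := by
    have := hval i0 hE0 k hkQ hk1
    have h' : ((1 : ℤ) : ℂ) = (a i0 : ℂ) := by
      push_cast
      exact this
    exact_mod_cast h'.symm
  have ha1 : i1 ∉ E → a i1 = -1 := by
    intro hin
    have := hval i1 hin k hkQ hk1
    have h' : ((-1 : ℤ) : ℂ) = (a i1 : ℂ) := by
      push_cast
      rw [← this]; exact v1.symm
    exact_mod_cast h'.symm
  have ha2 : i2 ∉ E → a i2 = 0 := by
    intro hin
    have := hval i2 hin k hkQ hk1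
    have h' : ((0 : ℤ) : ℂ) = (a i2 : ℂ) := by
      push_cast
      rw [← this]; exact v2.symm
    exact_mod_cast h'.symm
  have ha3 : i3 ∉ E → a i3 = 1 := by
    intro hin
    have := hval i3 hin k hkQ hk1
    have h' : ((1 : ℤ) : ℂ) = (a i3 : ℂ) := by
      push_cast
      rw [← this]; exact v3.symm
    exact_mod_cast h'.symm
  have hnorm' : (2 : ℤ) * ∑ i, (a i) ^ 2 + w ^ 2 = 11 := by
    have := hnorm
    push_cast at this
    exact this
  obtain ⟨hd16, hi1, hi2, hi3, j1, j2, hj12, hj1i, hj2i, hj1E, hj2E, hdj1, hdj2, hrest⟩ :=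
    arith_eleven deg hdvd hsq i0 i1 i2 i3 h0 h1 h2 h3 huniq w d E a hEc hEd hE0 haE ha0 ha1 ha2 ha3
      hmod hnorm' hlin
  have hEd16 : ∀ i ∈ E, deg i = 16 := fun i hi => by rw [← hd16]; exact hEd i hi
  have hbnorm' : ∑ i, (b i) ^ 2 = 5 := by
    have := hbnorm
    push_cast at this
    exact this
  obtain ⟨e, he⟩ := arith_five deg hdvd hsq i0 i1 i2 i3 j1 j2 E h0 h1 h2 h3 hdj1 hdj2 hj12 hj1i hj2i
    hEc hEd16 hrest b (fun i => by have := hbmod i; push_cast at this; exact this) hbnorm' hblin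
  exact count_of_equiv deg e he

end Cfsg.Agent.Helper21.M11CHR
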