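import Mathlib
import Cfsg.Agent.Lib.Helper93.MD0
import Cfsg.Agent.Lib.Helper5.SL

/-!
# MD project (helper93 server, S2140), piece (GEN): `SL(V)` is generated by transvections.
-/

set_option autoImplicit false

namespace Cfsg.Agent.Helper21.MD

open Module Cfsg.Agent.Helper93.McL Cfsg.Agent.Helper93.MD

variable {F V : Type*} [Field F] [Fintype F] [AddCommGroup V] [Module F V] [FiniteDimensional F V]

/-- The linear equivalence attached to an elementary transvection matrix is a total transvection. -/
lemma gen_toLin_transvection {n : ℕ} (b : Basis (Fin n) F V) {i j : Fin n} (h : i ≠ j) (c : F) :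
    ((Matrix.SpecialLinearGroup.toLin_equiv b
        (Matrix.SpecialLinearGroup.transvection h c)).1 : V ≃ₗ[F] V) =
      tv (b i) (c • b.coord j) := by
  have h0 : (c • b.coord j) (b i) = 0 := by
    simp [Basis.coord_apply, Finsupp.single_apply, h]
  apply LinearEquiv.toLinearMap_injective
  apply b.ext
  intro k
  have h1 : ((Matrix.SpecialLinearGroup.toLin_equiv b
        (Matrix.SpecialLinearGroup.transvection h c)).1 : V →ₗ[F] V) =
      Matrix.toLin b b (Matrix.SpecialLinearGroup.transvection h c) :=
    Matrix.SpecialLinearGroup.toLin_equiv.toLinearMap_eq b _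
  rw [h1, Matrix.toLin_self]
  rw [LinearEquiv.coe_coe, tv_apply h0]
  simp only [Matrix.SpecialLinearGroup.transvection, Matrix.transvection, Matrix.add_apply,
    Matrix.one_apply, Matrix.single_apply, add_smul, Finset.sum_add_distrib]
  congr 1
  · simp
  · simp only [LinearMap.smul_apply, Basis.coord_apply, Basis.repr_self, Finsupp.single_apply,
      smul_eq_mul]
    by_cases hk : k = j
    · subst hk
      simp
    · have hk' : ¬ j = k := fun e => hk e.symm
      simp [hk, hk']

theorem closure_stv :
    Subgroup.closure {g : ↥(SLV F V) | ∃ (u : V) (φ : Dual F V), φ u = 0 ∧ g = stv u φ} = ⊤ := by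
  classical
  set S : Set ↥(SLV F V) := {g : ↥(SLV F V) | ∃ (u : V) (φ : Dual F V), φ u = 0 ∧ g = stv u φ}
    with hS
  rcases Nat.lt_or_ge (finrank F V) 2 with hlt | hge
  · -- `SL(V)` is trivial
    have hsub : Subsingleton ↥(SLV F V) := by
      rcases Nat.lt_or_ge (finrank F V) 1 with h0 | h1
      · have hV : Subsingleton V := by
          have : finrank F V = 0 := by omega
          exact (finrank_zero_iff (R := F)).1 this
        refine ⟨fun a b => Subtype.ext (LinearEquiv.ext fun x => Subsingleton.elim _ _)⟩
      · have h1' : finrank F V = 1 := by omega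
        have hs := SpecialLinearGroup.subsingleton_of_finrank_eq_one (R := F) (V := V) h1'
        refine ⟨fun a b => ?_⟩
        have := hs.allEq ⟨a.1, mem_SLV.1 a.2⟩ ⟨b.1, mem_SLV.1 b.2⟩
        exact Subtype.ext (congrArg Subtype.val this)
    exact Subsingleton.elim _ _
  · obtain ⟨n, hn⟩ : ∃ n, n = finrank F V := ⟨_, rfl⟩
    have b : Basis (Fin n) F V := (Module.finBasis F V).reindex (finCongr hn.symm)
    have hnt : Nontrivial (Fin n) := by
      rw [Fin.nontrivial_iff_two_le]
      omega
    let P : Matrix.SpecialLinearGroup (Fin n) F → Prop := fun A =>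
      ∀ hA : ((Matrix.SpecialLinearGroup.toLin_equiv b A).1 : V ≃ₗ[F] V) ∈ SLV F V,
        (⟨_, hA⟩ : ↥(SLV F V)) ∈ Subgroup.closure S
    have hP : ∀ A, P A := by
      apply Cfsg.Agent.Helper5.transvection_induction P
      · intro i j h c hA
        apply Subgroup.subset_closure
        refine ⟨b i, c • b.coord j, ?_, ?_⟩
        · simp [Basis.coord_apply, Finsupp.single_apply, h]
        · apply Subtype.ext
          rw [coe_stv]
          exact gen_toLin_transvection b h c
      · intro A B hA hB hAB
        have e : ((Matrix.SpecialLinearGroup.toLin_equiv b (A * B)).1 : V ≃ₗ[F] V) =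
            (Matrix.SpecialLinearGroup.toLin_equiv b A).1 *
              (Matrix.SpecialLinearGroup.toLin_equiv b B).1 := by
          rw [map_mul]
          rfl
        have hA' : ((Matrix.SpecialLinearGroup.toLin_equiv b A).1 : V ≃ₗ[F] V) ∈ SLV F V :=
          mem_SLV.2 (Matrix.SpecialLinearGroup.toLin_equiv b A).2
        have hB' : ((Matrix.SpecialLinearGroup.toLin_equiv b B).1 : V ≃ₗ[F] V) ∈ SLV F V :=
          mem_SLV.2 (Matrix.SpecialLinearGroup.toLin_equiv b B).2
        have := Subgroup.mul_mem _ (hA hA') (hB hB')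
        convert this using 1
        exact Subtype.ext e
    rw [eq_top_iff]
    intro g _
    have hg : LinearEquiv.det (g : V ≃ₗ[F] V) = 1 := mem_SLV.1 g.2
    have key := hP ((Matrix.SpecialLinearGroup.toLin_equiv b).symm ⟨g.1, hg⟩)
    have e : ((Matrix.SpecialLinearGroup.toLin_equiv b
        ((Matrix.SpecialLinearGroup.toLin_equiv b).symm ⟨g.1, hg⟩)).1 : V ≃ₗ[F] V) = g.1 := by
      rw [MulEquiv.apply_symm_apply]
    have hmem : ((Matrix.SpecialLinearGroup.toLin_equiv b
        ((Matrix.SpecialLinearGroup.toLin_equiv b).symm ⟨g.1, hg⟩)).1 : V ≃ₗ[F] V) ∈ SLV F V := by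
      rw [e]; exact g.2
    have := key hmem
    convert this using 1
    exact Subtype.ext e.symm

end Cfsg.Agent.Helper21.MD
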