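import Mathlib
import Cfsg.Agent.Lib.Helper93.MD0

/-!
# MD project (helper93 server, S2140), piece (I1): transfer of `main` to `Matrix.SpecialLinearGroup`.

`sl_index_bound_of_main` is (I1) with the statement of `main` (for `F := K`, `V := Fin n → K`,
`finrank = n` already substituted) as an explicit hypothesis; the verbatim `sl_index_bound` is then
the one-liner given at the end of this file (as a comment, to be pasted after `main`).
-/

set_option autoImplicit false

namespace Cfsg.Agent.Helper21.MD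

open Module Cfsg.Agent.Helper93.McL Cfsg.Agent.Helper93.MD

universe u

/-- `↥(SLV K V)` is Mathlib's `SpecialLinearGroup K V`. -/
noncomputable def slvEquiv (K V : Type*) [Field K] [AddCommGroup V] [Module K V] :
    ↥(SLV K V) ≃* SpecialLinearGroup K V where
  toFun g := ⟨g.1, mem_SLV.1 g.2⟩
  invFun a := ⟨a.1, mem_SLV.2 a.2⟩
  left_inv _ := rfl
  right_inv _ := rfl
  map_mul' _ _ := rfl

/-- `↥(SLV K (Fin n → K)) ≃* SL(n, K)`. -/
noncomputable def slvMatEquiv (K : Type*) [Field K] (n : ℕ) :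
    ↥(SLV K (Fin n → K)) ≃* Matrix.SpecialLinearGroup (Fin n) K :=
  (slvEquiv K (Fin n → K)).trans Matrix.SpecialLinearGroup.toLin'_equiv.symm

theorem sl_index_bound_of_main {K : Type u} [Field K] [Fintype K] (n : ℕ)
    (MAIN : ∀ (Ω : Type u) [Fintype Ω] [MulAction ↥(SLV K (Fin n → K)) Ω],
      (∃ (g : ↥(SLV K (Fin n → K))) (ω : Ω), g • ω ≠ ω) →
        Fintype.card K ^ n - 1 ≤ (Fintype.card K - 1) * Fintype.card Ω)
    (H : Subgroup (Matrix.SpecialLinearGroup (Fin n) K))
    (hH : H ≠ ⊤) : Fintype.card K ^ n - 1 ≤ (Fintype.card K - 1) * H.index := by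
  classical
  let ψ : ↥(SLV K (Fin n → K)) →* Matrix.SpecialLinearGroup (Fin n) K :=
    (slvMatEquiv K n).toMonoidHom
  letI act : MulAction ↥(SLV K (Fin n → K)) (Matrix.SpecialLinearGroup (Fin n) K ⧸ H) :=
    MulAction.compHom _ ψ
  letI : Fintype (Matrix.SpecialLinearGroup (Fin n) K ⧸ H) := Fintype.ofFinite _
  have hnt : ∃ (g : ↥(SLV K (Fin n → K))) (ω : Matrix.SpecialLinearGroup (Fin n) K ⧸ H),
      g • ω ≠ ω := by
    obtain ⟨a, ha⟩ : ∃ a, a ∉ H := by
      by_contra hcon
      push_neg at hcon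
      exact hH (eq_top_iff.2 fun x _ => hcon x)
    refine ⟨(slvMatEquiv K n).symm a, (QuotientGroup.mk 1 : _ ⧸ H), ?_⟩
    have h1 : ((slvMatEquiv K n).symm a) • (QuotientGroup.mk 1 : _ ⧸ H) =
        (QuotientGroup.mk (a * 1) : _ ⧸ H) := by
      change ψ ((slvMatEquiv K n).symm a) • (QuotientGroup.mk 1 : _ ⧸ H) = _
      have : ψ ((slvMatEquiv K n).symm a) = a := (slvMatEquiv K n).apply_symm_apply a
      rw [this]
      rfl
    rw [h1, mul_one]
    intro hEq
    have := QuotientGroup.eq.1 hEq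
    rw [mul_one] at this
    exact ha (by simpa using H.inv_mem this)
  have key := MAIN (Matrix.SpecialLinearGroup (Fin n) K ⧸ H) hnt
  have hc : Fintype.card (Matrix.SpecialLinearGroup (Fin n) K ⧸ H) = H.index := by
    rw [Subgroup.index_eq_card, Nat.card_eq_fintype_card]
  rwa [hc] at key

/-
Verbatim (I1), to be placed after `main` (inside the namespace of `main`):

theorem sl_index_bound {K : Type*} [Field K] [Fintype K] (n : ℕ) (hn : 3 ≤ n)
    (hexc : ¬ (n = 4 ∧ Fintype.card K = 2)) (H : Subgroup (Matrix.SpecialLinearGroup (Fin n) K))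
    (hH : H ≠ ⊤) : Fintype.card K ^ n - 1 ≤ (Fintype.card K - 1) * H.index :=
  Cfsg.Agent.Helper21.MD.sl_index_bound_of_main n
    (fun Ω _ _ h => by
      have := main (F := K) (V := Fin n → K) (by simpa using hn) (by simpa using hexc) h
      simpa using this) H hH
-/

end Cfsg.Agent.Helper21.MD
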