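import Mathlib
import Cfsg.Agent.Lib.Helper55.O2520Defs
import Cfsg.Agent.Lib.Helper17.Simple
import Cfsg.Agent.Lib.Helper17.Order8
import Cfsg.Agent.S0111
import Cfsg.Agent.S0215

/-!
# O2520 lemma server (row S0984), piece (SYL2): the Sylow 2-subgroup of a simple group of order 2520
containing an element of order 4 is dihedral, and all involutions are conjugate.
-/

set_option autoImplicit false

namespace Cfsg.Agent.Helper21.O2520

open Cfsg Cfsg.Agent.Helper55.O2520
open scoped Classical

universe u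

section generic
variable {G : Type u} [Group G]

theorem h21_conj_orderOf (g x : G) : orderOf (g * x * g⁻¹) = orderOf x := by
  have h := orderOf_injective (MulAut.conj g).toMonoidHom (MulAut.conj g).injective x
  simpa [MulAut.conj_apply] using h

theorem h21_exists_conj_mem_sylow [Finite G] {p : ℕ} [Fact p.Prime] (Q : Sylow p G) {x : G}
    (hx : IsPGroup p (Subgroup.zpowers x)) : ∃ g : G, g * x * g⁻¹ ∈ (Q : Subgroup G) := by
  obtain ⟨Q', hQ'⟩ := hx.exists_le_sylow
  obtain ⟨g, hg⟩ := MulAction.exists_smul_eq G Q' Q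
  refine ⟨g, ?_⟩
  have hx' : x ∈ (Q' : Subgroup G) := hQ' (Subgroup.mem_zpowers x)
  rw [← hg, Sylow.smul_def, Sylow.pointwise_smul_def]
  have := Subgroup.smul_mem_pointwise_smul x (MulAut.conj g) (Q' : Subgroup G) hx'
  simpa [MulAut.smul_def] using this

variable (S : Subgroup G) (u : G)

/-- index-two calculus for `Q = ⟨u⟩` of order 4 in `S` of order 8. -/
theorem h21_idx2 (hS : Nat.card S = 8) (hu : orderOf u = 4) (huS : u ∈ S) {a b : G}
    (ha : a ∈ S) (hb : b ∈ S) :
    a * b ∈ Subgroup.zpowers u ↔ (a ∈ Subgroup.zpowers u ↔ b ∈ Subgroup.zpowers u) := by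
  have hle : Subgroup.zpowers u ≤ S := by rw [Subgroup.zpowers_le]; exact huS
  have hcard : Nat.card ((Subgroup.zpowers u).subgroupOf S) = 4 := by
    rw [Nat.card_congr (Subgroup.subgroupOfEquivOfLe hle).toEquiv, Nat.card_zpowers, hu]
  have hidx : ((Subgroup.zpowers u).subgroupOf S).index = 2 := by
    have h := ((Subgroup.zpowers u).subgroupOf S).card_mul_index
    rw [hcard, hS] at h
    omega
  have := Subgroup.mul_mem_iff_of_index_two hidx (a := (⟨a, ha⟩ : S)) (b := ⟨b, hb⟩)
  simpa [Subgroup.mem_subgroupOf] using this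

theorem h21_relIndex (hS : Nat.card S = 8) (hu : orderOf u = 4) (huS : u ∈ S) :
    (Subgroup.zpowers u).relIndex S = 2 := by
  have hle : Subgroup.zpowers u ≤ S := by rw [Subgroup.zpowers_le]; exact huS
  have hcard : Nat.card ((Subgroup.zpowers u).subgroupOf S) = 4 := by
    rw [Nat.card_congr (Subgroup.subgroupOfEquivOfLe hle).toEquiv, Nat.card_zpowers, hu]
  have h := ((Subgroup.zpowers u).subgroupOf S).card_mul_index
  rw [hcard, hS] at h
  unfold Subgroup.relIndex
  omega

theorem h21_sq_ne_one (hu : orderOf u = 4) : u ^ 2 ≠ 1 := by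
  intro h
  have := orderOf_dvd_of_pow_eq_one h
  rw [hu] at this
  omega

theorem h21_pow4 (hu : orderOf u = 4) : u ^ 4 = 1 := by
  rw [← hu]; exact pow_orderOf_eq_one u

/-- the only involution of `⟨u⟩` is `u ^ 2`. -/
theorem h21_invol_mem (hu : orderOf u = 4) {t : G} (ht : orderOf t = 2)
    (htQ : t ∈ Subgroup.zpowers u) : t = u ^ 2 := by
  have h4 := h21_pow4 u hu
  have h2 := h21_sq_ne_one u hu
  have ht2 : t ^ 2 = 1 := by rw [← ht]; exact pow_orderOf_eq_one t
  rcases Cfsg.Agent.Helper17.mem_zpowers_of_orderOf_four u t hu htQ with h | h | h | h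
  · subst h; simp at ht
  · subst h; exact absurd ht2 h2
  · exact h
  · exfalso
    subst h
    apply h2
    have : (u ^ 3) ^ 2 = u ^ 4 * u ^ 2 := by rw [← pow_mul, ← pow_add]
    rw [this, h4, one_mul] at ht2
    exact ht2

/-- every element of order 4 of `S` squares to `u ^ 2`. -/
theorem h21_sq_eq (hS : Nat.card S = 8) (hu : orderOf u = 4) (huS : u ∈ S) {v : G}
    (hv : orderOf v = 4) (hvS : v ∈ S) : v ^ 2 = u ^ 2 := by
  have hmem : v ^ 2 ∈ Subgroup.zpowers u := by
    rw [pow_two, h21_idx2 S u hS hu huS hvS hvS]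
  have hord : orderOf (v ^ 2) = 2 := by
    have : Fact (Nat.Prime 2) := ⟨Nat.prime_two⟩
    apply orderOf_eq_prime
    · rw [← pow_mul]; exact h21_pow4 v hv
    · exact h21_sq_ne_one v hv
  exact h21_invol_mem u hu hord hmem

/-- the normalizer of `S` centralizes `u ^ 2`. -/
theorem h21_norm_fix (hS : Nat.card S = 8) (hu : orderOf u = 4) (huS : u ∈ S) {n : G}
    (hn : n ∈ Subgroup.normalizer (S : Set G)) : n * u ^ 2 * n⁻¹ = u ^ 2 := by
  have h1 : n * u * n⁻¹ ∈ S := (Subgroup.mem_normalizer_iff.mp hn u).mp huS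
  have h2 : orderOf (n * u * n⁻¹) = 4 := by rw [h21_conj_orderOf, hu]
  have := h21_sq_eq S u hS hu huS h2 h1
  rw [conj_pow] at this
  exact this

end generic

section grp
variable {G : Type u} [Group G] [Finite G] [IsSimpleGroup G] (hG : Nat.card G = 2520)
include hG

/-- an isolated involution is impossible (Glauberman's Z*-theorem, S0215). -/
theorem h21_no_isolated (S : Sylow 2 G) (z : G) (hz : orderOf z = 2) (hzS : z ∈ S)
    (hiso : ∀ g : G, g * z * g⁻¹ ∈ S → g * z * g⁻¹ = z) : False := by
  obtain ⟨N, hN, hodd, hcomm⟩ := Cfsg.Agent.S0215.result S z hz hzS hiso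
  rcases hN.eq_bot_or_eq_top with h | h
  · -- z is central
    have hc : ∀ g : G, g * z = z * g := by
      intro g
      have := hcomm g
      rw [h, Subgroup.mem_bot] at this
      have h2 : z * g * z⁻¹ = g := by
        have := mul_inv_eq_one.mp this
        exact this
      calc g * z = (z * g * z⁻¹) * z := by rw [h2]
        _ = z * g := by group
    have hzc : z ∈ Subgroup.center G := Subgroup.mem_center_iff.mpr hc
    have hz1 : z ≠ 1 := by
      intro h1; rw [h1, orderOf_one] at hz; omega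
    apply Cfsg.Agent.Helper17.normal_card_absurd (Subgroup.center G) inferInstance
    · intro h1
      have := (Subgroup.card_eq_one.mp h1)
      rw [this, Subgroup.mem_bot] at hzc
      exact hz1 hzc
    · intro h2
      have htop : Subgroup.center G = ⊤ := Subgroup.eq_top_of_card_eq _ h2
      have hcm : IsMulCommutative G := ⟨⟨fun a b => by
        have ha : a ∈ Subgroup.center G := by rw [htop]; exact Subgroup.mem_top a
        exact ((Subgroup.mem_center_iff.mp ha) b).symm⟩⟩
      have := Cfsg.Agent.Helper17.prime_card_of_comm hcm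
      rw [hG] at this
      norm_num at this
  · rw [h, Subgroup.card_top, hG] at hodd
    exact absurd hodd (by decide)

/-- (SYL2) -/
theorem sylow2 (u : G) (hu : orderOf u = 4) :
    ∃ w : G, orderOf w = 2 ∧ w * u * w⁻¹ = u⁻¹ ∧ (∀ k : ℕ, IsConj (w * u ^ k) (u ^ 2)) ∧
      ∀ t : G, orderOf t = 2 → IsConj t (u ^ 2) := by
  classical
  have : Fact (Nat.Prime 2) := ⟨Nat.prime_two⟩
  have hpg : IsPGroup 2 (Subgroup.zpowers u) := by
    rw [IsPGroup.iff_card, Nat.card_zpowers, hu]; exact ⟨2, by norm_num⟩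
  obtain ⟨S, hSle⟩ := hpg.exists_le_sylow
  have huS : u ∈ (S : Subgroup G) := hSle (Subgroup.mem_zpowers u)
  have hS8 : Nat.card (S : Subgroup G) = 8 :=
    Cfsg.Agent.Helper17.sylow_card_eq S (k := 3) (m := 315) (by rw [hG]; norm_num) (by norm_num)
  have h4 := h21_pow4 u hu
  have hz2 : orderOf (u ^ 2) = 2 :=
    orderOf_eq_prime (by rw [← pow_mul]; exact h4) (h21_sq_ne_one u hu)
  have hzS : u ^ 2 ∈ (S : Subgroup G) := pow_mem huS 2
  have huQ : u ∈ Subgroup.zpowers u := Subgroup.mem_zpowers u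
  have huinv : u⁻¹ = u ^ 3 := by
    rw [inv_eq_iff_mul_eq_one, ← pow_succ']; exact h4
  have hidx := fun {a b : G} (ha : a ∈ (S : Subgroup G)) (hb : b ∈ (S : Subgroup G)) =>
    h21_idx2 (S : Subgroup G) u hS8 hu huS ha hb
  -- existence of `w`
  have hw : ∃ w ∈ (S : Subgroup G), orderOf w = 2 ∧ w * u * w⁻¹ = u⁻¹ := by
    by_contra hno
    push Not at hno
    apply h21_no_isolated hG S (u ^ 2) hz2 hzS
    intro g hg
    have ht2 : orderOf (g * u ^ 2 * g⁻¹) = 2 := by rw [h21_conj_orderOf, hz2]
    generalize ht : g * u ^ 2 * g⁻¹ = t at hg ht2 ⊢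
    by_cases htQ : t ∈ Subgroup.zpowers u
    · exact h21_invol_mem u hu ht2 htQ
    · have htinvQ : t⁻¹ ∉ Subgroup.zpowers u := fun h => htQ (by simpa using inv_mem h)
      have h1 : t * u ∉ Subgroup.zpowers u := by
        rw [hidx hg huS]; simp [htQ, huQ]
      have h2 : t * u * t⁻¹ ∈ Subgroup.zpowers u := by
        rw [hidx (mul_mem hg huS) (inv_mem hg)]; simp [h1, htinvQ]
      have h3 : orderOf (t * u * t⁻¹) = 4 := by rw [h21_conj_orderOf, hu]
      rcases Cfsg.Agent.Helper17.mem_zpowers_of_orderOf_four u _ hu h2 with h | h | h | h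
      · rw [h, orderOf_one] at h3; omega
      · -- `t` commutes with `u`: `S` is abelian, Burnside fusion
        have htu : t * u = u * t := by
          calc t * u = (t * u * t⁻¹) * t := by group
            _ = u * t := by rw [h]
        have hgen : ∀ x ∈ ({u, t} : Set G), ∀ y ∈ ({u, t} : Set G), x * y = y * x := by
          intro x hx y hy
          rcases hx with rfl | hx <;> rcases hy with rfl | hy
          · rfl
          · rw [Set.mem_singleton_iff.mp hy]; exact htu.symm
          · rw [Set.mem_singleton_iff.mp hx]; exact htu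
          · rw [Set.mem_singleton_iff.mp hx, Set.mem_singleton_iff.mp hy]
        have hK : (S : Subgroup G) ≤ Subgroup.closure ({u, t} : Set G) := by
          intro a ha
          have huK : u ∈ Subgroup.closure ({u, t} : Set G) :=
            Subgroup.subset_closure (by simp)
          have htK : t ∈ Subgroup.closure ({u, t} : Set G) :=
            Subgroup.subset_closure (by simp)
          have hQK : Subgroup.zpowers u ≤ Subgroup.closure ({u, t} : Set G) := by
            rw [Subgroup.zpowers_le]; exact huK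
          by_cases haQ : a ∈ Subgroup.zpowers u
          · exact hQK haQ
          · have h5 : t⁻¹ * a ∈ Subgroup.zpowers u := by
              rw [hidx (inv_mem hg) ha]; simp [htinvQ, haQ]
            have : a = t * (t⁻¹ * a) := by group
            rw [this]
            exact mul_mem htK (hQK h5)
        have hcomm : ∀ a ∈ (S : Subgroup G), ∀ b ∈ (S : Subgroup G), a * b = b * a := by
          intro a ha b hb
          have hc := Subgroup.isMulCommutative_closure hgen
          have := hc.is_comm.comm (⟨a, hK ha⟩ : Subgroup.closure ({u, t} : Set G)) ⟨b, hK hb⟩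
          exact congrArg Subtype.val this
        have hzc : u ^ 2 ∈ Subgroup.centralizer ((S : Subgroup G) : Set G) := by
          rw [Subgroup.mem_centralizer_iff]
          intro x hx
          exact hcomm x hx _ hzS
        have htc : g⁻¹⁻¹ * u ^ 2 * g⁻¹ ∈ Subgroup.centralizer ((S : Subgroup G) : Set G) := by
          rw [inv_inv, ht, Subgroup.mem_centralizer_iff]
          intro x hx
          exact hcomm x hx _ hg
        obtain ⟨n, hn, hn2⟩ := S.conj_eq_normalizer_conj_of_mem_centralizer (u ^ 2) g⁻¹ hzc htc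
        rw [inv_inv, ht] at hn2
        have := h21_norm_fix (S : Subgroup G) u hS8 hu huS (inv_mem hn)
        rw [inv_inv] at this
        rw [hn2, this]
      · rw [h, hz2] at h3; omega
      · exact absurd (by rw [h, huinv]) (hno t hg ht2)
  obtain ⟨w, hwS, hw2, hwu⟩ := hw
  have hwQ : w ∉ Subgroup.zpowers u := by
    intro h
    obtain ⟨k, rfl⟩ := Subgroup.mem_zpowers_iff.mp h
    have h5 : u ^ k * u * (u ^ k)⁻¹ = u := by group
    rw [h5] at hwu
    apply h21_sq_ne_one u hu
    rw [pow_two]
    nth_rewrite 2 [hwu]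
    exact mul_inv_cancel u
  have hw1 : w⁻¹ = w := by
    have : w ^ 2 = 1 := by rw [← hw2]; exact pow_orderOf_eq_one w
    rw [inv_eq_iff_mul_eq_one, ← pow_two]; exact this
  have hQle : Subgroup.zpowers u ≤ (S : Subgroup G) := by
    rw [Subgroup.zpowers_le]; exact huS
  have hrel := h21_relIndex (S : Subgroup G) u hS8 hu huS
  have hconjk : ∀ k : ℕ, IsConj (w * u ^ k) (u ^ 2) := by
    intro k
    have hkS : u ^ k ∈ (S : Subgroup G) := pow_mem huS k
    have hkQ : u ^ k ∈ Subgroup.zpowers u := pow_mem huQ k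
    have ht'S : w * u ^ k ∈ (S : Subgroup G) := mul_mem hwS hkS
    have ht'Q : w * u ^ k ∉ Subgroup.zpowers u := by
      rw [hidx hwS hkS]; simp [hwQ, hkQ]
    have h5 : w * u ^ k * w⁻¹ = (u ^ k)⁻¹ := by rw [← conj_pow, hwu, inv_pow]
    have hsq : (w * u ^ k) ^ 2 = 1 := by
      calc (w * u ^ k) ^ 2 = (w * u ^ k * w⁻¹) * u ^ k := by
            rw [pow_two, hw1]; simp [mul_assoc]
        _ = 1 := by rw [h5, inv_mul_cancel]
    have ht'1 : w * u ^ k ≠ 1 := fun h => ht'Q (h ▸ one_mem _)
    have ht'2 : orderOf (w * u ^ k) = 2 := orderOf_eq_prime hsq ht'1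
    rcases Cfsg.Agent.S0111.result S (Subgroup.zpowers u) hQle hrel (w * u ^ k) ht'2 ht'S ht'Q
      with ⟨M, hMn, hMi, _⟩ | ⟨g, hg⟩
    · exfalso
      rcases hMn.eq_bot_or_eq_top with h | h
      · rw [h, Subgroup.index_bot, hG] at hMi; omega
      · rw [h, Subgroup.index_top] at hMi; omega
    · have : g * (w * u ^ k) * g⁻¹ = u ^ 2 :=
        h21_invol_mem u hu (by rw [h21_conj_orderOf, ht'2]) hg
      exact isConj_iff.mpr ⟨g, this⟩
  refine ⟨w, hw2, hwu, hconjk, ?_⟩
  intro t ht
  have htp : IsPGroup 2 (Subgroup.zpowers t) := by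
    rw [IsPGroup.iff_card, Nat.card_zpowers, ht]; exact ⟨1, by norm_num⟩
  obtain ⟨g, hg⟩ := h21_exists_conj_mem_sylow S htp
  have hs2 : orderOf (g * t * g⁻¹) = 2 := by rw [h21_conj_orderOf, ht]
  have hts : IsConj t (g * t * g⁻¹) := isConj_iff.mpr ⟨g, rfl⟩
  by_cases hsQ : g * t * g⁻¹ ∈ Subgroup.zpowers u
  · have := h21_invol_mem u hu hs2 hsQ
    rw [this] at hts; exact hts
  · have hwiQ : w⁻¹ ∉ Subgroup.zpowers u := by rw [hw1]; exact hwQ
    have h1 : w⁻¹ * (g * t * g⁻¹) ∈ Subgroup.zpowers u := by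
      rw [hidx (inv_mem hwS) hg]; simp [hwiQ, hsQ]
    obtain ⟨k, hk⟩ := Cfsg.Agent.Helper17.exists_pow_of_mem_zpowers_four u _ hu h1
    have : g * t * g⁻¹ = w * u ^ k := by rw [← hk]; group
    rw [this] at hts
    exact hts.trans (hconjk k)

end grp

end Cfsg.Agent.Helper21.O2520
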