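import Mathlib

set_option autoImplicit false

namespace Cfsg.Agent.Helper21.O4320

universe u

section
variable {G : Type u} [Group G]

theorem h21_tinv (t : G) (ht : orderOf t = 2) : t⁻¹ = t := by
  have h : t ^ 2 = 1 := by rw [← ht]; exact pow_orderOf_eq_one t
  rw [inv_eq_iff_mul_eq_one, ← pow_two]; exact h

theorem h21_conj_mem (y t : G) (hty : t * y * t⁻¹ = y⁻¹) (z : G) (hz : z ∈ Subgroup.zpowers y) :
    t * z * t⁻¹ = z⁻¹ := by
  obtain ⟨k, rfl⟩ := hz
  rw [← conj_zpow, hty, inv_zpow]

/-- `z * t = t * z⁻¹` for `z ∈ ⟨y⟩`. -/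
theorem h21_swap (y t : G) (hty : t * y * t⁻¹ = y⁻¹) (z : G) (hz : z ∈ Subgroup.zpowers y) :
    z * t = t * z⁻¹ := by
  have h := h21_conj_mem y t hty z⁻¹ (inv_mem hz)
  rw [inv_inv] at h
  calc z * t = (t * z⁻¹ * t⁻¹) * t := by rw [h]
    _ = t * z⁻¹ := by group

/-- the dihedral subgroup `⟨y⟩ ∪ t⟨y⟩`. -/
def h21_dih (y t : G) (ht : orderOf t = 2) (hty : t * y * t⁻¹ = y⁻¹) : Subgroup G where
  carrier := {g | g ∈ Subgroup.zpowers y ∨ t⁻¹ * g ∈ Subgroup.zpowers y}
  one_mem' := Or.inl (one_mem _)
  mul_mem' := by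
    intro a b ha hb
    have hti := h21_tinv t ht
    rcases ha with ha | ha <;> rcases hb with hb | hb
    · exact Or.inl (mul_mem ha hb)
    · right
      have h1 := h21_swap y t hty a ha
      have : t⁻¹ * (a * b) = a⁻¹ * (t⁻¹ * b) := by
        have h2 : a * t = t * a⁻¹ := h1
        have h3 : t⁻¹ * a = a⁻¹ * t⁻¹ := by
          rw [hti]
          have h4 := h21_swap y t hty a⁻¹ (inv_mem ha)
          rw [inv_inv] at h4
          exact h4.symm
        calc t⁻¹ * (a * b) = (t⁻¹ * a) * b := by group
          _ = a⁻¹ * t⁻¹ * b := by rw [h3]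
          _ = a⁻¹ * (t⁻¹ * b) := by group
      rw [this]
      exact mul_mem (inv_mem ha) hb
    · right
      have : t⁻¹ * (a * b) = (t⁻¹ * a) * b := by group
      rw [this]
      exact mul_mem ha hb
    · left
      -- a = t z, b = t w ; a * b = t z t w = t t z⁻¹ w = z⁻¹ w
      set z := t⁻¹ * a with hz
      set w := t⁻¹ * b with hw
      have ha' : a = t * z := by rw [hz]; group
      have hb' : b = t * w := by rw [hw]; group
      have h1 := h21_swap y t hty z ha
      have htt : t * t = 1 := by
        have h : t ^ 2 = 1 := by rw [← ht]; exact pow_orderOf_eq_one t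
        rwa [pow_two] at h
      have : a * b = z⁻¹ * w := by
        calc a * b = t * (z * t) * w := by rw [ha', hb']; group
          _ = t * (t * z⁻¹) * w := by rw [h1]
          _ = (t * t) * z⁻¹ * w := by group
          _ = z⁻¹ * w := by rw [htt, one_mul]
      rw [this]
      exact mul_mem (inv_mem ha) hb
  inv_mem' := by
    intro a ha
    have hti := h21_tinv t ht
    rcases ha with ha | ha
    · exact Or.inl (inv_mem ha)
    · right
      set z := t⁻¹ * a with hz
      have ha' : a = t * z := by rw [hz]; group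
      have h1 := h21_conj_mem y t hty z⁻¹ (inv_mem ha)
      rw [inv_inv] at h1
      have : t⁻¹ * a⁻¹ = z := by
        rw [ha', mul_inv_rev]
        calc t⁻¹ * (z⁻¹ * t⁻¹) = t * z⁻¹ * t⁻¹ := by rw [hti]; group
          _ = z := h1
      rw [this]
      exact ha

theorem h21_closure_eq (y t : G) (ht : orderOf t = 2) (hty : t * y * t⁻¹ = y⁻¹) :
    Subgroup.closure ({y, t} : Set G) = h21_dih y t ht hty := by
  apply le_antisymm
  · rw [Subgroup.closure_le]
    intro g hg
    rcases hg with rfl | hg
    · exact Or.inl (Subgroup.mem_zpowers _)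
    · rw [Set.mem_singleton_iff] at hg
      subst hg
      right
      show g⁻¹ * g ∈ _
      rw [inv_mul_cancel]; exact one_mem _
  · intro g hg
    have hy : y ∈ Subgroup.closure ({y, t} : Set G) := Subgroup.subset_closure (by simp)
    have htm : t ∈ Subgroup.closure ({y, t} : Set G) := Subgroup.subset_closure (by simp)
    have hY : Subgroup.zpowers y ≤ Subgroup.closure ({y, t} : Set G) := by
      rw [Subgroup.zpowers_le]; exact hy
    rcases hg with hg | hg
    · exact hY hg
    · have : g = t * (t⁻¹ * g) := by group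
      rw [this]
      exact mul_mem htm (hY hg)

theorem h21_mem_iff [DecidableEq G] (y t : G) (hy : orderOf y = 5) (ht : orderOf t = 2)
    (hty : t * y * t⁻¹ = y⁻¹)
    (g : G) : g ∈ Subgroup.closure ({y, t} : Set G) ↔
      g ∈ (Finset.range 5).image (fun i => y ^ i) ∨ g ∈ (Finset.range 5).image (fun i => t * y ^ i) := by
  rw [h21_closure_eq y t ht hty]
  have hfin : IsOfFinOrder y := by
    rw [← orderOf_pos_iff, hy]; norm_num
  have hz : ∀ x : G, x ∈ Subgroup.zpowers y ↔ x ∈ (Finset.range 5).image (fun i => y ^ i) := by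
    intro x
    rw [hfin.mem_zpowers_iff_mem_range_orderOf, hy]
  constructor
  · rintro (h | h)
    · exact Or.inl ((hz g).1 h)
    · right
      have h' := (hz _).1 h
      rw [Finset.mem_image] at h' ⊢
      obtain ⟨i, hi, hi'⟩ := h'
      refine ⟨i, hi, ?_⟩
      show t * y ^ i = g
      rw [hi']; group
  · rintro (h | h)
    · exact Or.inl ((hz g).2 h)
    · right
      rw [Finset.mem_image] at h
      obtain ⟨i, hi, hi'⟩ := h
      apply (hz _).2
      rw [Finset.mem_image]
      refine ⟨i, hi, ?_⟩
      show y ^ i = t⁻¹ * g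
      rw [← hi']; group

theorem h21_disj (y t : G) (hy : orderOf y = 5) (ht : orderOf t = 2) (hty : t * y * t⁻¹ = y⁻¹)
    [DecidableEq G] :
    Disjoint ((Finset.range 5).image (fun i => y ^ i)) ((Finset.range 5).image (fun i => t * y ^ i)) := by
  rw [Finset.disjoint_left]
  intro g h1 h2
  rw [Finset.mem_image] at h1 h2
  obtain ⟨i, -, hi⟩ := h1
  obtain ⟨j, -, hj⟩ := h2
  -- t = y^i * y^-j ∈ zpowers y, so commutes with y
  have htz : t ∈ Subgroup.zpowers y := by
    have : t = y ^ i * (y ^ j)⁻¹ := by
      have : t * y ^ j = y ^ i := by rw [hj, hi]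
      rw [← this]; group
    rw [this]
    exact mul_mem (pow_mem (Subgroup.mem_zpowers y) i) (inv_mem (pow_mem (Subgroup.mem_zpowers y) j))
  obtain ⟨k, hk⟩ := htz
  have hcomm : t * y = y * t := by
    rw [← hk]
    exact ((Commute.refl y).zpow_left k).eq
  have : y = y⁻¹ := by
    rw [← hty, hcomm]; group
  have hy2 : y ^ 2 = 1 := by
    rw [pow_two]
    nth_rewrite 2 [this]
    exact mul_inv_cancel y
  have := orderOf_dvd_of_pow_eq_one hy2
  rw [hy] at this
  omega

theorem h21_inj1 (y : G) (hy : orderOf y = 5) :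
    Set.InjOn (fun i : ℕ => y ^ i) (Finset.range 5 : Set ℕ) := by
  intro i hi j hj hij
  simp only [Finset.coe_range, Set.mem_Iio] at hi hj
  have := pow_injOn_Iio_orderOf (x := y)
  rw [hy] at this
  exact this hi hj hij

theorem h21_inj2 (y t : G) (hy : orderOf y = 5) :
    Set.InjOn (fun i : ℕ => t * y ^ i) (Finset.range 5 : Set ℕ) := by
  intro i hi j hj hij
  exact h21_inj1 y hy hi hj (mul_left_cancel hij)

end

theorem dihedral_sum {G : Type u} [Group G] (y t : G) (hy : orderOf y = 5) (ht : orderOf t = 2)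
    (hty : t * y * t⁻¹ = y⁻¹) [Fintype (Subgroup.closure ({y, t} : Set G))] (f : G → ℂ) :
    Nat.card (Subgroup.closure ({y, t} : Set G)) = 10 ∧
    ∑ w : Subgroup.closure ({y, t} : Set G), f (w : G) =
      ∑ i ∈ Finset.range 5, f (y ^ i) + ∑ i ∈ Finset.range 5, f (t * y ^ i) := by
  classical
  set S : Finset G := (Finset.range 5).image (fun i => y ^ i) ∪ (Finset.range 5).image (fun i => t * y ^ i)
    with hS
  have himg : (Finset.univ : Finset (Subgroup.closure ({y, t} : Set G))).image Subtype.val = S := by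
    ext g
    rw [hS, Finset.mem_union, ← h21_mem_iff y t hy ht hty g]
    constructor
    · intro h
      rw [Finset.mem_image] at h
      obtain ⟨w, -, rfl⟩ := h
      exact w.2
    · intro h
      rw [Finset.mem_image]
      exact ⟨⟨g, h⟩, Finset.mem_univ _, rfl⟩
  have hcardS : S.card = 10 := by
    rw [hS, Finset.card_union_of_disjoint (h21_disj y t hy ht hty),
      Finset.card_image_of_injOn (h21_inj1 y hy), Finset.card_image_of_injOn (h21_inj2 y t hy)]
    simp
  constructor
  · rw [Nat.card_eq_fintype_card, ← Finset.card_univ, ← hcardS, ← himg,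
      Finset.card_image_of_injective _ Subtype.val_injective]
  · have h1 : ∑ w : Subgroup.closure ({y, t} : Set G), f (w : G) = ∑ g ∈ S, f g := by
      rw [← himg, Finset.sum_image]
      intro a _ b _ hab
      exact Subtype.val_injective hab
    rw [h1, hS, Finset.sum_union (h21_disj y t hy ht hty),
      Finset.sum_image (h21_inj1 y hy), Finset.sum_image (h21_inj2 y t hy)]

end Cfsg.Agent.Helper21.O4320
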