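import Mathlib
import Cfsg.Prelude.Def_Characters
import Cfsg.Agent.Lib.Helper78.CharBasic
import Cfsg.Agent.Lib.Helper21.O4320B2c2

set_option autoImplicit false

namespace Cfsg.Agent.Helper21.O4320

open Cfsg

universe u

/-- `t * y^i` is conjugate to `t` by `y^(2i)`. -/
theorem h21_ty_conj {G : Type u} [Group G] (y t : G) (hy : orderOf y = 5)
    (hty : t * y * t⁻¹ = y⁻¹) (i : ℕ) :
    y ^ (2 * i) * t * (y ^ (2 * i))⁻¹ = t * y ^ i := by
  have hz : y ^ (2 * i) ∈ Subgroup.zpowers y := pow_mem (Subgroup.mem_zpowers y) _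
  have h1 := h21_swap y t hty _ hz
  have h5 : y ^ 5 = 1 := by rw [← hy]; exact pow_orderOf_eq_one y
  have h2 : (y ^ (2 * i))⁻¹ * (y ^ (2 * i))⁻¹ = y ^ i := by
    have : y ^ i * (y ^ (2 * i) * y ^ (2 * i)) = 1 := by
      rw [← pow_add, ← pow_add]
      have : i + (2 * i + 2 * i) = 5 * i := by ring
      rw [this, pow_mul, h5, one_pow]
    have h3 : (y ^ (2 * i))⁻¹ * (y ^ (2 * i))⁻¹ = (y ^ (2 * i) * y ^ (2 * i))⁻¹ := by
      rw [mul_inv_rev]
    rw [h3]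
    exact (eq_inv_of_mul_eq_one_left this).symm
  calc y ^ (2 * i) * t * (y ^ (2 * i))⁻¹ = t * (y ^ (2 * i))⁻¹ * (y ^ (2 * i))⁻¹ := by rw [h1]
    _ = t * ((y ^ (2 * i))⁻¹ * (y ^ (2 * i))⁻¹) := by group
    _ = t * y ^ i := by rw [h2]

theorem h21_sum_zpowers {G : Type u} [Group G] (y : G) (hy : orderOf y = 5)
    [Fintype (Subgroup.zpowers y)] (f : G → ℂ) :
    ∑ w : Subgroup.zpowers y, f (w : G) = ∑ i ∈ Finset.range 5, f (y ^ i) := by
  have hfin : IsOfFinOrder y := by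
    rw [← orderOf_pos_iff, hy]; norm_num
  rw [← Equiv.sum_comp (finEquivZPowers hfin) (fun w => f (w : G))]
  have : ∀ n : Fin (orderOf y), f ((finEquivZPowers hfin n : Subgroup.zpowers y) : G) = f (y ^ (n : ℕ)) := by
    intro n
    rw [finEquivZPowers_apply]
  rw [Finset.sum_congr rfl (fun n _ => this n), Fin.sum_univ_eq_sum_range (fun i => f (y ^ i)), hy]

theorem dihedral_mult {G : Type u} [Group G] [Finite G] {χ : G → ℂ} (hχ : IsCharacter G χ) (y t : G)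
    (hy : orderOf y = 5) (ht : orderOf t = 2) (hty : t * y * t⁻¹ = y⁻¹)
    (hconj : ∀ k : ℕ, 0 < k → k < 5 → IsConj y (y ^ k)) (d : ℕ) (hd : χ 1 = (d : ℂ)) (c : ℤ)
    (hc : ((c : ℤ) : ℂ) = χ y)
    (hsum : ∀ (P D : Subgroup G) [Fintype P] [Fintype D], P ≤ D →
      ∃ m₀ m₁ : ℕ, m₁ ≤ m₀ ∧ ∑ w : P, χ (w : G) = (Nat.card P : ℂ) * (m₀ : ℂ) ∧
        ∑ w : D, χ (w : G) = (Nat.card D : ℂ) * (m₁ : ℂ))
    (hD : ∀ [Fintype (Subgroup.closure ({y, t} : Set G))] (f : G → ℂ),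
      Nat.card (Subgroup.closure ({y, t} : Set G)) = 10 ∧
      ∑ w : Subgroup.closure ({y, t} : Set G), f (w : G) =
        ∑ i ∈ Finset.range 5, f (y ^ i) + ∑ i ∈ Finset.range 5, f (t * y ^ i)) :
    ∃ (s : ℤ) (m₁ m₂ : ℕ), ((s : ℤ) : ℂ) = χ t ∧ 10 * (m₁ : ℤ) = (d : ℤ) + 4 * c + 5 * s ∧
      10 * (m₂ : ℤ) = (d : ℤ) + 4 * c - 5 * s := by
  classical
  have hcf := Cfsg.Agent.Helper78.IsCharacter.isClassFunction hχ
  haveI : Fintype G := Fintype.ofFinite G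
  haveI : Fintype (Subgroup.zpowers y) := Fintype.ofFinite _
  haveI : Fintype (Subgroup.closure ({y, t} : Set G)) := Fintype.ofFinite _
  have hPD : Subgroup.zpowers y ≤ Subgroup.closure ({y, t} : Set G) := by
    rw [Subgroup.zpowers_le]; exact Subgroup.subset_closure (by simp)
  obtain ⟨m₀, m₁, hle, hP, hDs⟩ := hsum (Subgroup.zpowers y) (Subgroup.closure ({y, t} : Set G)) hPD
  obtain ⟨hcard, hDsum⟩ := hD χ
  -- values
  have hyi : ∀ i ∈ Finset.range 5, χ (y ^ i) = if i = 0 then (d : ℂ) else (c : ℂ) := by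
    intro i hi
    rw [Finset.mem_range] at hi
    by_cases h0 : i = 0
    · subst h0; simp [hd]
    · rw [if_neg h0]
      obtain ⟨g, hg⟩ := isConj_iff.mp (hconj i (Nat.pos_of_ne_zero h0) hi)
      rw [← hg, hcf y g, hc]
  have hs1 : ∑ i ∈ Finset.range 5, χ (y ^ i) = (d : ℂ) + 4 * (c : ℂ) := by
    rw [Finset.sum_congr rfl hyi]
    simp [Finset.sum_range_succ]
    ring
  have hti : ∀ i ∈ Finset.range 5, χ (t * y ^ i) = χ t := by
    intro i _
    rw [← h21_ty_conj y t hy hty i, hcf t]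
  have hs2 : ∑ i ∈ Finset.range 5, χ (t * y ^ i) = 5 * χ t := by
    rw [Finset.sum_congr rfl hti]
    simp
  have hcardP : Nat.card (Subgroup.zpowers y) = 5 := by
    rw [Nat.card_zpowers, hy]
  rw [h21_sum_zpowers y hy χ, hs1, hcardP] at hP
  rw [hDsum, hs1, hs2, hcard] at hDs
  -- 5 m₀ = d + 4c ; 10 m₁ = d + 4c + 5 χ t
  have hχt : χ t = ((2 * (m₁ : ℤ) - (m₀ : ℤ) : ℤ) : ℂ) := by
    push_cast
    push_cast at hP hDs
    linear_combination (1 / 5 : ℂ) * hDs - (1 / 5 : ℂ) * hP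
  have h5 : (5 : ℤ) * (m₀ : ℤ) = (d : ℤ) + 4 * c := by
    have : (((5 : ℤ) * (m₀ : ℤ) : ℤ) : ℂ) = (((d : ℤ) + 4 * c : ℤ) : ℂ) := by
      push_cast
      push_cast at hP
      linear_combination -hP
    exact_mod_cast this
  refine ⟨2 * (m₁ : ℤ) - (m₀ : ℤ), m₁, m₀ - m₁, hχt.symm, ?_, ?_⟩
  · linarith
  · rw [Nat.cast_sub hle]
    linarith

end Cfsg.Agent.Helper21.O4320
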