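import Mathlib

set_option autoImplicit false

namespace Cfsg.Agent.Helper21.O4320

open MulAction

universe u

section GT

variable {G : Type u} [Group G] [Finite G] [IsSimpleGroup G]

theorem false_of_thirtysix_sixty (hG : Nat.card G = 4320) (h36 : Nat.card (Sylow 5 G) = 36) (R : Sylow 5 G)
    (hC : Nat.card (Subgroup.centralizer ((R : Subgroup G) : Set G)) = 60)
    (hA : ∀ u : G, orderOf u = 2 → u ∈ Subgroup.centralizer ((R : Subgroup G) : Set G) →
      ∃ m : ℕ, (m = 10 ∨ m = 30) ∧
        Nat.card ↥(Subgroup.normalizer ((R : Subgroup G) : Set G) ⊓ Subgroup.centralizer ({u} : Set G)) = m ∧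
        Nat.card (Subgroup.centralizer ({u} : Set G)) = 16 * m) : False := by
  haveI : Fact (Nat.Prime 2) := ⟨Nat.prime_two⟩
  set C : Subgroup G := Subgroup.centralizer ((R : Subgroup G) : Set G) with hCdef
  have hdvd : 2 ^ 2 ∣ Nat.card C := by rw [hC]; norm_num
  obtain ⟨K, hK⟩ := Sylow.exists_subgroup_card_pow_prime 2 hdvd
  -- K commutative, has an involution
  have hcomm := IsPGroup.commutative_of_card_eq_prime_sq (p := 2) hK
  have h2K : 2 ∣ Nat.card K := by rw [hK]; norm_num
  obtain ⟨x, hx⟩ := exists_prime_orderOf_dvd_card' 2 h2K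
  set u : G := ((x : C) : G) with hu
  have hu2 : orderOf u = 2 := by
    rw [hu, Subgroup.orderOf_coe, Subgroup.orderOf_coe, hx]
  have huC : u ∈ C := (x : C).2
  obtain ⟨m, hm, hcardm, -⟩ := hA u hu2 huC
  -- V = image of K in G
  set V : Subgroup G := (K.map C.subtype) with hV
  have hVcard : Nat.card V = 4 := by
    rw [hV, Subgroup.card_map_of_injective (Subgroup.subtype_injective C), hK]; norm_num
  have hVle : V ≤ Subgroup.normalizer ((R : Subgroup G) : Set G) ⊓ Subgroup.centralizer ({u} : Set G) := by
    intro g hg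
    rw [hV, Subgroup.mem_map] at hg
    obtain ⟨k, hk, rfl⟩ := hg
    refine ⟨?_, ?_⟩
    · exact Subgroup.centralizer_le_normalizer _ k.2
    · show C.subtype k ∈ Subgroup.centralizer ({u} : Set G)
      rw [Subgroup.mem_centralizer_iff]
      intro h hh
      rw [Set.mem_singleton_iff] at hh
      subst hh
      have := hcomm x ⟨k, hk⟩
      have h2 := congrArg (fun z : K => ((z : C) : G)) this
      simpa using h2
  have := Subgroup.card_dvd_of_le hVle
  rw [hVcard, hcardm] at this
  rcases hm with rfl | rfl <;> omega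

end GT

end Cfsg.Agent.Helper21.O4320
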