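import Cfsg.Agent.Lib.Helper21.Components
import Cfsg.Agent.Lib.Helper30.Cores
import Cfsg.Agent.Lib.Helper34.Components

/-!
# p-components (helper21)

* `isQuasisimple_of_surjective_of_ker_le_center` : a perfect central extension of a quasisimple
  group is quasisimple.
* `subgroupOf_pPrimeCore_eq` : for `K` subnormal in finite `X`, `K ∩ O_{p'}(X) = O_{p'}(K)`.
* `quotientPPrimeCoreEquiv` : `K / O_{p'}(K) ≃* image of K in X / O_{p'}(X)` for subnormal `K`.
-/

set_option autoImplicit false

namespace Cfsg.Agent.Helper21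

open Subgroup
open scoped commutatorElement

/-- A perfect group mapping onto a quasisimple group with central kernel is quasisimple. -/
theorem isQuasisimple_of_surjective_of_ker_le_center {K Q : Type*} [Group K] [Group Q]
    (f : K →* Q) (hf : Function.Surjective f) (hQ : IsQuasisimple Q) (hK : Group.IsPerfect K)
    (hker : f.ker ≤ center K) : IsQuasisimple K := by
  refine ⟨hK, ?_⟩
  let ψ : K →* Q ⧸ center Q := (QuotientGroup.mk' (center Q)).comp f
  have hψ : Function.Surjective ψ := (QuotientGroup.mk'_surjective _).comp hf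
  set Z1 : Subgroup K := ψ.ker with hZ1
  have hmemZ1 : ∀ z : K, z ∈ Z1 ↔ f z ∈ center Q := by
    intro z
    rw [hZ1, MonoidHom.mem_ker]
    show (QuotientGroup.mk' (center Q)) (f z) = 1 ↔ _
    rw [QuotientGroup.mk'_apply, QuotientGroup.eq_one_iff]
  have h1 : ⁅Z1, (⊤ : Subgroup K)⁆ ≤ f.ker := by
    rw [Subgroup.commutator_le]
    intro z hz k _
    rw [MonoidHom.mem_ker, map_commutatorElement, commutatorElement_eq_one_iff_mul_comm]
    exact (Subgroup.mem_center_iff.1 ((hmemZ1 z).1 hz) (f k)).symm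
  have h3 : ⁅⁅Z1, (⊤ : Subgroup K)⁆, (⊤ : Subgroup K)⁆ = ⊥ := by
    rw [eq_bot_iff]
    calc ⁅⁅Z1, (⊤ : Subgroup K)⁆, (⊤ : Subgroup K)⁆ ≤ ⁅center K, ⊤⁆ :=
          Subgroup.commutator_mono (h1.trans hker) le_rfl
      _ = ⊥ := Subgroup.commutator_center_left _
  have h4 : ⁅⁅(⊤ : Subgroup K), Z1⁆, (⊤ : Subgroup K)⁆ = ⊥ := by
    rwa [Subgroup.commutator_comm ⊤ Z1]
  have h5 : ⁅(⊤ : Subgroup K), Z1⁆ = ⊥ := by
    have := Subgroup.commutator_commutator_eq_bot_of_rotate h4 h3
    rwa [← _root_.commutator_def, hK.commutator_eq_top] at this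
  have h6 : Z1 ≤ center K := Subgroup.commutator_top_left_eq_bot_iff_le_center.1 h5
  have hkerψ : center K = ψ.ker := by
    apply le_antisymm
    · intro z hz
      show z ∈ Z1
      rw [hmemZ1, Subgroup.mem_center_iff]
      intro y
      obtain ⟨k, rfl⟩ := hf y
      rw [← map_mul, ← map_mul, Subgroup.mem_center_iff.1 hz k]
    · exact h6
  have hs : IsSimpleGroup (Q ⧸ center Q) := hQ.2
  exact ((QuotientGroup.quotientMulEquivOfEq hkerψ).trans
    (QuotientGroup.quotientKerEquivOfSurjective ψ hψ)).isSimpleGroup_congr.2 hs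

variable {X : Type*} [Group X]

/-- For `K` subnormal in the finite group `X`, `K ∩ O_{p'}(X) = O_{p'}(K)`. -/
theorem subgroupOf_pPrimeCore_eq [Finite X] (p : ℕ) {K : Subgroup X} (hK : K.IsSubnormal) :
    (pPrimeCore p X).subgroupOf K = pPrimeCore p ↥K := by
  apply le_antisymm
  · apply Cfsg.Agent.Helper30.le_pPrimeCore inferInstance
    have h1 : Nat.card ↥((pPrimeCore p X).subgroupOf K) ∣ Nat.card ↥(pPrimeCore p X) := by
      have e := ((pPrimeCore p X).subgroupOf K).equivMapOfInjective K.subtype K.subtype_injective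
      rw [Nat.card_congr e.toEquiv, Subgroup.subgroupOf_map_subtype]
      exact Subgroup.card_dvd_of_le inf_le_left
    exact Nat.Coprime.coprime_dvd_left h1 (Cfsg.Agent.Helper30.pPrimeCore_coprime p)
  · intro k hk
    rw [Subgroup.mem_subgroupOf]
    exact Cfsg.Agent.Helper30.pPrimeCore_subnormal_map_le p hK ⟨k, hk, rfl⟩

/-- `K / O_{p'}(K)` is isomorphic to the image of `K` in `X / O_{p'}(X)` (`K` subnormal). -/
noncomputable def quotientPPrimeCoreEquiv [Finite X] (p : ℕ) {K : Subgroup X}
    (hK : K.IsSubnormal) :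
    ↥K ⧸ pPrimeCore p ↥K ≃* ↥(K.map (QuotientGroup.mk' (pPrimeCore p X))) := by
  let π := QuotientGroup.mk' (pPrimeCore p X)
  let φ : ↥K →* ↥(K.map π) := π.subgroupMap K
  have hφ : Function.Surjective φ := π.subgroupMap_surjective K
  have hker : pPrimeCore p ↥K = φ.ker := by
    rw [← subgroupOf_pPrimeCore_eq p hK]
    ext k
    rw [Subgroup.mem_subgroupOf, MonoidHom.mem_ker]
    constructor
    · intro h
      apply Subtype.ext
      show π (k : X) = 1
      rw [QuotientGroup.mk'_apply, QuotientGroup.eq_one_iff]; exact h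
    · intro h
      have : π (k : X) = 1 := congrArg Subtype.val h
      rwa [QuotientGroup.mk'_apply, QuotientGroup.eq_one_iff] at this
  exact (QuotientGroup.quotientMulEquivOfEq hker).trans
    (QuotientGroup.quotientKerEquivOfSurjective φ hφ)

/-- For a `p`-component `K` of a finite group, `K / O_{p'}(K)` is quasisimple. -/
theorem pComponent_quotient_isQuasisimple [Finite X] (p : ℕ) {K : Subgroup X}
    (hK : IsPComponent p K) : IsQuasisimple (↥K ⧸ pPrimeCore p ↥K) :=
  isQuasisimple_of_mulEquiv (quotientPPrimeCoreEquiv p hK.1).symm hK.2.1.2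

/-- the image of a `p`-component is nontrivial -/
theorem pComponent_not_le_pPrimeCore (p : ℕ) {K : Subgroup X}
    (hK : IsPComponent p K) : ¬ K ≤ pPrimeCore p X := by
  intro h
  have hq := hK.2.1.2
  have hbot : K.map (QuotientGroup.mk' (pPrimeCore p X)) = ⊥ := by
    rw [Subgroup.map_eq_bot_iff, QuotientGroup.ker_mk']
    exact h
  have hnt := quasisimple_nontrivial hq
  rw [hbot] at hnt
  exact not_subsingleton _ (inferInstance : Subsingleton (⊥ : Subgroup (X ⧸ pPrimeCore p X)))

end Cfsg.Agent.Helper21
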