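import Mathlib
import Cfsg.Agent.Lib.Helper87.Psl3Defs

/-!
# PSL3F piece (SCsp) `strongly_closed_split` (helper21, for helper87's S5318 server)

No proper nontrivial strongly closed subgroup of `S3` in `SL₃(F)` when `i² = -1`.
`D α β := rot ((α+β)/2) ((β-α) i/2)` is the element of the torus `Eu` with eigenvalues `α` on `(1,i)`
and `β` on `(1,-i)`; `D : Fˣ × Fˣ → Eu` is an isomorphism, `tau` swaps `α` and `β`, and the element
`gS` of `SL₃(F)` (a 3-cycle on the eigenlines `(1,i,0)`, `(1,-i,0)`, `(0,0,1)`) conjugates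
`iota (D γ γ⁻¹)` to `iota (D 1 γ)`.
-/

set_option autoImplicit false

namespace Cfsg.Agent.Helper21.Psl3

open Matrix Cfsg.Agent.Helper87.Psl3

variable {F : Type*} [Field F]

local notation "SL3" => Matrix.SpecialLinearGroup (Fin 3) F
local notation "GL2" => GL (Fin 2) F

/-- the torus element with eigenvalues `α`, `β` (as a matrix) -/
def Dm (i α β : F) : Matrix (Fin 2) (Fin 2) F := rot ((α + β) / 2) ((β - α) * i / 2)

theorem rot_inj {a b c d : F} (h : rot a b = rot c d) : a = c ∧ b = d := by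
  have h0 := congrFun (congrFun h 0) 0
  have h1 := congrFun (congrFun h 0) 1
  simp [rot] at h0 h1
  exact ⟨h0, h1⟩

theorem Dm_mul (h2 : (2 : F) ≠ 0) {i : F} (hi : i * i = -1) (α β α' β' : F) :
    Dm i α β * Dm i α' β' = Dm i (α * α') (β * β') := by
  unfold Dm
  rw [rot_mul]
  congr 1
  · field_simp
    linear_combination (-(β - α) * (β' - α')) * hi
  · field_simp
    ring

theorem Dm_one (h2 : (2 : F) ≠ 0) (i : F) : Dm i 1 1 = 1 := by
  unfold Dm
  rw [← rot_one]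
  congr 1
  · field_simp; norm_num
  · simp

/-- the torus element with eigenvalues `α`, `β` -/
def D (h2 : (2 : F) ≠ 0) {i : F} (hi : i * i = -1) (α β : Fˣ) : GL2 :=
  ⟨Dm i α β, Dm i (α⁻¹ : Fˣ) (β⁻¹ : Fˣ),
    by rw [Dm_mul h2 hi, ← Units.val_mul, ← Units.val_mul, mul_inv_cancel, mul_inv_cancel,
      Units.val_one, Dm_one h2],
    by rw [Dm_mul h2 hi, ← Units.val_mul, ← Units.val_mul, inv_mul_cancel, inv_mul_cancel,
      Units.val_one, Dm_one h2]⟩

section

variable (h2 : (2 : F) ≠ 0) {i : F} (hi : i * i = -1)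

@[simp] theorem D_val (α β : Fˣ) :
    ((D h2 hi α β : GL2) : Matrix (Fin 2) (Fin 2) F) = Dm i α β := rfl

theorem D_mul (α β α' β' : Fˣ) : D h2 hi α β * D h2 hi α' β' = D h2 hi (α * α') (β * β') := by
  apply Units.ext
  rw [Units.val_mul, D_val, D_val, D_val, Dm_mul h2 hi, Units.val_mul, Units.val_mul]

theorem D_one : D h2 hi 1 1 = 1 := by
  apply Units.ext
  rw [D_val, Units.val_one, Units.val_one, Dm_one h2]

theorem D_pow (α β : Fˣ) (n : ℕ) : D h2 hi α β ^ n = D h2 hi (α ^ n) (β ^ n) := by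
  induction n with
  | zero => simp [D_one]
  | succ n ih => rw [pow_succ, ih, D_mul, pow_succ, pow_succ]

theorem D_mem_Eu (α β : Fˣ) : D h2 hi α β ∈ (Eu : Subgroup GL2) :=
  (mem_Eu_iff _).2 ⟨_, _, rfl⟩

theorem D_mem_P2 {α β : Fˣ} {m : ℕ} (hα : α ^ (2 ^ m) = 1) (hβ : β ^ (2 ^ m) = 1) :
    D h2 hi α β ∈ (P2 : Subgroup GL2) :=
  ⟨D_mem_Eu h2 hi α β, m, by rw [D_pow, hα, hβ, D_one]⟩

include hi in
theorem i_ne_zero : i ≠ 0 := by
  rintro rfl
  simp at hi

theorem D_eq_one {α β : Fˣ} (h : D h2 hi α β = 1) : α = 1 ∧ β = 1 := by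
  have hv : Dm i (α : F) β = rot 1 0 := by
    rw [rot_one, ← D_val h2 hi, h, Units.val_one]
  obtain ⟨h0, h1⟩ := rot_inj hv
  have hi0 := i_ne_zero hi
  have hβα : (β : F) = α := by
    have : ((β : F) - α) * i = 0 := by
      field_simp at h1
      linear_combination h1
    rcases mul_eq_zero.mp this with h | h
    · exact sub_eq_zero.mp h
    · exact absurd h hi0
  have hα1 : (α : F) = 1 := by
    rw [hβα] at h0
    field_simp at h0
    have h3 : ((α : F) - 1) * 2 = 0 := by linear_combination h0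
    rcases mul_eq_zero.mp h3 with h | h
    · exact sub_eq_zero.mp h
    · exact absurd h h2
  constructor
  · exact Units.ext hα1
  · exact Units.ext (by rw [hβα, hα1, Units.val_one])

theorem exists_D_of_mem_Eu {X : GL2} (hX : X ∈ (Eu : Subgroup GL2)) :
    ∃ α β : Fˣ, X = D h2 hi α β := by
  obtain ⟨a, b, hab⟩ := (mem_Eu_iff X).1 hX
  have hdet : a * a + b * b ≠ 0 := by
    have h1 : ((Matrix.GeneralLinearGroup.det X : Fˣ) : F) =
        (X : Matrix (Fin 2) (Fin 2) F).det := rfl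
    have h3 : (X : Matrix (Fin 2) (Fin 2) F).det = a * a + b * b := by
      rw [hab, Matrix.det_fin_two]
      simp [rot]
    rw [← h3, ← h1]
    exact Units.ne_zero _
  have hprod : (a + b * i) * (a - b * i) = a * a + b * b := by
    linear_combination (-(b * b)) * hi
  have hα0 : a + b * i ≠ 0 := by
    intro h
    rw [h, zero_mul] at hprod
    exact hdet hprod.symm
  have hβ0 : a - b * i ≠ 0 := by
    intro h
    rw [h, mul_zero] at hprod
    exact hdet hprod.symm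
  refine ⟨Units.mk0 _ hα0, Units.mk0 _ hβ0, ?_⟩
  apply Units.ext
  rw [hab, D_val]
  unfold Dm
  simp only [Units.val_mk0]
  congr 1
  · field_simp
    ring
  · field_simp
    linear_combination (2 * b) * hi

theorem exists_D_of_mem_P2 {X : GL2} (hX : X ∈ (P2 : Subgroup GL2)) :
    ∃ (α β : Fˣ) (m : ℕ), X = D h2 hi α β ∧ α ^ (2 ^ m) = 1 ∧ β ^ (2 ^ m) = 1 := by
  obtain ⟨hE, m, hm⟩ := hX
  obtain ⟨α, β, rfl⟩ := exists_D_of_mem_Eu h2 hi hE
  rw [D_pow] at hm
  obtain ⟨h1, h2'⟩ := D_eq_one h2 hi hm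
  exact ⟨α, β, m, rfl, h1, h2'⟩

theorem tau_mul_tau' : (tau : GL2) * tau = 1 := by
  apply Units.ext
  rw [Units.val_mul, tau_val, Units.val_one]
  ext r c
  fin_cases r <;> fin_cases c <;> simp [Matrix.mul_apply, Fin.sum_univ_two]

theorem tau_D_tau (α β : Fˣ) : (tau : GL2) * D h2 hi α β * tau = D h2 hi β α := by
  apply Units.ext
  rw [Units.val_mul, Units.val_mul, tau_val, D_val, D_val]
  unfold Dm rot
  ext r c
  fin_cases r <;> fin_cases c <;> simp [Matrix.mul_apply, Fin.sum_univ_two] <;> ring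

include h2 hi in
theorem tau_conj_mem_P2' {X : GL2} (hX : X ∈ (P2 : Subgroup GL2)) :
    (tau : GL2) * X * tau ∈ (P2 : Subgroup GL2) := by
  obtain ⟨α, β, m, rfl, hα, hβ⟩ := exists_D_of_mem_P2 h2 hi hX
  rw [tau_D_tau]
  exact D_mem_P2 h2 hi hβ hα

theorem det_D (α β : Fˣ) : Matrix.GeneralLinearGroup.det (D h2 hi α β) = α * β := by
  apply Units.ext
  have h1 : ((Matrix.GeneralLinearGroup.det (D h2 hi α β) : Fˣ) : F) =
      ((D h2 hi α β : GL2) : Matrix (Fin 2) (Fin 2) F).det := rfl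
  rw [h1, D_val, Units.val_mul]
  unfold Dm
  rw [Matrix.det_fin_two]
  simp [rot]
  field_simp
  linear_combination ((β - α : F) * (β - α)) * hi

theorem iotaMat_D (α β : Fˣ) :
    iotaMat (D h2 hi α β) =
      !![((α : F) + β) / 2, ((β : F) - α) * i / 2, 0;
         -(((β : F) - α) * i / 2), ((α : F) + β) / 2, 0;
         0, 0, (((α * β)⁻¹ : Fˣ) : F)] := by
  unfold iotaMat
  rw [det_D, D_val]
  unfold Dm rot
  simp

/-- the 3-cycle `(0,0,1) ↦ (1,i,0) ↦ (1,-i,0) ↦ (0,0,1)` on eigenlines -/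
def gMat (i : F) : Matrix (Fin 3) (Fin 3) F :=
  !![1 / 2, -i / 2, 1; -i / 2, -1 / 2, i; 1 / 2, i / 2, 0]

include h2 hi in
theorem det_gMat : (gMat i).det = 1 := by
  unfold gMat
  rw [Matrix.det_fin_three]
  simp
  field_simp
  linear_combination (-3 : F) * hi

/-- the conjugating element of `SL₃(F)` -/
def gS : SL3 := ⟨gMat i, det_gMat h2 hi⟩

theorem gS_conj (γ : Fˣ) :
    gS h2 hi * iota (D h2 hi γ γ⁻¹) = iota (D h2 hi 1 γ) * gS h2 hi := by
  apply Subtype.ext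
  show gMat i * iotaMat (D h2 hi γ γ⁻¹) = iotaMat (D h2 hi 1 γ) * gMat i
  rw [iotaMat_D, iotaMat_D]
  have hγ : (γ : F) ≠ 0 := Units.ne_zero γ
  have e1 : (((γ * γ⁻¹)⁻¹ : Fˣ) : F) = 1 := by simp
  have e2 : (((1 * γ)⁻¹ : Fˣ) : F) = (γ : F)⁻¹ := by simp
  have e3 : ((γ⁻¹ : Fˣ) : F) = (γ : F)⁻¹ := by simp
  rw [e1, e2, e3, Units.val_one]
  unfold gMat
  ext r c
  fin_cases r <;> fin_cases c <;>
    simp [Matrix.mul_apply, Fin.sum_univ_three] <;> field_simp <;>
    first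
      | ring1
      | linear_combination ((γ : F) ^ 2 - 1) * hi
      | linear_combination (1 - (γ : F) ^ 2) * hi
      | linear_combination ((γ : F) - 1) * hi
      | linear_combination (1 - (γ : F)) * hi

include h2 hi in
/-- elements of `S2` lie in `P2` or in `P2 * tau` -/
theorem mem_S2_cases {X : GL2} (hX : X ∈ (S2 : Subgroup GL2)) :
    X ∈ (P2 : Subgroup GL2) ∨ X * tau ∈ (P2 : Subgroup GL2) := by
  have htt : (tau : GL2) * tau = 1 := tau_mul_tau'
  let K : Subgroup GL2 :=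
    { carrier := {X | X ∈ (P2 : Subgroup GL2) ∨ X * tau ∈ (P2 : Subgroup GL2)}
      one_mem' := Or.inl (Subgroup.one_mem _)
      mul_mem' := by
        rintro X Y (hX | hX) (hY | hY)
        · exact Or.inl (Subgroup.mul_mem _ hX hY)
        · right
          rw [mul_assoc]
          exact Subgroup.mul_mem _ hX hY
        · right
          have e : X * Y * tau = (X * tau) * (tau * Y * tau) := by
            calc X * Y * tau = X * (tau * tau) * Y * tau := by rw [htt, mul_one]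
              _ = (X * tau) * (tau * Y * tau) := by group
          rw [e]
          exact Subgroup.mul_mem _ hX (tau_conj_mem_P2' h2 hi hY)
        · left
          have e : X * Y = (X * tau) * (tau * (Y * tau) * tau) := by
            calc X * Y = X * (tau * tau) * Y * (tau * tau) := by rw [htt, mul_one, mul_one]
              _ = (X * tau) * (tau * (Y * tau) * tau) := by group
          rw [e]
          exact Subgroup.mul_mem _ hX (tau_conj_mem_P2' h2 hi hY)
      inv_mem' := by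
        rintro X (hX | hX)
        · exact Or.inl (Subgroup.inv_mem _ hX)
        · right
          have hti : (tau : GL2)⁻¹ = tau := inv_eq_of_mul_eq_one_right htt
          have e : X⁻¹ * tau = tau * (X * tau)⁻¹ * tau := by
            rw [_root_.mul_inv_rev, hti]
            calc X⁻¹ * tau = (tau * tau) * X⁻¹ * tau := by rw [htt, one_mul]
              _ = tau * (tau * X⁻¹) * tau := by group
          rw [e]
          exact tau_conj_mem_P2' h2 hi (Subgroup.inv_mem _ hX) }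
  have hle : (S2 : Subgroup GL2) ≤ K := by
    unfold S2
    apply sup_le
    · intro Y hY
      exact Or.inl hY
    · rw [Subgroup.zpowers_le]
      right
      rw [htt]
      exact Subgroup.one_mem _
  exact hle hX

include h2 hi in
/-- `S2` is a 2-group -/
theorem exists_pow_eq_one_of_mem_S2 {X : GL2} (hX : X ∈ (S2 : Subgroup GL2)) :
    ∃ m : ℕ, X ^ (2 ^ m) = 1 := by
  rcases mem_S2_cases h2 hi hX with h | h
  · exact h.2
  · have htt : (tau : GL2) * tau = 1 := tau_mul_tau'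
    have hX2 : X * X = (X * tau) * (tau * (X * tau) * tau) := by
      calc X * X = X * (tau * tau) * X * (tau * tau) := by rw [htt, mul_one, mul_one]
        _ = (X * tau) * (tau * (X * tau) * tau) := by group
    have hmem : X * X ∈ (P2 : Subgroup GL2) := by
      rw [hX2]
      exact Subgroup.mul_mem _ h (tau_conj_mem_P2' h2 hi h)
    obtain ⟨m, hm⟩ := hmem.2
    refine ⟨m + 1, ?_⟩
    rw [pow_succ', pow_mul, pow_two]
    exact hm

end

/-- **(SCsp)** no proper nontrivial strongly closed subgroup of `S3`, case `i² = -1`. -/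
theorem strongly_closed_split [Finite F] (h2 : (2 : F) ≠ 0) (i : F) (hi : i * i = -1)
    (hINV : ∀ g : SL3, g * g = 1 → g ≠ 1 → ∃ c : SL3, c * g * c⁻¹ = zz)
    (T : Subgroup SL3) (hT : T ≤ S3) (hT1 : T ≠ ⊥)
    (hcl : ∀ t ∈ T, ∀ g : SL3, g * t * g⁻¹ ∈ (S3 : Subgroup SL3) → g * t * g⁻¹ ∈ T) : T = S3 := by
  have htt : (tau : GL2) * tau = 1 := tau_mul_tau'
  -- an involution `t₀` of `T`
  obtain ⟨⟨t, htT⟩, ht1'⟩ := (Subgroup.ne_bot_iff_exists_ne_one).mp hT1
  have ht1 : t ≠ 1 := fun h => ht1' (Subtype.ext h)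
  have hex : ∃ m : ℕ, t ^ (2 ^ m) = 1 := by
    obtain ⟨X, hX, rfl⟩ := Subgroup.mem_map.mp (hT htT)
    obtain ⟨m, hm⟩ := exists_pow_eq_one_of_mem_S2 h2 hi hX
    exact ⟨m, by rw [← map_pow, hm, map_one]⟩
  classical
  have hm₀ := Nat.find_spec hex
  have hm₀0 : Nat.find hex ≠ 0 := by
    intro h0
    rw [h0, pow_zero, pow_one] at hm₀
    exact ht1 hm₀
  obtain ⟨k, hk⟩ := Nat.exists_eq_succ_of_ne_zero hm₀0
  have ht₀1 : t ^ (2 ^ k) ≠ 1 := by
    intro h
    have := Nat.find_min' hex h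
    omega
  have ht₀2 : t ^ (2 ^ k) * t ^ (2 ^ k) = 1 := by
    rw [← pow_add, ← two_mul, ← pow_succ', ← Nat.succ_eq_add_one, ← hk]
    exact hm₀
  have ht₀T : t ^ (2 ^ k) ∈ T := Subgroup.pow_mem _ htT _
  -- every involution of `S3` lies in `T`
  have hinv : ∀ s ∈ (S3 : Subgroup SL3), s * s = 1 → s ∈ T := by
    intro s hs hs2
    by_cases hs1 : s = 1
    · rw [hs1]; exact Subgroup.one_mem _
    · obtain ⟨c₁, hc₁⟩ := hINV _ ht₀2 ht₀1
      obtain ⟨c₂, hc₂⟩ := hINV s hs2 hs1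
      have e : s = (c₂⁻¹ * c₁) * t ^ (2 ^ k) * (c₂⁻¹ * c₁)⁻¹ := by
        calc s = c₂⁻¹ * (c₂ * s * c₂⁻¹) * c₂ := by group
          _ = c₂⁻¹ * (c₁ * t ^ (2 ^ k) * c₁⁻¹) * c₂ := by rw [hc₂, hc₁]
          _ = (c₂⁻¹ * c₁) * t ^ (2 ^ k) * (c₂⁻¹ * c₁)⁻¹ := by group
      rw [e]
      apply hcl _ ht₀T
      rw [← e]
      exact hs
  have hP2S2 : (P2 : Subgroup GL2) ≤ S2 := le_sup_left
  have htauS2 : (tau : GL2) ∈ (S2 : Subgroup GL2) :=
    Subgroup.mem_sup_right (Subgroup.mem_zpowers tau)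
  -- `iota tau ∈ T`
  have htauT : iota (tau : GL2) ∈ T := by
    apply hinv _ (Subgroup.mem_map_of_mem _ htauS2)
    rw [← map_mul, htt, map_one]
  -- `iota (D γ γ⁻¹) ∈ T` for 2-elements `γ`
  have hγ1 : ∀ (γ : Fˣ) (m : ℕ), γ ^ (2 ^ m) = 1 → iota (D h2 hi γ γ⁻¹) ∈ T := by
    intro γ m hγ
    have hγ' : (γ⁻¹) ^ (2 ^ m) = 1 := by rw [inv_pow, hγ, inv_one]
    have hDP : D h2 hi γ γ⁻¹ ∈ (P2 : Subgroup GL2) := D_mem_P2 h2 hi hγ hγ'
    have hXS : D h2 hi γ γ⁻¹ * tau ∈ (S2 : Subgroup GL2) :=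
      Subgroup.mul_mem _ (hP2S2 hDP) htauS2
    have hXX : (D h2 hi γ γ⁻¹ * tau) * (D h2 hi γ γ⁻¹ * tau) = 1 := by
      have e : (D h2 hi γ γ⁻¹ * tau) * (D h2 hi γ γ⁻¹ * tau) =
          D h2 hi γ γ⁻¹ * (tau * D h2 hi γ γ⁻¹ * tau) := by group
      rw [e, tau_D_tau, D_mul, mul_inv_cancel, inv_mul_cancel, D_one]
    have h1 : iota (D h2 hi γ γ⁻¹ * tau) ∈ T := by
      apply hinv _ (Subgroup.mem_map_of_mem _ hXS)
      rw [← map_mul, hXX, map_one]
    have e : D h2 hi γ γ⁻¹ = (D h2 hi γ γ⁻¹ * tau) * tau := by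
      rw [mul_assoc, htt, mul_one]
    rw [e, map_mul]
    exact Subgroup.mul_mem _ h1 htauT
  -- `iota (D 1 γ) ∈ T` for 2-elements `γ`
  have hγ2 : ∀ (γ : Fˣ) (m : ℕ), γ ^ (2 ^ m) = 1 → iota (D h2 hi 1 γ) ∈ T := by
    intro γ m hγ
    have hDP : D h2 hi 1 γ ∈ (P2 : Subgroup GL2) := D_mem_P2 h2 hi (one_pow _) hγ
    have e : gS h2 hi * iota (D h2 hi γ γ⁻¹) * (gS h2 hi)⁻¹ = iota (D h2 hi 1 γ) := by
      rw [gS_conj, mul_inv_cancel_right]
    have := hcl _ (hγ1 γ m hγ) (gS h2 hi)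
      (by rw [e]; exact Subgroup.mem_map_of_mem _ (hP2S2 hDP))
    rw [e] at this
    exact this
  -- `iota P2 ≤ T`
  have hP2T : ∀ N ∈ (P2 : Subgroup GL2), iota N ∈ T := by
    intro N hN
    obtain ⟨α, β, m, rfl, hα, hβ⟩ := exists_D_of_mem_P2 h2 hi hN
    have hαβ : (α * β) ^ (2 ^ m) = 1 := by rw [mul_pow, hα, hβ, one_mul]
    have e : D h2 hi α β = D h2 hi α α⁻¹ * D h2 hi 1 (α * β) := by
      rw [D_mul, mul_one, inv_mul_cancel_left]
    rw [e, map_mul]
    exact Subgroup.mul_mem _ (hγ1 α m hα) (hγ2 (α * β) m hαβ)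
  apply le_antisymm hT
  unfold S3 S2
  rw [Subgroup.map_le_iff_le_comap]
  apply sup_le
  · intro N hN
    exact hP2T N hN
  · rw [Subgroup.zpowers_le]
    exact htauT

end Cfsg.Agent.Helper21.Psl3
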