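import Mathlib
import Cfsg.Prelude.Def_Classical
import Cfsg.Agent.Lib.Helper87.Psu3Defs
import Cfsg.Agent.Lib.Helper21.Psl3SCsp
import Cfsg.Agent.Lib.Helper13.HermStd
import Cfsg.Agent.Lib.Helper13.NormSurj

/-!
# PSU3F piece (SCU3) `strongly_closed_U_three` (helper21, for helper87's S5319 server)

No proper nontrivial strongly closed subgroup of `S3U q` in `SU₃(q)` when `q ≡ 3 mod 4`.
Unitary twin of `Lib/Helper21/Psl3SCsp.lean`: `i^q = -i`, `D α β` is unitary iff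
`α^(q+1) = β^(q+1) = 1`, and the 3-cycle on the orthonormal basis `s(1,i,0)`, `s(1,-i,0)`, `(0,0,1)`
(`s^(q+1) = 1/2`) is an element of `SU₃(q)` conjugating `iota (D γ γ⁻¹)` to `iota (D 1 γ)`.
-/

set_option autoImplicit false
set_option linter.unusedSectionVars false

namespace Cfsg.Agent.Helper21.Psu3

open Matrix Cfsg Cfsg.Agent.Helper87.Psl3 Cfsg.Agent.Helper87.Psu3 Cfsg.Agent.Helper21.Psl3
open Cfsg.Agent.Helper13

variable {K : Type*} [Field K] {q : ℕ}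

local notation "SL3" => Matrix.SpecialLinearGroup (Fin 3) K
local notation "GL2" => GL (Fin 2) K

/-- criterion: `gᵀ * g^(q) = 1` gives `g ∈ SU₃(q)` -/
theorem mem_SU_of_mul [Fintype K] (hK : Fintype.card K = q ^ 2) (g : SL3)
    (M' : Matrix (Fin 3) (Fin 3) K)
    (hM' : ∀ r c, ((g : Matrix (Fin 3) (Fin 3) K) r c) ^ q = M' r c)
    (h : (g : Matrix (Fin 3) (Fin 3) K)ᵀ * M' = 1) : g ∈ Cfsg.SU 3 K q := by
  refine (mem_SU_iff q g).2 ?_
  intro u v
  have h00 := congrFun (congrFun h 0) 0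
  have h01 := congrFun (congrFun h 0) 1
  have h02 := congrFun (congrFun h 0) 2
  have h10 := congrFun (congrFun h 1) 0
  have h11 := congrFun (congrFun h 1) 1
  have h12 := congrFun (congrFun h 1) 2
  have h20 := congrFun (congrFun h 2) 0
  have h21 := congrFun (congrFun h 2) 1
  have h22 := congrFun (congrFun h 2) 2
  simp only [Matrix.mul_apply, Fin.sum_univ_three, Matrix.transpose_apply, Matrix.one_apply_eq,
    ne_eq, not_false_eq_true, Matrix.one_apply_ne, Fin.reduceEq] at h00 h01 h02 h10 h11 h12 h20 h21 h22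
  unfold Cfsg.hermForm
  simp only [Fin.sum_univ_three, Matrix.mulVec, dotProduct, frob_add hK, mul_pow, hM']
  linear_combination (u 0 * v 0 ^ q) * h00 + (u 0 * v 1 ^ q) * h01 + (u 0 * v 2 ^ q) * h02 +
    (u 1 * v 0 ^ q) * h10 + (u 1 * v 1 ^ q) * h11 + (u 1 * v 2 ^ q) * h12 +
    (u 2 * v 0 ^ q) * h20 + (u 2 * v 1 ^ q) * h21 + (u 2 * v 2 ^ q) * h22

section basic

variable [Fintype K]

theorem two_ne_zero_of (hK : Fintype.card K = q ^ 2) (hq : q % 4 = 3) : (2 : K) ≠ 0 := by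
  intro h
  obtain ⟨p, m, hp, hc, rfl⟩ := exists_char_pow hK
  have h2 : ((2 : ℕ) : K) = 0 := by exact_mod_cast h
  have hdvd : p ∣ 2 := (CharP.cast_eq_zero_iff K p 2).mp h2
  have hp2 : p = 2 := (Nat.prime_dvd_prime_iff_eq hp Nat.prime_two).mp hdvd
  subst hp2
  rcases m with _ | _ | m
  · simp at hq
  · simp at hq
  · have : 2 ^ (m + 1 + 1) = 4 * 2 ^ m := by ring
    rw [this, Nat.mul_mod_right] at hq
    exact absurd hq (by norm_num)

theorem exists_i (hK : Fintype.card K = q ^ 2) (hq : q % 4 = 3) : ∃ i : K, i * i = -1 := by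
  have h1 : Fintype.card K % 4 ≠ 3 := by
    rw [hK, Nat.pow_mod, hq]
    norm_num
  obtain ⟨r, hr⟩ := FiniteField.isSquare_neg_one_iff.mpr h1
  exact ⟨r, hr.symm⟩

theorem i_pow_q {i : K} (hi : i * i = -1) (hq : q % 4 = 3) : i ^ q = -i := by
  obtain ⟨k, hk⟩ : ∃ k, q = 4 * k + 3 := ⟨q / 4, by omega⟩
  have h4 : i ^ 4 = 1 := by
    have : i ^ 4 = (i * i) * (i * i) := by ring
    rw [this, hi]; ring
  have h3 : i ^ 3 = -i := by
    have : i ^ 3 = (i * i) * i := by ring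
    rw [this, hi]; ring
  rw [hk, pow_add, pow_mul, h4, one_pow, one_mul, h3]

theorem odd_q (hq : q % 4 = 3) : Odd q := by
  rw [Nat.odd_iff]; omega

theorem two_pow_q (hK : Fintype.card K = q ^ 2) : (2 : K) ^ q = 2 := by
  have := map_ofNat (frobQ hK) 2
  simpa using this

end basic

section unitary

variable [Fintype K] (hK : Fintype.card K = q ^ 2) (hq : q % 4 = 3)

theorem iotaMat_tau : iotaMat (tau : GL2) = !![1, 0, 0; 0, -1, 0; 0, 0, -1] := by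
  have hdet : Matrix.GeneralLinearGroup.det (tau : GL2) = -1 := by
    apply Units.ext
    have h1 : ((Matrix.GeneralLinearGroup.det (tau : GL2) : Kˣ) : K) =
        ((tau : GL2) : Matrix (Fin 2) (Fin 2) K).det := rfl
    rw [h1, tau_val, Matrix.det_fin_two_of]
    simp
  unfold iotaMat
  rw [hdet, tau_val]
  simp

include hK hq in
theorem tau_mem_U2' : (tau : GL2) ∈ U2 q := by
  have hodd := odd_q hq
  have hq0 : q ≠ 0 := by omega
  refine mem_SU_of_mul hK (iota tau) !![1, 0, 0; 0, -1, 0; 0, 0, -1] ?_ ?_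
  · intro r c
    rw [iota_val, iotaMat_tau]
    fin_cases r <;> fin_cases c <;> simp [hq0, hodd.neg_one_pow]
  · rw [iota_val, iotaMat_tau]
    ext r c
    fin_cases r <;> fin_cases c <;> simp [Matrix.mul_apply, Fin.sum_univ_three]

/-- the unitary 3-cycle -/
def gUMat (i s t : K) : Matrix (Fin 3) (Fin 3) K :=
  !![1 / 2, -i / 2, s; -i / 2, -1 / 2, s * i; t, i * t, 0]

theorem det_gUMat (h2 : (2 : K) ≠ 0) {i s t : K} (hi : i * i = -1) (hst : s * t = 1 / 2) :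
    (gUMat i s t).det = 1 := by
  unfold gUMat
  rw [Matrix.det_fin_three]
  simp
  field_simp at hst ⊢
  linear_combination (-3 * s * t) * hi + (2 : K) * hst

/-- the unitary 3-cycle as an element of `SL₃` -/
def gU (h2 : (2 : K) ≠ 0) {i s t : K} (hi : i * i = -1) (hst : s * t = 1 / 2) : SL3 :=
  ⟨gUMat i s t, det_gUMat h2 hi hst⟩

include hK hq in
theorem gU_mem_SU (h2 : (2 : K) ≠ 0) {i s : K} (hi : i * i = -1) (hst : s * s ^ q = 1 / 2) :
    gU h2 hi hst ∈ Cfsg.SU 3 K q := by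
  have hodd := odd_q hq
  have hq0 : q ≠ 0 := by omega
  have hiq := i_pow_q hi hq
  have h2q := two_pow_q hK
  have hss : (s ^ q) ^ q = s := frob_frob hK s
  refine mem_SU_of_mul hK _ !![1 / 2, i / 2, s ^ q; i / 2, -1 / 2, -(s ^ q * i); s, -(i * s), 0] ?_ ?_
  · intro r c
    show (gUMat i s (s ^ q) r c) ^ q = _
    unfold gUMat
    fin_cases r <;> fin_cases c <;>
      simp [hq0, div_pow, mul_pow, hodd.neg_pow, hiq, h2q, hss]
  · show (gUMat i s (s ^ q))ᵀ * _ = 1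
    unfold gUMat
    ext r c
    fin_cases r <;> fin_cases c <;>
      simp [Matrix.mul_apply, Fin.sum_univ_three] <;> field_simp at hst ⊢ <;>
      first
        | ring1
        | linear_combination (-1 : K) * hi + (2 : K) * hst
        | linear_combination (-2 * i) * hst
        | linear_combination (s ^ q) * hi
        | linear_combination (2 * i) * hst
        | linear_combination (-1 - 4 * s * s ^ q) * hi + (2 : K) * hst
        | linear_combination s * hi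
        | linear_combination (-(s * s ^ q)) * hi + hst

include hK hq in
/-- `D α β` is unitary when `α^q = α⁻¹`, `β^q = β⁻¹` -/
theorem D_mem_U2 (h2 : (2 : K) ≠ 0) {i : K} (hi : i * i = -1) {α β : Kˣ}
    (hα : (α : K) ^ q = (α : K)⁻¹) (hβ : (β : K) ^ q = (β : K)⁻¹) :
    D h2 hi α β ∈ U2 q := by
  have hodd := odd_q hq
  have hq0 : q ≠ 0 := by omega
  have hiq := i_pow_q hi hq
  have h2q := two_pow_q hK
  have hα0 : (α : K) ≠ 0 := Units.ne_zero α
  have hβ0 : (β : K) ≠ 0 := Units.ne_zero β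
  have ha : (((α : K) + β) / 2) ^ q = ((α : K)⁻¹ + (β : K)⁻¹) / 2 := by
    rw [div_pow, frob_add hK, hα, hβ, h2q]
  have hb : (((β : K) - α) * i / 2) ^ q = ((β : K)⁻¹ - (α : K)⁻¹) * (-i) / 2 := by
    have hsub : ((β : K) - α) ^ q = (β : K) ^ q - (α : K) ^ q := by
      have := frob_add hK ((β : K) - α) α
      rw [sub_add_cancel] at this
      rw [this]; ring
    rw [div_pow, mul_pow, hsub, hα, hβ, h2q, hiq]
  refine mem_SU_of_mul hK (iota (D h2 hi α β))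
    !![((α : K)⁻¹ + (β : K)⁻¹) / 2, ((β : K)⁻¹ - (α : K)⁻¹) * (-i) / 2, 0;
       -(((β : K)⁻¹ - (α : K)⁻¹) * (-i) / 2), ((α : K)⁻¹ + (β : K)⁻¹) / 2, 0;
       0, 0, (α : K) * β] ?_ ?_
  · intro r c
    rw [iota_val, iotaMat_D]
    have hd2 : ((β : K)⁻¹ * (α : K)⁻¹) ^ q = (α : K) * β := by
      rw [mul_pow, inv_pow, inv_pow, hα, hβ, inv_inv, inv_inv, mul_comm]
    fin_cases r <;> fin_cases c <;> simp [hq0, hodd.neg_pow, ha, hb, hd2]
  · rw [iota_val, iotaMat_D]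
    have hd' : ((((α * β)⁻¹ : Kˣ) : K)) = ((α : K) * β)⁻¹ := by
      rw [Units.val_inv_eq_inv_val, Units.val_mul]
    rw [hd']
    ext r c
    fin_cases r <;> fin_cases c <;>
      simp [Matrix.mul_apply, Fin.sum_univ_three] <;> field_simp <;>
      first
        | ring1
        | linear_combination (((α : K) - β) ^ 2) * hi

include hq in
/-- a unitary `D α β` has `α^q = α⁻¹`, `β^q = β⁻¹` (apply the form to the eigenvectors `(1, ±i, 0)`) -/
theorem pow_q_of_D_mem_U2 (h2 : (2 : K) ≠ 0) {i : K} (hi : i * i = -1) {α β : Kˣ}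
    (h : D h2 hi α β ∈ U2 q) :
    (α : K) ^ q = (α : K)⁻¹ ∧ (β : K) ^ q = (β : K)⁻¹ := by
  have hodd := odd_q hq
  have hiq := i_pow_q hi hq
  have hα0 : (α : K) ≠ 0 := Units.ne_zero α
  have hβ0 : (β : K) ≠ 0 := Units.ne_zero β
  have hmem := (mem_SU_iff q (iota (D h2 hi α β))).1 h
  have hniq : (-i) ^ q = i := by rw [hodd.neg_pow, hiq, neg_neg]
  constructor
  · have h1 := hmem ![1, i, 0] ![1, i, 0]
    have hv : ((iota (D h2 hi α β) : SL3) : Matrix (Fin 3) (Fin 3) K) *ᵥ ![1, i, 0] =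
        ![(α : K), (α : K) * i, 0] := by
      rw [iota_val, iotaMat_D]
      ext r
      fin_cases r <;> simp [Matrix.mulVec, dotProduct, Fin.sum_univ_three] <;> field_simp <;>
        first
          | ring1
          | linear_combination ((β : K) - α) * hi
    rw [hv] at h1
    unfold Cfsg.hermForm at h1
    simp only [Fin.sum_univ_three, Matrix.cons_val_zero, Matrix.cons_val_one, Matrix.cons_val_two,
      Matrix.head_cons, Matrix.tail_cons, mul_pow, hiq, one_pow] at h1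
    have h3 : (α : K) * (α : K) ^ q * 2 = 2 := by
      simp at h1
      linear_combination h1 + ((α : K) * (α : K) ^ q - 1) * hi
    have h4 : (α : K) * (α : K) ^ q = 1 := mul_right_cancel₀ h2 (by rw [h3, one_mul])
    exact eq_inv_of_mul_eq_one_right h4
  · have h1 := hmem ![1, -i, 0] ![1, -i, 0]
    have hv : ((iota (D h2 hi α β) : SL3) : Matrix (Fin 3) (Fin 3) K) *ᵥ ![1, -i, 0] =
        ![(β : K), (β : K) * (-i), 0] := by
      rw [iota_val, iotaMat_D]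
      ext r
      fin_cases r <;> simp [Matrix.mulVec, dotProduct, Fin.sum_univ_three] <;> field_simp <;>
        first
          | ring1
          | linear_combination ((β : K) - α) * hi
          | linear_combination ((α : K) - β) * hi
    rw [hv] at h1
    unfold Cfsg.hermForm at h1
    simp only [Fin.sum_univ_three, Matrix.cons_val_zero, Matrix.cons_val_one, Matrix.cons_val_two,
      Matrix.head_cons, Matrix.tail_cons, mul_pow, hniq, one_pow] at h1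
    have h3 : (β : K) * (β : K) ^ q * 2 = 2 := by
      simp at h1
      linear_combination h1 + ((β : K) * (β : K) ^ q - 1) * hi
    have h4 : (β : K) * (β : K) ^ q = 1 := mul_right_cancel₀ h2 (by rw [h3, one_mul])
    exact eq_inv_of_mul_eq_one_right h4

theorem gU_conj (h2 : (2 : K) ≠ 0) {i s t : K} (hi : i * i = -1) (hst : s * t = 1 / 2) (γ : Kˣ) :
    gU h2 hi hst * iota (D h2 hi γ γ⁻¹) = iota (D h2 hi 1 γ) * gU h2 hi hst := by
  apply Subtype.ext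
  show gUMat i s t * iotaMat (D h2 hi γ γ⁻¹) = iotaMat (D h2 hi 1 γ) * gUMat i s t
  rw [iotaMat_D, iotaMat_D]
  have hγ : (γ : K) ≠ 0 := Units.ne_zero γ
  have e1 : (((γ * γ⁻¹)⁻¹ : Kˣ) : K) = 1 := by simp
  have e2 : (((1 * γ)⁻¹ : Kˣ) : K) = (γ : K)⁻¹ := by simp
  have e3 : ((γ⁻¹ : Kˣ) : K) = (γ : K)⁻¹ := by simp
  rw [e1, e2, e3, Units.val_one]
  unfold gUMat
  ext r c
  fin_cases r <;> fin_cases c <;>
    simp [Matrix.mul_apply, Fin.sum_univ_three] <;> field_simp <;>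
    first
      | ring1
      | linear_combination (1 - (γ : K)) * hi
      | linear_combination (s * (1 - (γ : K))) * hi
      | linear_combination ((γ : K) - 1) * hi
      | linear_combination (t * ((γ : K) ^ 2 - 1)) * hi

end unitary

/-- **(SCU3)** no proper nontrivial strongly closed subgroup of `S3U q`, case `q ≡ 3 mod 4`. -/
theorem strongly_closed_U_three [Fintype K] (hK : Fintype.card K = q ^ 2) (hq : q % 4 = 3)
    (hINV : ∀ g : ↥(Cfsg.SU 3 K q), g * g = 1 → g ≠ 1 → ∃ c : ↥(Cfsg.SU 3 K q), ((c * g * c⁻¹ : ↥(Cfsg.SU 3 K q)) : SL3) = zz)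
    (T : Subgroup ↥(Cfsg.SU 3 K q)) (hT : T ≤ S3U q) (hT1 : T ≠ ⊥)
    (hcl : ∀ t ∈ T, ∀ g : ↥(Cfsg.SU 3 K q), g * t * g⁻¹ ∈ (S3U q : Subgroup ↥(Cfsg.SU 3 K q)) → g * t * g⁻¹ ∈ T) :
    T = S3U q := by
  have h2 : (2 : K) ≠ 0 := two_ne_zero_of hK hq
  obtain ⟨i, hi⟩ := exists_i hK hq
  have htt : (tau : GL2) * tau = 1 := tau_mul_tau'
  have htauU : (tau : GL2) ∈ U2 q := tau_mem_U2' hK hq
  obtain ⟨s, hs⟩ : ∃ s : K, s * s ^ q = 1 / 2 := by
    have hfix : frobQ hK (1 / 2) = 1 / 2 := by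
      rw [map_div₀, map_one, map_ofNat]
    have hne : (1 / 2 : K) ≠ 0 := one_div_ne_zero h2
    obtain ⟨a, ha⟩ := norm_surj_involution (frobQ hK) (frobQ_ne_id hK) (frobQ_frobQ hK)
      (1 / 2) hne hfix
    exact ⟨a, ha⟩
  have hggU : gU h2 hi hs ∈ Cfsg.SU 3 K q := gU_mem_SU hK hq h2 hi hs
  -- an involution `t₀` of `T`
  obtain ⟨⟨t, htT⟩, ht1'⟩ := (Subgroup.ne_bot_iff_exists_ne_one).mp hT1
  have ht1 : t ≠ 1 := fun h => ht1' (Subtype.ext h)
  have hex : ∃ m : ℕ, t ^ (2 ^ m) = 1 := by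
    have htS : (t : SL3) ∈ (S3 : Subgroup SL3) := (mem_S3U_iff q t).1 (hT htT)
    obtain ⟨X, hX, hXt⟩ := Subgroup.mem_map.mp htS
    obtain ⟨m, hm⟩ := exists_pow_eq_one_of_mem_S2 h2 hi hX
    refine ⟨m, ?_⟩
    apply Subtype.ext
    rw [Subgroup.coe_pow, ← hXt, ← map_pow, hm, map_one]
    rfl
  classical
  have hm₀ := Nat.find_spec hex
  have hm₀0 : Nat.find hex ≠ 0 := by
    intro h0
    rw [h0, pow_zero, pow_one] at hm₀
    exact ht1 hm₀
  obtain ⟨k, hk⟩ := Nat.exists_eq_succ_of_ne_zero hm₀0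
  have ht₀1 : t ^ (2 ^ k) ≠ 1 := by
    intro h
    have := Nat.find_min' hex h
    omega
  have ht₀2 : t ^ (2 ^ k) * t ^ (2 ^ k) = 1 := by
    rw [← pow_add, ← two_mul, ← pow_succ', ← Nat.succ_eq_add_one, ← hk]
    exact hm₀
  have ht₀T : t ^ (2 ^ k) ∈ T := Subgroup.pow_mem _ htT _
  -- every involution of `S3U` lies in `T`
  have hinv : ∀ s' ∈ (S3U q : Subgroup ↥(Cfsg.SU 3 K q)), s' * s' = 1 → s' ∈ T := by
    intro s' hs' hs2
    by_cases hs1 : s' = 1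
    · rw [hs1]; exact Subgroup.one_mem _
    · obtain ⟨c₁, hc₁⟩ := hINV _ ht₀2 ht₀1
      obtain ⟨c₂, hc₂⟩ := hINV s' hs2 hs1
      have e0 : c₂ * s' * c₂⁻¹ = c₁ * t ^ (2 ^ k) * c₁⁻¹ := Subtype.ext (hc₂.trans hc₁.symm)
      have e : s' = (c₂⁻¹ * c₁) * t ^ (2 ^ k) * (c₂⁻¹ * c₁)⁻¹ := by
        calc s' = c₂⁻¹ * (c₂ * s' * c₂⁻¹) * c₂ := by group
          _ = c₂⁻¹ * (c₁ * t ^ (2 ^ k) * c₁⁻¹) * c₂ := by rw [e0]
          _ = (c₂⁻¹ * c₁) * t ^ (2 ^ k) * (c₂⁻¹ * c₁)⁻¹ := by group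
      rw [e]
      apply hcl _ ht₀T
      rw [← e]
      exact hs'
  -- the subgroup of `GL₂` of all `X` with `iota X ∈ T`
  set Θ : Subgroup GL2 := (T.map (Cfsg.SU 3 K q).subtype).comap iota with hΘ
  have hΘmem : ∀ X : GL2, X ∈ Θ ↔ ∃ t' ∈ T, (t' : SL3) = iota X := by
    intro X
    rw [hΘ, Subgroup.mem_comap, Subgroup.mem_map]
    rfl
  have hP2S2 : (P2 : Subgroup GL2) ≤ S2 := le_sup_left
  have htauS2 : (tau : GL2) ∈ (S2 : Subgroup GL2) :=
    Subgroup.mem_sup_right (Subgroup.mem_zpowers tau)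
  -- involutions
  have hF1 : ∀ X ∈ (S2 : Subgroup GL2), X ∈ U2 q → X * X = 1 → X ∈ Θ := by
    intro X hXS hXU hXX
    have hmem : (⟨iota X, hXU⟩ : ↥(Cfsg.SU 3 K q)) ∈ T := by
      apply hinv
      · exact (mem_S3U_iff q _).2 (Subgroup.mem_map_of_mem iota hXS)
      · apply Subtype.ext
        show iota X * iota X = 1
        rw [← map_mul, hXX, map_one]
    exact (hΘmem X).2 ⟨_, hmem, rfl⟩
  -- conjugation by the unitary 3-cycle
  have hF3 : ∀ X ∈ Θ, ∀ Y ∈ (S2 : Subgroup GL2),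
      gU h2 hi hs * iota X = iota Y * gU h2 hi hs → Y ∈ Θ := by
    intro X hX Y hYS hconj
    obtain ⟨t', ht'T, ht'X⟩ := (hΘmem X).1 hX
    have hcoe : (((⟨gU h2 hi hs, hggU⟩ : ↥(Cfsg.SU 3 K q)) * t' *
        (⟨gU h2 hi hs, hggU⟩ : ↥(Cfsg.SU 3 K q))⁻¹ : ↥(Cfsg.SU 3 K q)) : SL3) = iota Y := by
      rw [Subgroup.coe_mul, Subgroup.coe_mul, Subgroup.coe_inv, ht'X]
      show gU h2 hi hs * iota X * (gU h2 hi hs)⁻¹ = iota Y
      rw [hconj, mul_inv_cancel_right]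
    have hmem := hcl t' ht'T ⟨gU h2 hi hs, hggU⟩
      ((mem_S3U_iff q _).2 (by rw [hcoe]; exact Subgroup.mem_map_of_mem iota hYS))
    exact (hΘmem Y).2 ⟨_, hmem, hcoe⟩
  have htauΘ : (tau : GL2) ∈ Θ := hF1 tau htauS2 htauU htt
  -- `D γ γ⁻¹ ∈ Θ`
  have hγ1 : ∀ (γ : Kˣ) (m : ℕ), γ ^ (2 ^ m) = 1 → (γ : K) ^ q = (γ : K)⁻¹ →
      D h2 hi γ γ⁻¹ ∈ Θ := by
    intro γ m hγ hγq
    have hγ' : (γ⁻¹) ^ (2 ^ m) = 1 := by rw [inv_pow, hγ, inv_one]
    have hγq' : ((γ⁻¹ : Kˣ) : K) ^ q = ((γ⁻¹ : Kˣ) : K)⁻¹ := by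
      rw [Units.val_inv_eq_inv_val, inv_pow, hγq]
    have hDP : D h2 hi γ γ⁻¹ ∈ (P2 : Subgroup GL2) := D_mem_P2 h2 hi hγ hγ'
    have hDU : D h2 hi γ γ⁻¹ ∈ U2 q := D_mem_U2 hK hq h2 hi hγq hγq'
    have hXX : (D h2 hi γ γ⁻¹ * tau) * (D h2 hi γ γ⁻¹ * tau) = 1 := by
      have e : (D h2 hi γ γ⁻¹ * tau) * (D h2 hi γ γ⁻¹ * tau) =
          D h2 hi γ γ⁻¹ * (tau * D h2 hi γ γ⁻¹ * tau) := by group
      rw [e, tau_D_tau, D_mul, mul_inv_cancel, inv_mul_cancel, D_one]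
    have h1 : D h2 hi γ γ⁻¹ * tau ∈ Θ :=
      hF1 _ (Subgroup.mul_mem _ (hP2S2 hDP) htauS2) (Subgroup.mul_mem _ hDU htauU) hXX
    have e : D h2 hi γ γ⁻¹ = (D h2 hi γ γ⁻¹ * tau) * tau := by
      rw [mul_assoc, htt, mul_one]
    rw [e]
    exact Subgroup.mul_mem _ h1 htauΘ
  -- `D 1 γ ∈ Θ`
  have hγ2 : ∀ (γ : Kˣ) (m : ℕ), γ ^ (2 ^ m) = 1 → (γ : K) ^ q = (γ : K)⁻¹ →
      D h2 hi 1 γ ∈ Θ := by
    intro γ m hγ hγq
    have hDP : D h2 hi 1 γ ∈ (P2 : Subgroup GL2) := D_mem_P2 h2 hi (one_pow _) hγ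
    exact hF3 _ (hγ1 γ m hγ hγq) _ (hP2S2 hDP) (gU_conj h2 hi hs γ)
  -- `P2U ≤ Θ`
  have hP2U : ∀ N ∈ (P2 : Subgroup GL2), N ∈ U2 q → N ∈ Θ := by
    intro N hN hNU
    obtain ⟨α, β, m, rfl, hα, hβ⟩ := exists_D_of_mem_P2 h2 hi hN
    obtain ⟨hαq, hβq⟩ := pow_q_of_D_mem_U2 hq h2 hi hNU
    have hαβ : (α * β) ^ (2 ^ m) = 1 := by rw [mul_pow, hα, hβ, one_mul]
    have hαβq : ((α * β : Kˣ) : K) ^ q = ((α * β : Kˣ) : K)⁻¹ := by
      rw [Units.val_mul, mul_pow, hαq, hβq, mul_inv]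
    have e : D h2 hi α β = D h2 hi α α⁻¹ * D h2 hi 1 (α * β) := by
      rw [D_mul, mul_one, inv_mul_cancel_left]
    rw [e]
    exact Subgroup.mul_mem _ (hγ1 α m hα hαq) (hγ2 (α * β) m hαβ hαβq)
  -- `S2U ≤ Θ`
  have hS2U : ∀ X ∈ (S2 : Subgroup GL2), X ∈ U2 q → X ∈ Θ := by
    intro X hXS hXU
    rcases mem_S2_cases h2 hi hXS with h | h
    · exact hP2U X h hXU
    · have h1 : X * tau ∈ Θ := hP2U _ h (Subgroup.mul_mem _ hXU htauU)
      have e : X = (X * tau) * tau := by rw [mul_assoc, htt, mul_one]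
      rw [e]
      exact Subgroup.mul_mem _ h1 htauΘ
  apply le_antisymm hT
  intro g hg
  have hgS : (g : SL3) ∈ (S3 : Subgroup SL3) := (mem_S3U_iff q g).1 hg
  obtain ⟨X, hXS, hXg⟩ := Subgroup.mem_map.mp hgS
  have hXU : X ∈ U2 q := by
    rw [mem_U2_iff, hXg]
    exact g.2
  obtain ⟨t', ht'T, ht'X⟩ := (hΘmem X).1 (hS2U X hXS hXU)
  have : t' = g := Subtype.ext (ht'X.trans hXg)
  rw [← this]
  exact ht'T

end Cfsg.Agent.Helper21.Psu3
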