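import Mathlib

/-!
# RPD project (helper80 server, S4861): pure group theory pieces (QUOT), (CEN), (FRAT).
-/

set_option autoImplicit false

namespace Cfsg.Agent.Helper21.RPD

universe u

/-- (QUOT) if `G ⧸ N` has a normal Sylow `p`-subgroup then `P N ⊴ G` and `|P N : N|` is a
power of `p` -/
theorem sup_normal_of_quotient {G : Type u} [Group G] [Finite G] (p : ℕ) [Fact p.Prime]
    (N : Subgroup G) [N.Normal]
    (hq : ∀ P' : Sylow p (G ⧸ N), (P' : Subgroup (G ⧸ N)).Normal) (P : Sylow p G) :
    ((P : Subgroup G) ⊔ N).Normal ∧ ∃ k : ℕ, N.relIndex ((P : Subgroup G) ⊔ N) = p ^ k := by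
  constructor
  · have hsurj : Function.Surjective (QuotientGroup.mk' N) := QuotientGroup.mk'_surjective N
    have h1 := hq (P.mapSurjective hsurj)
    rw [Sylow.coe_mapSurjective] at h1
    have h2 : ((P : Subgroup G).map (QuotientGroup.mk' N)).comap (QuotientGroup.mk' N) =
        (P : Subgroup G) ⊔ N := by
      rw [Subgroup.comap_map_eq, QuotientGroup.ker_mk']
    rw [← h2]
    exact Subgroup.Normal.comap h1 _
  · rw [Subgroup.relIndex_sup_right]
    have hP : IsPGroup p ↥(P : Subgroup G) := P.isPGroup'
    exact hP.index _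

/-- (CEN) if `P N ⊴ G` and `N` centralizes `P` then `P ⊴ G` -/
theorem sylow_normal_of_commute {G : Type u} [Group G] [Finite G] (p : ℕ) [Fact p.Prime]
    (N : Subgroup G) (P : Sylow p G) (hM : ((P : Subgroup G) ⊔ N).Normal)
    (hc : ∀ n ∈ N, ∀ x ∈ (P : Subgroup G), n * x = x * n) : (P : Subgroup G).Normal := by
  have hMle : (P : Subgroup G) ⊔ N ≤ Subgroup.normalizer ((P : Subgroup G) : Set G) := by
    refine sup_le Subgroup.le_normalizer ?_
    intro n hn
    rw [Subgroup.mem_normalizer_iff]
    intro x
    constructor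
    · intro hx
      have := hc n hn x hx
      rw [this, mul_inv_cancel_right]
      exact hx
    · intro hx
      have h1 := hc n⁻¹ (N.inv_mem hn) _ hx
      have h2 : x = n * x * n⁻¹ := by
        calc x = n⁻¹ * (n * x * n⁻¹) * n := by group
          _ = (n * x * n⁻¹) * n⁻¹ * n := by rw [h1]
          _ = n * x * n⁻¹ := by group
      rw [h2]; exact hx
  constructor
  intro x hx g
  have hy : g * x * g⁻¹ ∈ (P : Subgroup G) ⊔ N :=
    hM.conj_mem x (Subgroup.mem_sup_left hx) g
  have hyn : g * x * g⁻¹ ∈ Subgroup.normalizer ((P : Subgroup G) : Set G) := hMle hy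
  have hpg : IsPGroup p ↥(Subgroup.zpowers (g * x * g⁻¹)) := by
    obtain ⟨k, hk⟩ := (IsPGroup.iff_orderOf.1 P.2) ⟨x, hx⟩
    have hk' : orderOf x = p ^ k := by
      rw [← hk]; exact (Subgroup.orderOf_mk x hx).symm
    have ho : orderOf (g * x * g⁻¹) = orderOf x := by
      have := MulEquiv.orderOf_eq (MulAut.conj g) x
      rwa [MulAut.conj_apply] at this
    apply IsPGroup.of_card (n := k)
    rw [Nat.card_zpowers, ho, hk']
  have this : Subgroup.zpowers (g * x * g⁻¹) ⊓ Subgroup.normalizer ((P : Subgroup G) : Set G) =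
      Subgroup.zpowers (g * x * g⁻¹) ⊓ (P : Subgroup G) := hpg.inf_normalizer_sylow P
  have hmem : g * x * g⁻¹ ∈ Subgroup.zpowers (g * x * g⁻¹) ⊓
      Subgroup.normalizer ((P : Subgroup G) : Set G) :=
    ⟨Subgroup.mem_zpowers _, hyn⟩
  rw [this] at hmem
  exact hmem.2

/-- (FRAT) Frattini: for an abelian minimal normal `N` with `P N ⊴ G`, either `P ⊴ G` or the
normalizer of `P` is a complement of `N` -/
theorem frattini_dichotomy {G : Type u} [Group G] [Finite G] (p : ℕ) [Fact p.Prime]
    (N : Subgroup G) (hN : N.Normal) (hcomm : ∀ a ∈ N, ∀ b ∈ N, a * b = b * a)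
    (hmin : ∀ M : Subgroup G, M.Normal → M ≤ N → M = ⊥ ∨ M = N)
    (P : Sylow p G) (hM : ((P : Subgroup G) ⊔ N).Normal) :
    (P : Subgroup G).Normal ∨
      (N ⊓ Subgroup.normalizer ((P : Subgroup G) : Set G) = ⊥ ∧
        N ⊔ Subgroup.normalizer ((P : Subgroup G) : Set G) = ⊤) := by
  set NP := Subgroup.normalizer ((P : Subgroup G) : Set G) with hNP
  have htop : N ⊔ NP = ⊤ := by
    have := hM
    have h1 := Sylow.normalizer_sup_eq_top' (N := (P : Subgroup G) ⊔ N) P le_sup_left
    rw [eq_top_iff, ← h1]
    refine sup_le le_sup_right (sup_le ?_ le_sup_left)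
    exact le_trans Subgroup.le_normalizer le_sup_right
  set C := N ⊓ NP with hC
  have hCn : C.Normal := by
    constructor
    intro c hc g
    have hg : g ∈ N ⊔ NP := by rw [htop]; trivial
    -- the set of g normalizing is a subgroup containing N and NP
    have key : N ⊔ NP ≤ Subgroup.normalizer (C : Set G) := by
      refine sup_le ?_ ?_
      · intro n hn
        rw [Subgroup.mem_normalizer_iff]
        intro x
        have hconj : ∀ y ∈ N, n * y * n⁻¹ = y := by
          intro y hy
          rw [hcomm n hn y hy, mul_inv_cancel_right]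
        constructor
        · intro hx
          rw [hconj x hx.1]; exact hx
        · intro hx
          have hxN : x ∈ N := by
            have := hN.conj_mem _ hx.1 n⁻¹
            simpa [mul_assoc] using this
          rw [hconj x hxN] at hx; exact hx
      · intro h hh
        rw [Subgroup.mem_normalizer_iff]
        intro x
        constructor
        · intro hx
          exact ⟨hN.conj_mem x hx.1 h, NP.mul_mem (NP.mul_mem hh hx.2) (NP.inv_mem hh)⟩
        · intro hx
          have e : x = h⁻¹ * (h * x * h⁻¹) * h⁻¹⁻¹ := by group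
          rw [e]
          exact ⟨hN.conj_mem _ hx.1 h⁻¹,
            NP.mul_mem (NP.mul_mem (NP.inv_mem hh) hx.2) (NP.inv_mem (NP.inv_mem hh))⟩
    have := key hg
    rw [Subgroup.mem_normalizer_iff] at this
    exact (this c).1 hc
  rcases hmin C hCn inf_le_left with h0 | h1
  · right
    exact ⟨h0, htop⟩
  · left
    have hNle : N ≤ NP := by
      rw [← h1]; exact inf_le_right
    have : NP = ⊤ := by
      rw [eq_top_iff, ← htop]
      exact sup_le hNle le_rfl
    exact Subgroup.normalizer_eq_top_iff.1 this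

end Cfsg.Agent.Helper21.RPD
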