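import Mathlib
import Cfsg.Agent.Lib.Helper93.RU0

set_option autoImplicit false

namespace Cfsg.Agent.Helper21.RU

open Matrix Cfsg.Agent.Helper93.RU

variable {F : Type*} [Field F] {m : ℕ}

/-- (E2) `Fˣ` is cyclic; replace `k` by `k + 2 (q - 1)`. -/
theorem exists_generator [Fintype F] :
    ∃ lam : F, lam ≠ 0 ∧ ∀ a : F, a ≠ 0 → ∃ k : ℕ, 2 ≤ k ∧ a = lam ^ k := by
  obtain ⟨g, hg⟩ := IsCyclic.exists_monoid_generator (α := Fˣ)
  refine ⟨(g : F), g.ne_zero, ?_⟩
  intro a ha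
  obtain ⟨k, hk⟩ := hg (Units.mk0 a ha)
  have hk' : (g : F) ^ k = a := by
    have := congrArg (fun u : Fˣ => (u : F)) hk
    simpa using this
  have hord : g ^ (2 * orderOf g) = 1 := by
    rw [pow_mul', pow_orderOf_eq_one, one_pow]
  refine ⟨k + 2 * orderOf g, by
    have : 0 < orderOf g := orderOf_pos g
    omega, ?_⟩
  have h2 : (g : F) ^ (2 * orderOf g) = 1 := by
    have := congrArg (fun u : Fˣ => (u : F)) hord
    simpa using this
  rw [pow_add, h2, mul_one, hk']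

end Cfsg.Agent.Helper21.RU
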