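import Mathlib

set_option autoImplicit false

namespace Cfsg.Agent.Helper21.RankOneAlg

variable {M N : Type*} [AddCommGroup M] [AddCommGroup N]

/-- The functional equations satisfied by the maps `a ↦ b(a)` of a special rank one group with
abelian unipotent subgroups, written additively. -/
structure Data (f : M → N) (g : N → M) : Prop where
  gf : ∀ x, g (f x) = x
  fg : ∀ y, f (g y) = y
  f0 : f 0 = 0
  odd : ∀ x, f (-x) = - f x
  dbl : ∀ a : M, 2 • a ≠ 0 → 2 • f (2 • a) = f a
  eqE : ∀ x u : M, x ≠ 0 → u ≠ 0 → u ≠ x → u + x ≠ 0 →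
      g (f (u + x) - f x) + x = g (f (g (f u - f x) + x) - f x)

variable {f : M → N} {g : N → M}

theorem Data.g0 (D : Data f g) : g 0 = 0 := by
  have := D.gf 0
  rwa [D.f0] at this

theorem Data.godd (D : Data f g) (y : N) : g (-y) = - g y := by
  have h1 : f (- g y) = - y := by rw [D.odd, D.fg]
  rw [← h1, D.gf]

theorem Data.f_inj (D : Data f g) {x y : M} (h : f x = f y) : x = y := by
  rw [← D.gf x, ← D.gf y, h]

theorem Data.Q (D : Data f g) {x : M} {m : ℕ} (h : ∀ i, 1 ≤ i → i ≤ m → i • x ≠ 0) :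
    ∀ k, k + 2 ≤ m → f (g (f ((k + 2) • x) - f x) + x) = - ((k + 1) • f x) := by
  intro k
  induction k with
  | zero =>
    intro hk
    have h2 : 2 • x ≠ 0 := h 2 (by omega) (by omega)
    have hd := D.dbl x h2
    have e1 : f ((0 + 2) • x) - f x = f (-(2 • x)) := by
      rw [D.odd, ← hd]; simp only [zero_add]; abel
    rw [e1, D.gf]
    have e2 : -(2 • x) + x = -x := by abel
    rw [e2, D.odd]; simp
  | succ k ih =>
    intro hk
    have ih' := ih (by omega)
    have hu0 : (k + 2) • x ≠ 0 := h _ (by omega) (by omega)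
    have hux : (k + 2) • x ≠ x := by
      intro e
      apply h (k + 1) (by omega) (by omega)
      have : (k + 2) • x = (k + 1) • x + x := by rw [← succ_nsmul]
      rw [this] at e
      simpa using e
    have hux' : (k + 2) • x + x ≠ 0 := by
      rw [← succ_nsmul]
      exact h _ (by omega) (by omega)
    have hx : x ≠ 0 := by
      have := h 1 le_rfl (by omega)
      simpa using this
    have e := D.eqE x ((k + 2) • x) hx hu0 hux hux'
    rw [ih'] at e
    have e3 : (k + 1 + 2) • x = (k + 2) • x + x := by rw [← succ_nsmul]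
    rw [e3, e, D.fg]
    rw [succ_nsmul (f x) (k + 1)]; abel

theorem Data.P (D : Data f g) {x : M} {m : ℕ} (h : ∀ i, 1 ≤ i → i ≤ m → i • x ≠ 0)
    (k : ℕ) (hk : k + 2 ≤ m) : f (x + g ((k + 1) • f x)) = f x - f ((k + 2) • x) := by
  have hQ := D.Q h k hk
  set w := g (f ((k + 2) • x) - f x) with hw
  have h1 : w + x = - g ((k + 1) • f x) := by
    rw [← D.godd, ← hQ, D.gf]
  have h2 : x + g ((k + 1) • f x) = - w := by
    have : w = - g ((k + 1) • f x) - x := by rw [← h1]; abel
    rw [this]; abel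
  rw [h2, D.odd, hw, D.fg]; abel

theorem Data.step (D : Data f g) {x : M} {j : ℕ} (hj : 1 ≤ j) (h1 : j • f (j • x) = f x)
    (h2 : j • f (j • ((j + 1) • x)) = f ((j + 1) • x))
    (h3 : ∀ i, 1 ≤ i → i ≤ j + 1 → i • (j • x) ≠ 0) :
    (j + 1) • f ((j + 1) • x) = f x := by
  obtain ⟨k, rfl⟩ : ∃ k, j = k + 1 := ⟨j - 1, by omega⟩
  have hP := D.P h3 k (by omega)
  rw [h1, D.gf] at hP
  have e1 : (k + 1) • x + x = (k + 1 + 1) • x := by rw [← succ_nsmul]
  have e2 : (k + 2) • (k + 1) • x = (k + 1) • ((k + 1 + 1) • x) := by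
    rw [smul_smul, smul_smul, mul_comm]
  rw [e1, e2] at hP
  -- hP : f ((k+2) x) = f ((k+1) x) - f ((k+1) (k+2) x)
  have e3 : (k + 1) • f ((k + 1 + 1) • x) = f x - f ((k + 1 + 1) • x) := by
    rw [hP, smul_sub, h1, h2, ← hP]
  rw [succ_nsmul, e3]; abel

/-- `m` is positive and all its prime factors are at most `j`. -/
def Smooth (j m : ℕ) : Prop := 0 < m ∧ ∀ q : ℕ, q.Prime → q ∣ m → q ≤ j

theorem Smooth.mono {j j' m : ℕ} (h : Smooth j m) (hj : j ≤ j') : Smooth j' m :=
  ⟨h.1, fun q hq hd => (h.2 q hq hd).trans hj⟩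

theorem Smooth.mul {j m m' : ℕ} (h : Smooth j m) (h' : Smooth j m') : Smooth j (m * m') :=
  ⟨Nat.mul_pos h.1 h'.1, fun q hq hd => (hq.dvd_mul.1 hd).elim (h.2 q hq) (h'.2 q hq)⟩

theorem Smooth.of_le {j m : ℕ} (h0 : 0 < m) (h : m ≤ j) : Smooth j m :=
  ⟨h0, fun _ _ hd => (Nat.le_of_dvd h0 hd).trans h⟩

theorem Data.R (D : Data f g) : ∀ j, 1 ≤ j → ∀ x : M, (∀ m, Smooth j m → m • x ≠ 0) →
    j • f (j • x) = f x := by
  intro j hj
  induction j, hj using Nat.le_induction with
  | base => intro x _; simp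
  | succ j hj ih =>
    intro x hx
    apply D.step hj
    · exact ih x (fun m hm => hx m (hm.mono (Nat.le_succ j)))
    · apply ih
      intro m hm
      rw [smul_smul]
      exact hx _ ((hm.mono (Nat.le_succ j)).mul (Smooth.of_le (Nat.succ_pos j) le_rfl))
    · intro i hi1 hi2
      rw [smul_smul]
      exact hx _ ((Smooth.of_le hi1 hi2).mul (Smooth.of_le hj (Nat.le_succ j)))

/-- The key identity `p f(p y) = f(y)` for the least prime `p = j + 1` occurring as an order. -/
theorem Data.T (D : Data f g) {j : ℕ} (hj : 1 ≤ j)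
    (hmin : ∀ y : M, y ≠ 0 → ∀ m, Smooth j m → m • y ≠ 0) {y : M} (hy : (j + 1) • y ≠ 0) :
    (j + 1) • f ((j + 1) • y) = f y := by
  have hy0 : y ≠ 0 := by
    intro h; apply hy; rw [h, smul_zero]
  apply D.step hj
  · exact D.R j hj y (hmin y hy0)
  · exact D.R j hj _ (hmin _ hy)
  · intro i hi1 hi2
    rcases Nat.lt_or_ge i (j + 1) with hlt | hge
    · rw [smul_smul]
      exact hmin y hy0 _ ((Smooth.of_le hi1 (by omega)).mul (Smooth.of_le hj le_rfl))
    · have hi : i = j + 1 := le_antisymm hi2 hge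
      subst hi
      rw [smul_comm]
      exact hmin _ hy j (Smooth.of_le hj le_rfl)

/-- If `M` has a nonzero torsion element then `M` has prime exponent. -/
theorem Data.torsion (D : Data f g) (hx : ∃ x : M, x ≠ 0 ∧ ∃ n : ℕ, 0 < n ∧ n • x = 0) :
    ∃ p : ℕ, p.Prime ∧ ∀ y : M, p • y = 0 := by
  classical
  -- the set of primes occurring as orders is nonempty
  have hne : ∃ q : ℕ, q.Prime ∧ ∃ x : M, x ≠ 0 ∧ q • x = 0 := by
    obtain ⟨x, hx0, n, hn, hnx⟩ := hx
    have hord : addOrderOf x ∣ n := addOrderOf_dvd_of_nsmul_eq_zero hnx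
    have hord0 : addOrderOf x ≠ 0 := fun h => by
      rw [h, zero_dvd_iff] at hord; omega
    have hord1 : addOrderOf x ≠ 1 := fun h => hx0 (AddMonoid.addOrderOf_eq_one_iff.1 h)
    refine ⟨(addOrderOf x).minFac, Nat.minFac_prime hord1, (addOrderOf x / (addOrderOf x).minFac) • x, ?_, ?_⟩
    · intro h
      have h2 := addOrderOf_dvd_of_nsmul_eq_zero h
      have h3 : (addOrderOf x).minFac ∣ addOrderOf x := Nat.minFac_dvd _
      have hpos : 0 < addOrderOf x := Nat.pos_of_ne_zero hord0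
      have h4 : addOrderOf x / (addOrderOf x).minFac < addOrderOf x :=
        Nat.div_lt_self hpos (Nat.minFac_prime hord1).one_lt
      have h5 : 0 < addOrderOf x / (addOrderOf x).minFac :=
        Nat.div_pos (Nat.le_of_dvd hpos h3) (Nat.minFac_pos _)
      exact absurd (Nat.le_of_dvd h5 h2) (by omega)
    · rw [smul_smul, Nat.mul_div_cancel' (Nat.minFac_dvd _)]
      exact addOrderOf_nsmul_eq_zero x
  set p := Nat.find hne with hp
  obtain ⟨hpp, x₀, hx₀, hpx₀⟩ : p.Prime ∧ ∃ x : M, x ≠ 0 ∧ p • x = 0 := Nat.find_spec hne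
  have hpmin : ∀ q, q < p → ¬ (q.Prime ∧ ∃ x : M, x ≠ 0 ∧ q • x = 0) := fun q hq => Nat.find_min hne hq
  obtain ⟨j, hjp⟩ : ∃ j, p = j + 1 := ⟨p - 1, by have := hpp.two_le; omega⟩
  have hj : 1 ≤ j := by have := hpp.two_le; omega
  -- smooth multiples of nonzero elements are nonzero
  have hmin : ∀ m, Smooth j m → ∀ y : M, y ≠ 0 → m • y ≠ 0 := by
    intro m
    induction m using Nat.strong_induction_on with
    | _ m ih =>
      intro hm y hy hmy
      by_cases hm1 : m = 1
      · subst hm1; simp at hmy; exact hy hmy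
      · have hq := Nat.minFac_prime hm1
        have hqd := Nat.minFac_dvd m
        obtain ⟨m', hm'⟩ := hqd
        have hm'pos : 0 < m' := by
          rcases Nat.eq_zero_or_pos m' with h | h
          · rw [h, mul_zero] at hm'; have := hm.1; omega
          · exact h
        have hm'lt : m' < m := by
          rw [hm']
          exact lt_mul_of_one_lt_left hm'pos hq.one_lt
        have hm'S : Smooth j m' :=
          ⟨hm'pos, fun q hq hd => hm.2 q hq (hd.trans (Dvd.intro_left _ hm'.symm))⟩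
        have h1 : m' • y ≠ 0 := ih m' hm'lt hm'S y hy
        have h2 : m.minFac • (m' • y) = 0 := by rw [smul_smul, ← hm']; exact hmy
        have h3 : m.minFac ≤ j := hm.2 _ hq (Nat.minFac_dvd m)
        exact hpmin m.minFac (by omega) ⟨hq, m' • y, h1, h2⟩
  refine ⟨p, hpp, fun y => ?_⟩
  by_contra hy
  rw [hjp] at hy hpx₀
  have hz : (j + 1) • (x₀ + y) = (j + 1) • y := by rw [smul_add, hpx₀, zero_add]
  have h1 := D.T hj (fun y hy m hm => hmin m hm y hy) hy
  have h2 := D.T hj (fun y hy m hm => hmin m hm y hy) (y := x₀ + y) (by rw [hz]; exact hy)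
  rw [hz, h1] at h2
  have := D.f_inj h2
  apply hx₀
  have h3 : x₀ = (x₀ + y) - y := by abel
  rw [h3, ← this]; abel

/-- If `M` and `N` are torsion-free then `M` is divisible. -/
theorem Data.divisible (D : Data f g) (hM : ∀ x : M, x ≠ 0 → ∀ n : ℕ, 0 < n → n • x ≠ 0)
    (hN : ∀ y : N, y ≠ 0 → ∀ n : ℕ, 0 < n → n • y ≠ 0) (a : M) (n : ℕ) (hn : 0 < n) :
    ∃ c : M, n • c = a := by
  by_cases ha : a = 0
  · exact ⟨0, by rw [ha, smul_zero]⟩
  have hfa : f a ≠ 0 := fun h => ha (D.f_inj (h.trans D.f0.symm))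
  have hnfa : n • f a ≠ 0 := hN _ hfa n hn
  refine ⟨g (n • f a), ?_⟩
  set c := g (n • f a) with hc
  have hfc : f c = n • f a := D.fg _
  have hc0 : c ≠ 0 := by
    intro h; rw [h, D.f0] at hfc; exact hnfa hfc.symm
  have hR := D.R n hn c (fun m hm => hM c hc0 m hm.1)
  rw [hfc] at hR
  have h1 : n • (f (n • c) - f a) = 0 := by rw [smul_sub, hR, sub_self]
  have h2 : f (n • c) - f a = 0 := by
    by_contra h; exact hN _ h n hn h1
  exact D.f_inj (sub_eq_zero.1 h2)

end Cfsg.Agent.Helper21.RankOneAlg
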