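import Mathlib
import Cfsg.Prelude.Def_RootSubgroups
import Cfsg.Agent.Lib.Helper83.RankOneOmega

set_option autoImplicit false

namespace Cfsg.Agent.Helper21.RankOneSpecial

open Cfsg Cfsg.Agent.Helper83

variable {X : Type*} [Group X] {A B : Subgroup X}

open Classical in
/-- The map `a ↦ b(a)` (in left-action form): for `a ∈ A#` the element `b ∈ B#` with
`b A b⁻¹ = a B a⁻¹`; junk value `1` otherwise. -/
noncomputable def bmap (A B : Subgroup X) (a : X) : X :=
  if h : a ≠ 1 ∧ ∃ b, b ∈ B ∧ b ≠ 1 ∧ conjBy A b = conjBy B a then h.2.choose else 1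

theorem bmap_one (A B : Subgroup X) : bmap A B 1 = 1 := by
  unfold bmap
  rw [dif_neg]
  rintro ⟨h, -⟩
  exact h rfl

theorem bmap_mem (A B : Subgroup X) (a : X) : bmap A B a ∈ B := by
  unfold bmap
  split_ifs with h
  · exact h.2.choose_spec.1
  · exact B.one_mem

theorem rankOne_exists_left (h : IsRankOnePair A B) {a : X} (ha : a ∈ A) (ha1 : a ≠ 1) :
    ∃ b, b ∈ B ∧ b ≠ 1 ∧ conjBy A b = conjBy B a := by
  obtain ⟨b, hb, hb1, e⟩ := h.cond_left a⁻¹ (A.inv_mem ha) (by simpa using ha1)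
  refine ⟨b⁻¹, B.inv_mem hb, by simpa using hb1, ?_⟩
  rw [e, inv_inv]

theorem bmap_spec (h : IsRankOnePair A B) {a : X} (ha : a ∈ A) (ha1 : a ≠ 1) :
    bmap A B a ≠ 1 ∧ conjBy A (bmap A B a) = conjBy B a := by
  have hex : a ≠ 1 ∧ ∃ b, b ∈ B ∧ b ≠ 1 ∧ conjBy A b = conjBy B a :=
    ⟨ha1, rankOne_exists_left h ha ha1⟩
  unfold bmap
  rw [dif_pos hex]
  exact hex.2.choose_spec.2

theorem bmap_unique (h : IsRankOnePair A B) {a b : X} (ha : a ∈ A) (ha1 : a ≠ 1) (hb : b ∈ B)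
    (e : conjBy A b = conjBy B a) : bmap A B a = b :=
  rankOne_conj_inj (RankOnePair_symm h) (bmap_mem A B a) hb ((bmap_spec h ha ha1).2.trans e.symm)

theorem bmap_bmap (h : IsRankOnePair A B) {a : X} (ha : a ∈ A) : bmap B A (bmap A B a) = a := by
  by_cases ha1 : a = 1
  · subst ha1; rw [bmap_one, bmap_one]
  · obtain ⟨h1, h2⟩ := bmap_spec h ha ha1
    exact bmap_unique (RankOnePair_symm h) (bmap_mem A B a) h1 ha h2.symm

theorem bmap_inj (h : IsRankOnePair A B) {a a' : X} (ha : a ∈ A) (ha' : a' ∈ A)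
    (e : bmap A B a = bmap A B a') : a = a' := by
  rw [← bmap_bmap h ha, ← bmap_bmap h ha', e]

theorem bmap_eq_one (h : IsRankOnePair A B) {a : X} (ha : a ∈ A) (e : bmap A B a = 1) : a = 1 :=
  bmap_inj h ha A.one_mem (e.trans (bmap_one A B).symm)

/-- `B` acting on the points `x B x⁻¹`, `x ∈ A#`. -/
theorem actB (h : IsRankOnePair A B) {v x : X} (hv : v ∈ B) (hx : x ∈ A) (hx1 : x ≠ 1)
    (hne : v * bmap A B x ≠ 1) :
    conjBy (conjBy B x) v = conjBy B (bmap B A (v * bmap A B x)) := by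
  rw [← (bmap_spec h hx hx1).2, conjBy_conjBy]
  exact ((bmap_spec (RankOnePair_symm h) (B.mul_mem hv (bmap_mem A B x)) hne).2).symm

/-- the braid relation `a t a = t a t` for `t = b(a)⁻¹` -/
theorem braid (hs : IsSpecialRankOnePair A B) {a : X} (ha : a ∈ A) (ha1 : a ≠ 1) :
    a * (bmap A B a)⁻¹ * a = (bmap A B a)⁻¹ * a * (bmap A B a)⁻¹ := by
  obtain ⟨h1, h2⟩ := bmap_spec hs.1 ha ha1
  set t := (bmap A B a)⁻¹ with ht
  have e := hs.2 a⁻¹ (A.inv_mem ha) (by simpa using ha1) t (B.inv_mem (bmap_mem A B a))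
    (by simpa [ht] using h1) (by rw [ht, inv_inv, inv_inv]; exact h2)
  rw [inv_inv] at e
  -- e : t⁻¹ * a⁻¹ * t = a * t⁻¹ * a⁻¹
  have e' : t⁻¹ * a * t = a * t * a⁻¹ := by
    have := congrArg (fun z => z⁻¹) e
    simpa [mul_assoc] using this
  calc a * t * a = t * (t⁻¹ * a * t * a) := by group
    _ = t * (a * t * a⁻¹ * a) := by rw [e']
    _ = t * a * t := by group

/-- `b(a⁻¹) = b(a)⁻¹` in a special rank one group -/
theorem bmap_inv (hs : IsSpecialRankOnePair A B) {a : X} (ha : a ∈ A) :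
    bmap A B a⁻¹ = (bmap A B a)⁻¹ := by
  have h := hs.1
  by_cases ha1 : a = 1
  · subst ha1; simp [bmap_one]
  obtain ⟨h1, h2⟩ := bmap_spec h ha ha1
  have hbr := braid hs ha ha1
  set t := (bmap A B a)⁻¹ with ht
  have htB : t ∈ B := B.inv_mem (bmap_mem A B a)
  have ht1 : t ≠ 1 := by simpa [ht] using h1
  -- `t` fixes the point `P = a (t A t⁻¹) a⁻¹`
  have hfix : conjBy (conjBy (conjBy A t) a) t = conjBy (conjBy A t) a := by
    calc conjBy (conjBy (conjBy A t) a) t = conjBy A (t * a * t) := by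
          rw [conjBy_conjBy, conjBy_conjBy, mul_assoc]
      _ = conjBy A (a * t * a) := by rw [hbr]
      _ = conjBy (conjBy (conjBy A a) t) a := by
          rw [conjBy_conjBy, conjBy_conjBy, mul_assoc]
      _ = conjBy (conjBy A t) a := by rw [conjBy_eq_self_of_mem ha]
  obtain ⟨g1, g2⟩ := bmap_spec (RankOnePair_symm h) htB ht1
  have hP : conjBy (conjBy A t) a = conjBy B (a * bmap B A t) := by rw [← g2, conjBy_conjBy]
  rw [hP] at hfix
  have hcA : a * bmap B A t ∈ A := A.mul_mem ha (bmap_mem B A t)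
  by_cases hc : a * bmap B A t = 1
  · have : bmap B A t = a⁻¹ := eq_inv_of_mul_eq_one_right hc
    rw [← this, bmap_bmap (RankOnePair_symm h) htB]
  · exfalso
    obtain ⟨c1, c2⟩ := bmap_spec h hcA hc
    rw [← c2, conjBy_conjBy] at hfix
    have := rankOne_conj_inj (RankOnePair_symm h) (B.mul_mem htB (bmap_mem A B _)) (bmap_mem A B _) hfix
    exact ht1 (mul_eq_right.1 this)

theorem comm_of_mem (hA : IsMulCommutative A) {a a' : X} (ha : a ∈ A) (ha' : a' ∈ A) :
    a * a' = a' * a := by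
  have := hA.is_comm.comm ⟨a, ha⟩ ⟨a', ha'⟩
  exact congrArg Subtype.val this

/-- `b(a²)² = b(a)` when `a² ≠ 1` -/
theorem bmap_sq (hs : IsSpecialRankOnePair A B) {a : X} (ha : a ∈ A) (ha2 : a * a ≠ 1) :
    bmap A B (a * a) * bmap A B (a * a) = bmap A B a := by
  have h := hs.1
  have ha1 : a ≠ 1 := by
    intro e; apply ha2; rw [e, one_mul]
  obtain ⟨h1, h2⟩ := bmap_spec h ha ha1
  have hbr := braid hs ha ha1
  have hinv := bmap_inv hs ha
  set t := (bmap A B a)⁻¹ with ht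
  have htB : t ∈ B := B.inv_mem (bmap_mem A B a)
  have ht1 : t ≠ 1 := by simpa [ht] using h1
  have haaA : a * a ∈ A := A.mul_mem ha ha
  have hne : t * bmap A B (a * a) ≠ 1 := by
    intro e
    have e2 : bmap A B (a * a) = bmap A B a := by
      rw [ht] at e
      exact (inv_mul_eq_one.1 e).symm
    have := bmap_inj h haaA ha e2
    exact ha1 (mul_eq_right.1 this)
  -- path `t a t` applied to the point `a B a⁻¹`
  have p1 : conjBy (conjBy B a) (t * a * t) = conjBy B a⁻¹ := by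
    rw [← conjBy_conjBy, ← conjBy_conjBy, ← h2, conjBy_conjBy A, ht, inv_mul_cancel, conjBy_one,
      conjBy_eq_self_of_mem ha, ← ht]
    have := (bmap_spec (RankOnePair_symm h) htB ht1).2
    rw [← this, ← hinv, bmap_bmap h (A.inv_mem ha)]
  -- path `a t a`
  have p2 : conjBy (conjBy B a) (a * t * a) =
      conjBy B (a * bmap B A (t * bmap A B (a * a))) := by
    rw [← conjBy_conjBy, ← conjBy_conjBy, conjBy_conjBy B, actB h htB haaA ha2 hne, conjBy_conjBy]
  rw [hbr, p1] at p2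
  have e1 := rankOne_conj_inj h (A.inv_mem ha) (A.mul_mem ha (bmap_mem B A _)) p2
  -- `G (t * F (a a)) = (a a)⁻¹`
  have e2 : bmap B A (t * bmap A B (a * a)) = (a * a)⁻¹ := by
    rw [mul_inv_rev]
    calc bmap B A (t * bmap A B (a * a)) = a⁻¹ * (a * bmap B A (t * bmap A B (a * a))) := by group
      _ = a⁻¹ * a⁻¹ := by rw [← e1]
  have e3 : t * bmap A B (a * a) = (bmap A B (a * a))⁻¹ := by
    rw [← bmap_inv hs haaA, ← e2, bmap_bmap (RankOnePair_symm h) (B.mul_mem htB (bmap_mem A B _))]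
  have e4 : bmap A B (a * a) * bmap A B (a * a) = t⁻¹ := by
    rw [eq_comm, inv_eq_iff_eq_inv, mul_inv_rev]
    calc t = t * bmap A B (a * a) * (bmap A B (a * a))⁻¹ := by group
      _ = (bmap A B (a * a))⁻¹ * (bmap A B (a * a))⁻¹ := by rw [e3]
  rw [e4, ht, inv_inv]

/-- the functional equation coming from the braid relation applied to a generic point -/
theorem bmap_eqE (hs : IsSpecialRankOnePair A B) {a u : X} (ha : a ∈ A) (hu : u ∈ A)
    (ha1 : a ≠ 1) (hu1 : u ≠ 1) (hua : u ≠ a) (hua' : a * u ≠ 1) :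
    a * bmap B A ((bmap A B a)⁻¹ * bmap A B (a * u)) =
      bmap B A ((bmap A B a)⁻¹ * bmap A B (a * bmap B A ((bmap A B a)⁻¹ * bmap A B u))) := by
  have h := hs.1
  obtain ⟨h1, h2⟩ := bmap_spec h ha ha1
  have hbr := braid hs ha ha1
  have hinv := bmap_inv hs ha
  set t := (bmap A B a)⁻¹ with ht
  have htB : t ∈ B := B.inv_mem (bmap_mem A B a)
  have ht1 : t ≠ 1 := by simpa [ht] using h1
  have hauA : a * u ∈ A := A.mul_mem ha hu
  -- generic facts
  have key : ∀ z ∈ A, z ≠ a → t * bmap A B z ≠ 1 := by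
    intro z hz hza e
    apply hza
    apply bmap_inj h hz ha
    rw [ht] at e
    exact (inv_mul_eq_one.1 e).symm
  have hne1 : t * bmap A B (a * u) ≠ 1 := key _ hauA (fun e => hu1 (mul_eq_left.1 e))
  have hne2 : t * bmap A B u ≠ 1 := key _ hu hua
  set w := bmap B A (t * bmap A B u) with hw
  have hwA : w ∈ A := bmap_mem B A _
  have hw1 : w ≠ 1 := by
    intro e
    exact hne2 (bmap_eq_one (RankOnePair_symm h) (B.mul_mem htB (bmap_mem A B u)) e)
  have hawA : a * w ∈ A := A.mul_mem ha hwA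
  have haw1 : a * w ≠ 1 := by
    intro e
    have e1 : w = a⁻¹ := eq_inv_of_mul_eq_one_right e
    have e2 : t * bmap A B u = bmap A B a⁻¹ := by
      rw [← e1, hw, bmap_bmap (RankOnePair_symm h) (B.mul_mem htB (bmap_mem A B u))]
    rw [hinv] at e2
    exact hu1 (bmap_eq_one h hu (mul_eq_left.1 e2))
  have hne3 : t * bmap A B (a * w) ≠ 1 := key _ hawA (fun e => hw1 (mul_eq_left.1 e))
  have p1 : conjBy (conjBy B u) (a * t * a) =
      conjBy B (a * bmap B A (t * bmap A B (a * u))) := by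
    rw [← conjBy_conjBy, ← conjBy_conjBy, conjBy_conjBy B, actB h htB hauA hua' hne1, conjBy_conjBy]
  have p2 : conjBy (conjBy B u) (t * a * t) =
      conjBy B (bmap B A (t * bmap A B (a * w))) := by
    rw [← conjBy_conjBy, ← conjBy_conjBy, actB h htB hu hu1 hne2, conjBy_conjBy B,
      actB h htB hawA haw1 hne3]
  rw [hbr, p2] at p1
  exact (rankOne_conj_inj h (bmap_mem B A _) (A.mul_mem ha (bmap_mem B A _)) p1).symm

end Cfsg.Agent.Helper21.RankOneSpecial
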