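import Mathlib
import Cfsg.Agent.Lib.Helper62.SLN0
import Cfsg.Agent.Lib.Helper66.SLN_G1
import Cfsg.Agent.Lib.Helper26.SLN_R

/-!
# SLN project (S2332), piece S7 : `dim C_V(U_0) = c + (q - 1) d` (helper21)
-/

set_option autoImplicit false

namespace Cfsg.Agent.Helper21.SLN

open Matrix Module Cfsg.Agent.Helper93.U2 Cfsg.Agent.Helper62.SLN

section SLN

variable {F : Type*} [Field F] [Fintype F] [DecidableEq F] {κ : Type} [Fintype κ] [DecidableEq κ]
  {V : Type*} [AddCommGroup V] [Module ℂ V] [FiniteDimensional ℂ V]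
  (ψ : AddChar F ℂ) (pr : Pairing (κ → F)) (hpr : ∀ w u, pr.β w u = ψ (w ⬝ᵥ u))
  (ρ : Representation ℂ (SpecialLinearGroup (Unit ⊕ κ) F) V)

include hpr

omit [Fintype F] [DecidableEq F] [FiniteDimensional ℂ V] in
/-- the additive character `ψ` of a dot-product pairing is non-trivial -/
theorem h21_exists_ne_one (j : κ) : ∃ s : F, ψ s ≠ 1 := by
  by_contra hcon
  push Not at hcon
  have h0 : (Pi.single j 1 : κ → F) = 0 := by
    apply pr.nondeg
    intro b
    rw [hpr]
    exact hcon _
  have h1 := congrFun h0 j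
  rw [Pi.single_eq_same, Pi.zero_apply] at h1
  exact one_ne_zero h1

omit [Fintype F] [DecidableEq F] [FiniteDimensional ℂ V] in
/-- the weights orthogonal to `U_0` are the multiples of `e_j` -/
theorem h21_good_iff (j : κ) (a : κ → F) :
    (∀ b : κ → F, b j = 0 → pr.β a b = 1) ↔ ∃ c : F, a = c • (Pi.single j 1 : κ → F) := by
  constructor
  · intro h
    refine ⟨a j, ?_⟩
    obtain ⟨s, hs⟩ := h21_exists_ne_one ψ pr hpr j
    funext i
    by_cases hij : i = j
    · subst hij
      simp
    · rw [Pi.smul_apply, Pi.single_eq_of_ne hij, smul_zero]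
      by_contra hai
      apply hs
      have hb := h ((s / a i) • (Pi.single i 1 : κ → F)) (by
        rw [Pi.smul_apply, Pi.single_eq_of_ne (Ne.symm hij), smul_zero])
      rw [hpr] at hb
      have hdot : a ⬝ᵥ ((s / a i) • (Pi.single i 1 : κ → F)) = s := by
        rw [dotProduct_smul, dotProduct_single, mul_one, smul_eq_mul]
        field_simp
      rw [hdot] at hb
      exact hb
  · rintro ⟨c, rfl⟩ b hb
    rw [hpr]
    have hdot : (c • (Pi.single j 1 : κ → F)) ⬝ᵥ b = 0 := by
      rw [smul_dotProduct, single_dotProduct, hb, mul_zero, smul_zero]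
    rw [hdot]
    exact AddChar.map_zero_eq_one ψ

omit [DecidableEq F] in
/-- piece S7 (R2' + G1) : `dim C_V(U_0) = c + (q - 1) d` -/
theorem finrank_fix_U0 (j : κ) (d : ℕ) (hd : ∀ w : κ → F, w ≠ 0 → finrank ℂ (wt pr ρ w) = d) :
    finrank ℂ (fixSp ρ (U0set (F := F) j)) =
      finrank ℂ (wt pr ρ 0) + (Fintype.card F - 1) * d := by
  classical
  let B : AddSubgroup (κ → F) :=
    { carrier := {u | u j = 0}
      zero_mem' := rfl
      add_mem' := by
        intro a b ha hb
        change (a + b) j = 0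
        rw [Pi.add_apply, ha, hb, add_zero]
      neg_mem' := by
        intro a ha
        change (-a) j = 0
        rw [Pi.neg_apply, ha, neg_zero] }
  have hB : ∀ u : κ → F, u ∈ B ↔ u j = 0 := fun u => Iff.rfl
  have hset : U0set (F := F) j = uEl '' (B : Set (κ → F)) := by
    ext g
    constructor
    · rintro ⟨u, hu, rfl⟩
      exact ⟨u, hu, rfl⟩
    · rintro ⟨u, hu, rfl⟩
      exact ⟨u, hu, rfl⟩
  rw [hset, Cfsg.Agent.Helper26.SLN.finrank_fixSp_eq_sum_wsp pr uEl ρ
    Cfsg.Agent.Helper66.SLN.uEl_add B]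
  have hfilter : Finset.univ.filter (fun a : κ → F => ∀ b ∈ B, pr.β a b = 1) =
      Finset.univ.image (fun c : F => c • (Pi.single j 1 : κ → F)) := by
    ext a
    rw [Finset.mem_filter, Finset.mem_image]
    constructor
    · rintro ⟨-, h⟩
      obtain ⟨c, hc⟩ := (h21_good_iff ψ pr hpr j a).1 (fun b hb => h b ((hB b).2 hb))
      exact ⟨c, Finset.mem_univ _, hc.symm⟩
    · rintro ⟨c, -, rfl⟩
      refine ⟨Finset.mem_univ _, fun b hb => ?_⟩
      exact (h21_good_iff ψ pr hpr j _).2 ⟨c, rfl⟩ b ((hB b).1 hb)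
  have hinj : Function.Injective (fun c : F => c • (Pi.single j 1 : κ → F)) := by
    intro c c' h
    have := congrFun h j
    simpa using this
  rw [hfilter, Finset.sum_image (fun x _ y _ h => hinj h),
    ← Finset.add_sum_erase _ _ (Finset.mem_univ (0 : F)), zero_smul]
  congr 1
  have hne : ∀ c ∈ (Finset.univ : Finset F).erase 0,
      finrank ℂ (wsp pr uEl ρ (c • (Pi.single j 1 : κ → F))) = d := by
    intro c hc
    apply hd
    intro h0
    have := congrFun h0 j
    rw [Pi.smul_apply, Pi.single_eq_same, smul_eq_mul, mul_one, Pi.zero_apply] at this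
    exact (Finset.ne_of_mem_erase hc) this
  rw [Finset.sum_congr rfl hne, Finset.sum_const, Finset.card_erase_of_mem (Finset.mem_univ _),
    Finset.card_univ, smul_eq_mul]

end SLN

end Cfsg.Agent.Helper21.SLN
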