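import Mathlib
import Cfsg.Agent.Lib.Helper62.SLN0
import Cfsg.Agent.Lib.Helper21.SLN_S7
import Cfsg.Agent.Lib.Helper49.SLN_G7

/-!
# SLN project (S2332), piece S8 : `dim C_V(Q) = c + (q - 1) d` (helper21)
-/

set_option autoImplicit false

namespace Cfsg.Agent.Helper21.SLN

open Matrix Module Cfsg.Agent.Helper93.U2 Cfsg.Agent.Helper62.SLN

section SLN

variable {F : Type*} [Field F] [Fintype F] [DecidableEq F] {κ : Type} [Fintype κ] [DecidableEq κ]
  {V : Type*} [AddCommGroup V] [Module ℂ V] [FiniteDimensional ℂ V]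
  (ψ : AddChar F ℂ) (pr : Pairing (κ → F)) (hpr : ∀ w u, pr.β w u = ψ (w ⬝ᵥ u))
  (ρ : Representation ℂ (SpecialLinearGroup (Unit ⊕ κ) F) V)

omit [Fintype F] [DecidableEq F] in
/-- `qEl j t` only depends on `t` off `j` -/
theorem h21_qEl_update (j : κ) (t : κ → F) : qEl j t = qEl j (Function.update t j 0) := by
  unfold qEl
  congr 1
  apply Subtype.ext
  rw [tvEl_val, tvEl_val, Function.update_idem]

include hpr

omit [DecidableEq F] in
/-- piece S8 (S7 + G7 + R6) : `dim C_V(Q) = c + (q - 1) d` -/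
theorem finrank_fix_Q (j : κ) (d : ℕ) (hd : ∀ w : κ → F, w ≠ 0 → finrank ℂ (wt pr ρ w) = d) :
    finrank ℂ (fixSp ρ (Qset (F := F) j)) =
      finrank ℂ (wt pr ρ 0) + (Fintype.card F - 1) * d := by
  obtain ⟨s, hs⟩ := Cfsg.Agent.Helper49.SLN.exists_swap (F := F) j
  have hset : Qset (F := F) j = (fun g => s * g * s⁻¹) '' (U0set (F := F) j) := by
    ext g
    constructor
    · rintro ⟨t, rfl⟩
      refine ⟨uEl (Function.update t j 0), ⟨Function.update t j 0, Function.update_self j 0 t, rfl⟩, ?_⟩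
      change s * uEl (Function.update t j 0) * s⁻¹ = qEl j t
      rw [hs _ (Function.update_self j 0 t), ← h21_qEl_update]
    · rintro ⟨g, ⟨u, hu, rfl⟩, rfl⟩
      change s * uEl u * s⁻¹ ∈ Qset j
      rw [hs u hu]
      exact ⟨u, rfl⟩
  rw [hset, Cfsg.Agent.Helper26.SLN.finrank_fixSp_conj ρ s (U0set (F := F) j)]
  exact finrank_fix_U0 ψ pr hpr ρ j d hd

end SLN

end Cfsg.Agent.Helper21.SLN
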