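import Mathlib
import Cfsg.Agent.Lib.Helper14.SPIDefs

/-!
# SPI (IDC) core, helper14's server for S5961: `id_case` from the statements of (FIX) and (CDVD)
-/

set_option autoImplicit false

namespace Cfsg.Agent.Helper21.SPI

open Module Polynomial Cfsg.Agent.Helper14.SPI

/-- the dimension of the supremum of an independent finite family -/
theorem h21_finrank_iSup {F V : Type*} [Field F] [AddCommGroup V] [Module F V]
    [FiniteDimensional F V] {t : ℕ} (M : Fin t → Submodule F V) (h : iSupIndep M) :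
    finrank F ↥(⨆ j, M j) = ∑ j, finrank F (M j) := by
  classical
  have key : ∀ s : Finset (Fin t), finrank F ↥(⨆ j ∈ s, M j) = ∑ j ∈ s, finrank F (M j) := by
    intro s
    induction s using Finset.induction_on with
    | empty => simp
    | insert i s hi ih =>
      rw [Finset.iSup_insert, Finset.sum_insert hi]
      have hle : (⨆ j ∈ s, M j) ≤ ⨆ (k : Fin t) (_ : k ≠ i), M k := by
        apply iSup₂_le
        intro j hj
        have hne : j ≠ i := fun hji => hi (hji ▸ hj)
        exact le_iSup₂_of_le j hne le_rfl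
      have hdisj : M i ⊓ (⨆ j ∈ s, M j) = ⊥ := by
        rw [eq_bot_iff]
        intro v hv
        rw [Submodule.mem_inf] at hv
        have := (Submodule.disjoint_def.1 (h i)) v hv.1 (hle hv.2)
        rw [this]; exact Submodule.zero_mem _
      have h3 := Submodule.finrank_sup_add_finrank_inf_eq (M i) (⨆ j ∈ s, M j)
      rw [hdisj, finrank_bot, add_zero, ih] at h3
      exact h3
  have := key Finset.univ
  have e : (⨆ j ∈ (Finset.univ : Finset (Fin t)), M j) = ⨆ j, M j := by
    simp
  rw [e] at this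
  exact this

/-- (IDC) with (FIX) and (CDVD) as hypotheses -/
theorem id_case_of {F V : Type*} [Field F] [Fintype F] [AddCommGroup V] [Module F V]
    [FiniteDimensional F V] (B : LinearMap.BilinForm F V) (hB : B.IsAlt)
    (x : V →ₗ[F] V) (hx : IsIsom B x) (r : ℕ) [Fact r.Prime] (hr0 : (r : F) ≠ 0)
    (hrq : ¬ r ∣ Fintype.card F) (hxr : x ^ r = 1)
    (hFIX : ∀ (W : Submodule F V), W.map x ≤ W → NondegOn B W →
      (W ⊓ LinearMap.ker (x - 1)) ⊓ W.map (x - 1) = ⊥ ∧
      (W ⊓ LinearMap.ker (x - 1)) ⊔ W.map (x - 1) = W ∧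
      (∀ u ∈ W ⊓ LinearMap.ker (x - 1), ∀ w ∈ W.map (x - 1), B u w = 0) ∧
      NondegOn B (W ⊓ LinearMap.ker (x - 1)) ∧ NondegOn B (W.map (x - 1)) ∧
      (W.map (x - 1)).map x ≤ W.map (x - 1) ∧
      (∀ v ∈ W.map (x - 1), x v = v → v = 0))
    (hCDVD : ∀ (W : Submodule F V), W.map x ≤ W → NondegOn B W →
      (∀ v ∈ W, x v = v → v = 0) → cOf (Fintype.card F) r ∣ finrank F W)
    {t : ℕ} (a : ℕ) (D : Fin t → Submodule F V) (hD : IsOrthFam B ⊤ D)
    (hDa : ∀ j, finrank F (D j) = a) (hσ : ∀ j, (D j).map x ≤ D j) :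
    ∃ ρ : Fin t → ℕ, (∀ j, cOf (Fintype.card F) r ∣ ρ j ∧ ρ j ≤ a) ∧
      finrank F (LinearMap.ker (x - 1)) + ∑ j, ρ j = finrank F V := by
  classical
  refine ⟨fun j => finrank F ((D j).map (x - 1)), ?_, ?_⟩
  · intro j
    obtain ⟨_, hsup, _, _, hnd, hinv, hfpf⟩ := hFIX (D j) (hσ j) (hD.nondeg j)
    refine ⟨hCDVD _ hinv hnd hfpf, ?_⟩
    have hle : (D j).map (x - 1) ≤ D j := by
      conv_rhs => rw [← hsup]
      exact le_sup_right
    have := Submodule.finrank_mono hle
    rw [hDa j] at this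
    exact this
  · have hrange : LinearMap.range (x - 1) = ⨆ j, (D j).map (x - 1) := by
      rw [← Submodule.map_top, ← hD.sup, Submodule.map_iSup]
    have hindep : iSupIndep (fun j => (D j).map (x - 1)) := by
      apply hD.indep.mono
      intro j
      obtain ⟨_, hsup, _⟩ := hFIX (D j) (hσ j) (hD.nondeg j)
      show (D j).map (x - 1) ≤ D j
      conv_rhs => rw [← hsup]
      exact le_sup_right
    have h1 := LinearMap.finrank_range_add_finrank_ker (x - 1)
    rw [hrange, h21_finrank_iSup _ hindep] at h1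
    show finrank F (LinearMap.ker (x - 1)) + ∑ j, finrank F ((D j).map (x - 1)) = finrank F V
    rw [← h1]; ring

end Cfsg.Agent.Helper21.SPI
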