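import Mathlib
import Cfsg.Agent.Lib.Helper62.SUO0
import Cfsg.Agent.Lib.Helper42.SUOReg

/-! SUO (S2282, helper62 server): piece (U2) `regular_of_supNZ`, with the extra hypothesis
`1 ≤ n` (the statement without it is false at `n = 0`, where the matrix ring is trivial).
One line from helper42's `regular_of_co`. (helper21) -/

set_option autoImplicit false
set_option linter.unusedSectionVars false
set_option linter.unusedVariables false
set_option quotPrecheck false

namespace Cfsg.Agent.Helper21.SUO

open Matrix Cfsg Cfsg.Agent.Helper13 Cfsg.Agent.Helper87.PsuA Cfsg.Agent.Helper62.SUO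

section U
variable {F : Type*} [Field F] [Fintype F] {q n : ℕ} (hF : Fintype.card F = q ^ 2)
  {b : Fin n → Fin n → F}

local notation "V" => Fin n → F
local notation "G" => ↥(Cfsg.SU n F q)
local notation "H" => Cfsg.hermForm n F q

include hF

/-- (U2) with `1 ≤ n` -/
theorem regular_of_supNZ (hb : HB q b) (hn : 1 ≤ n) {u : G} (hu : u ∈ Usub hb)
    (hs : SupNZ q b u) :
    IsNilpotent (((u : Matrix.SpecialLinearGroup (Fin n) F) : Matrix (Fin n) (Fin n) F) - 1) ∧
    (((u : Matrix.SpecialLinearGroup (Fin n) F) : Matrix (Fin n) (Fin n) F) - 1) ^ (n - 1) ≠ 0 :=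
  Cfsg.Agent.Helper42.SUO.regular_of_co hb hn u ((mem_Usub_iff hb).1 hu) hs

/-- the statement without `1 ≤ n` fails at `n = 0` -/
theorem regular_of_supNZ_false_zero {F : Type*} [Field F] [Fintype F] {q : ℕ}
    (M : Matrix (Fin 0) (Fin 0) F) : ¬ (M ^ (0 - 1) ≠ 0) := by
  intro h
  exact h (Subsingleton.elim _ _)

end U

end Cfsg.Agent.Helper21.SUO
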