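import Mathlib
import Cfsg.Prelude.Def_Local
import Cfsg.Agent.Lib.Helper22.Components
import Cfsg.Agent.Lib.Helper22.Radical
import Cfsg.Agent.Lib.Helper29.CoprimeHyp
import Cfsg.Agent.Lib.Helper34.Components2
import Cfsg.Agent.Lib.Helper21.KleinFour

/-!
# A standard subgroup with centralizer of 2-rank one (helper21)

Lemmas for S3153: `P` standard in `X`, `K = C_X(P)` of 2-rank at most one, `Z(P)` of odd order,
`S ∈ Syl₂(N_X(P))`, `t ∈ S ∩ K` an involution, `g ∈ N_X(S) ∖ S` with `g² ∈ S` and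
`t^g ∈ P K`.  Then `t t^g` centralizes `O(X)` and `[P, O(X)] = 1`.
-/

set_option autoImplicit false
open scoped commutatorElement

namespace Cfsg.Agent.Helper21.StdRankOne

open Subgroup Cfsg

variable {X : Type*} [Group X]

/-- Tight embedding: an involution in `K ∩ xKx⁻¹` forces `x ∈ N(K)`. -/
theorem mem_normalizer_of_tight {K : Subgroup X} (hK : IsTightlyEmbedded K) (x u : X)
    (hu : orderOf u = 2) (huK : u ∈ K) (hux : u ∈ K.map (MulAut.conj x).toMonoidHom) :
    x ∈ normalizer (K : Set X) := by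
  by_contra h
  obtain ⟨k, hk⟩ := hK.2 x h
  have hmem : u ∈ K ⊓ K.map (MulAut.conj x).toMonoidHom := ⟨huK, hux⟩
  have hdvd : orderOf (⟨u, hmem⟩ : ↥(K ⊓ K.map (MulAut.conj x).toMonoidHom)) ∣
      Nat.card ↥(K ⊓ K.map (MulAut.conj x).toMonoidHom) := orderOf_dvd_natCard _
  rw [Subgroup.orderOf_mk, hu, hk] at hdvd
  omega

/-- Three subgroups lemma for a perfect subgroup. -/
theorem commutator_eq_bot_of_perfect {P H : Subgroup X} (hperf : ⁅P, P⁆ = P)
    (h : ⁅P, H⁆ ≤ centralizer (P : Set X)) : ⁅P, H⁆ = ⊥ := by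
  have h1 : ⁅⁅P, H⁆, P⁆ = ⊥ := by
    rw [Subgroup.commutator_eq_bot_iff_le_centralizer]; exact h
  have h2 : ⁅⁅H, P⁆, P⁆ = ⊥ := by
    rw [Subgroup.commutator_comm H P]; exact h1
  have h3 := Subgroup.commutator_commutator_eq_bot_of_rotate h1 h2
  rwa [hperf] at h3

/-- If conjugation by `y` maps the finite subgroup `H` into itself, then `y` normalizes `H`. -/
theorem mem_normalizer_of_conj_mem_finite (H : Subgroup X) [Finite H] (y : X)
    (h : ∀ s ∈ H, y * s * y⁻¹ ∈ H) : y ∈ normalizer (H : Set X) := by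
  have hle : H.map (MulAut.conj y).toMonoidHom ≤ H := by
    rintro _ ⟨s, hs, rfl⟩
    exact h s hs
  have hcard : Nat.card H ≤ Nat.card (H.map (MulAut.conj y).toMonoidHom) := by
    rw [Subgroup.card_map_of_injective (MulAut.conj y).injective]
  have heq : H.map (MulAut.conj y).toMonoidHom = H := Subgroup.eq_of_le_of_card_ge hle hcard
  rw [Subgroup.mem_normalizer_iff]
  intro s
  refine ⟨h s, fun hs => ?_⟩
  rw [← heq] at hs
  obtain ⟨s', hs', he⟩ := hs
  have : s' = s := by
    have : y * s' * y⁻¹ = y * s * y⁻¹ := he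
    simpa using this
  rwa [← this]

/-- A 2-element of `N` normalizing the Sylow 2-subgroup `S` of `N` lies in `S`. -/
theorem mem_sylow_of_normalizes {N : Subgroup X} [Finite N] (S : Sylow 2 ↥N) (y : X) (hyN : y ∈ N)
    (hnorm : ∀ s ∈ (S : Subgroup ↥N).map N.subtype, y * s * y⁻¹ ∈ (S : Subgroup ↥N).map N.subtype)
    (hy : ∃ k : ℕ, y ^ (2 ^ k) = 1) : y ∈ (S : Subgroup ↥N).map N.subtype := by
  set y' : ↥N := ⟨y, hyN⟩ with hy'
  have hn : y' ∈ normalizer ((S : Subgroup ↥N) : Set ↥N) := by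
    apply mem_normalizer_of_conj_mem_finite
    intro s hs
    obtain ⟨s'', hs'', he⟩ := hnorm (s : X) ⟨s, hs, rfl⟩
    have : y' * s * y'⁻¹ = s'' := by
      apply Subtype.ext
      simpa [hy'] using he.symm
    rw [this]; exact hs''
  have hz : IsPGroup 2 (zpowers y') := by
    obtain ⟨k, hk⟩ := hy
    rintro ⟨z, hz⟩
    obtain ⟨n, rfl⟩ := Subgroup.mem_zpowers_iff.mp hz
    refine ⟨k, ?_⟩
    apply Subtype.ext
    have h1 : y' ^ (2 ^ k) = 1 := by
      apply Subtype.ext
      simpa [hy'] using hk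
    show (y' ^ n) ^ (2 ^ k) = 1
    rw [← zpow_natCast, ← zpow_mul, mul_comm, zpow_mul, zpow_natCast, h1, one_zpow]
  have hsup : IsPGroup 2 (zpowers y' ⊔ (S : Subgroup ↥N) : Subgroup ↥N) :=
    IsPGroup.to_sup_of_normal_right' hz S.isPGroup' (by rw [zpowers_le]; exact hn)
  have heq := S.is_maximal' hsup le_sup_right
  have : y' ∈ (S : Subgroup ↥N) := by
    rw [← heq]
    exact mem_sup_left (mem_zpowers y')
  exact ⟨y', this, rfl⟩



/-- In a subgroup of 2-rank at most one, two commuting involutions coincide. -/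
theorem eq_of_commute_of_rankLE [Finite X] {K : Subgroup X} (hr : PRankLE 2 1 ↥K) (u v : X)
    (hu : u ∈ K) (hv : v ∈ K) (hu2 : u ^ 2 = 1) (hv2 : v ^ 2 = 1) (hu1 : u ≠ 1) (hv1 : v ≠ 1)
    (huv : u * v = v * u) : u = v := by
  set u' : ↥K := ⟨u, hu⟩ with hu'
  set v' : ↥K := ⟨v, hv⟩ with hv'
  have hu'2 : u' ^ 2 = 1 := Subtype.ext (by simpa [hu'] using hu2)
  have hv'2 : v' ^ 2 = 1 := Subtype.ext (by simpa [hv'] using hv2)
  have huv' : u' * v' = v' * u' := Subtype.ext (by simpa [hu', hv'] using huv)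
  have hcomm : ∀ x ∈ ({u', v'} : Set ↥K), ∀ y ∈ ({u', v'} : Set ↥K), x * y = y * x := by
    intro x hx y hy
    rcases hx with rfl | rfl <;> rcases hy with rfl | rfl
    · rfl
    · exact huv'
    · exact huv'.symm
    · rfl
  have hA : IsMulCommutative (closure ({u', v'} : Set ↥K)) := Subgroup.isMulCommutative_closure hcomm
  have hexp : ∀ a ∈ closure ({u', v'} : Set ↥K), a ^ 2 = 1 := by
    intro a ha
    induction ha using Subgroup.closure_induction with
    | mem x hx => rcases hx with rfl | rfl <;> assumption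
    | one => simp
    | mul x y hx hy ihx ihy =>
      have hc : x * y = y * x := by
        have := hA.is_comm.comm ⟨x, hx⟩ ⟨y, hy⟩
        exact congrArg Subtype.val this
      rw [(show Commute x y from hc).mul_pow, ihx, ihy, one_mul]
    | inv x hx ih => rw [inv_pow, ih, inv_one]
  have hcard := hr _ hA hexp
  have hou : orderOf u' = 2 := by
    apply orderOf_eq_prime hu'2
    intro h; apply hu1
    have := congrArg Subtype.val h
    simpa [hu'] using this
  have hzle : zpowers u' ≤ closure ({u', v'} : Set ↥K) := by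
    rw [zpowers_le]; exact subset_closure (by simp)
  have hzc : Nat.card (zpowers u') = 2 := by rw [Nat.card_zpowers, hou]
  have heq : zpowers u' = closure ({u', v'} : Set ↥K) :=
    Subgroup.eq_of_le_of_card_ge hzle (by rw [hzc]; simpa using hcard)
  have hvz : v' ∈ zpowers u' := by rw [heq]; exact subset_closure (by simp)
  obtain ⟨k, hk⟩ := Subgroup.mem_zpowers_iff.mp hvz
  have : v' = u' := by
    rcases Int.even_or_odd' k with ⟨m, rfl | rfl⟩
    · exfalso; apply hv1
      rw [zpow_mul, zpow_ofNat, hu'2, one_zpow] at hk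
      have := congrArg Subtype.val hk
      simpa [hv'] using this.symm
    · rw [zpow_add, zpow_mul, zpow_ofNat, hu'2, one_zpow, one_mul, zpow_one] at hk
      exact hk.symm
  have := congrArg Subtype.val this
  simpa [hu', hv'] using this.symm

/-- A 2-subgroup `T` of `K` (2-rank ≤ 1) has at most one involution. -/
theorem involution_unique [Finite X] {K T : Subgroup X} (hr : PRankLE 2 1 ↥K) (hTK : T ≤ K)
    (hT : IsPGroup 2 T) (u v : X) (hu : u ∈ T) (hv : v ∈ T) (hou : orderOf u = 2)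
    (hov : orderOf v = 2) : u = v := by
  have : Fact (Nat.Prime 2) := ⟨Nat.prime_two⟩
  have hu1 : u ≠ 1 := by
    intro h; rw [h, orderOf_one] at hou; omega
  have hv1 : v ≠ 1 := by
    intro h; rw [h, orderOf_one] at hov; omega
  have : Nontrivial ↥T := ⟨⟨⟨u, hu⟩, 1, fun h => hu1 (congrArg Subtype.val h)⟩⟩
  have := hT.center_nontrivial
  have hcen : IsPGroup 2 (center ↥T) := hT.to_subgroup _
  have hdvd : 2 ∣ Nat.card (center ↥T) := by
    rcases hcen.card_eq_or_dvd with h | h
    · exfalso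
      have := Finite.one_lt_card (α := center ↥T)
      omega
    · exact h
  obtain ⟨z, hz⟩ := exists_prime_orderOf_dvd_card' 2 hdvd
  have hz0 : orderOf ((z : ↥T) : X) = 2 := by
    rw [Subgroup.orderOf_coe, Subgroup.orderOf_coe]; exact hz
  have hzT : ((z : ↥T) : X) ∈ T := (z : ↥T).2
  have hzc : ∀ w ∈ T, w * ((z : ↥T) : X) = ((z : ↥T) : X) * w := by
    intro w hw
    have := Subgroup.mem_center_iff.mp z.2 ⟨w, hw⟩
    exact congrArg Subtype.val this
  have hz1 : ((z : ↥T) : X) ≠ 1 := by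
    intro h; rw [h, orderOf_one] at hz0; omega
  have key : ∀ w ∈ T, orderOf w = 2 → w = ((z : ↥T) : X) := by
    intro w hw how
    have hw1 : w ≠ 1 := by
      intro h; rw [h, orderOf_one] at how; omega
    exact eq_of_commute_of_rankLE hr w _ (hTK hw) (hTK hzT) (by rw [← how]; exact pow_orderOf_eq_one w)
      (by rw [← hz0]; exact pow_orderOf_eq_one _) hw1 hz1 (hzc w hw)
  rw [key u hu hou, key v hv hov]

/-- Generation of a normal odd-order subgroup by the centralizers of the involutions of a four-group. -/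
theorem le_of_four_generation [Finite X] (W Y : Subgroup X) (hWn : W.Normal)
    (hodd : (Nat.card W).Coprime 2) (t u : X) (ht : t * t = 1) (hu : u * u = 1)
    (htu : t * u = u * t) (ht1 : t ≠ 1) (hu1 : u ≠ 1) (hne : t ≠ u)
    (h1 : W ⊓ centralizer {t} ≤ Y) (h2 : W ⊓ centralizer {u} ≤ Y)
    (h3 : W ⊓ centralizer {t * u} ≤ Y) : W ≤ Y := by
  have : Fact (Nat.Prime 2) := ⟨Nat.prime_two⟩
  set A := fourSub t u ht hu htu with hA
  have hK4 : IsKleinFour ↥A := isKleinFour_fourSub ht hu htu ht1 hu1 hne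
  have hAc : ∀ x ∈ A, ∀ y ∈ A, x * y = y * x := by
    have hut : u * t = t * u := htu.symm
    have ht' : ∀ x : X, t * (t * x) = x := fun x => by rw [← mul_assoc, ht, one_mul]
    have hu' : ∀ x : X, u * (u * x) = x := fun x => by rw [← mul_assoc, hu, one_mul]
    have hut' : ∀ x : X, u * (t * x) = t * (u * x) := fun x => by
      rw [← mul_assoc, hut, mul_assoc]
    rintro x (rfl | rfl | rfl | rfl) y (rfl | rfl | rfl | rfl) <;>
      simp only [one_mul, mul_one, mul_assoc, ht, hu, ht', hut, hut']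
  have hAp : ∀ x ∈ A, x ^ 2 = 1 := by
    have hut : u * t = t * u := htu.symm
    rintro x (rfl | rfl | rfl | rfl)
    · simp
    · rw [pow_two, ht]
    · rw [pow_two, hu]
    · rw [pow_two, mul_assoc, ← mul_assoc u t u, hut, mul_assoc, hu, mul_one, ht]
  have hA1 : A ≠ ⊥ := by
    intro h
    apply ht1
    have : t ∈ A := left_mem_fourSub ht hu htu
    rw [h] at this
    exact Subgroup.mem_bot.mp this
  have hAX : A ≤ normalizer (W : Set X) := by
    rw [normalizer_eq_top]; exact le_top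
  refine le_trans (Cfsg.Agent.Helper29.le_iSup_covBy A W hAc hAp hA1 hAX hodd) (iSup_le ?_)
  rintro ⟨B, hB⟩
  have hidx := Cfsg.Agent.Helper29.relIndex_eq_of_covBy A B hAc hAp hB
  have hBne : B ≠ ⊥ := by
    intro h
    rw [h, Subgroup.relIndex_bot_left, IsKleinFour.card_four] at hidx
    omega
  obtain ⟨x, hxB, hx1⟩ : ∃ x ∈ B, x ≠ 1 := by
    obtain ⟨x, hx⟩ := (Subgroup.ne_bot_iff_exists_ne_one).mp hBne
    exact ⟨(x : X), x.2, fun h => hx (Subtype.ext h)⟩
  have hle : W ⊓ centralizer ((B : Subgroup X) : Set X) ≤ W ⊓ centralizer {x} :=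
    inf_le_inf_left _ (Subgroup.centralizer_le (by simpa using hxB))
  refine le_trans hle ?_
  rcases hB.le hxB with rfl | rfl | rfl | rfl
  · exact absurd rfl hx1
  · exact h1
  · exact h2
  · exact h3

/-- The configuration of S3153, with the Sylow 2-subgroup `S` of `N_X(P)` replaced by the three
properties of it that are used. -/
structure Cfg (P S : Subgroup X) (t g : X) : Prop where
  qs : IsQuasisimple ↥P
  tight : IsTightlyEmbedded (centralizer (P : Set X))
  norm_eq : normalizer (P : Set X) = normalizer (centralizer (P : Set X) : Set X)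
  rank : PRankLE 2 1 ↥(centralizer (P : Set X))
  zodd : Odd (Nat.card ↥(center ↥P))
  S_le : S ≤ normalizer (P : Set X)
  S_pg : IsPGroup 2 S
  S_abs : ∀ y ∈ normalizer (P : Set X), (∀ s ∈ S, y * s * y⁻¹ ∈ S) → (∃ k : ℕ, y ^ (2 ^ k) = 1) → y ∈ S
  ht : orderOf t = 2
  htS : t ∈ S
  htK : t ∈ centralizer (P : Set X)
  hgN : ∀ s ∈ S, g * s * g⁻¹ ∈ S
  hgS : g ∉ S
  hg2 : g ^ 2 ∈ S
  hgt : g * t * g⁻¹ ∈ P ⊔ centralizer (P : Set X)

namespace Cfg

variable {P S : Subgroup X} {t g : X}

theorem g_not_mem (h : Cfg P S t g) : g ∉ normalizer (P : Set X) := by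
  intro hg
  apply h.hgS
  apply h.S_abs g hg h.hgN
  obtain ⟨k, hk⟩ := h.S_pg ⟨g ^ 2, h.hg2⟩
  refine ⟨k + 1, ?_⟩
  have := congrArg Subtype.val hk
  simp only [SubmonoidClass.mk_pow, OneMemClass.coe_one] at this
  rw [pow_succ', pow_mul]
  exact this

theorem t_sq (h : Cfg P S t g) : t * t = 1 := by
  have := pow_orderOf_eq_one t
  rwa [h.ht, pow_two] at this

theorem t_ne_one (h : Cfg P S t g) : t ≠ 1 := by
  intro h1
  have := h.ht
  rw [h1, orderOf_one] at this
  omega

theorem conj_mem_K (h : Cfg P S t g) {s k : X} (hs : s ∈ normalizer (P : Set X))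
    (hk : k ∈ centralizer (P : Set X)) : s * k * s⁻¹ ∈ centralizer (P : Set X) := by
  rw [h.norm_eq] at hs
  exact (Subgroup.mem_normalizer_iff.mp hs k).mp hk

theorem orderOf_conj' (s x : X) : orderOf (s * x * s⁻¹) = orderOf x := by
  have := (MulAut.conj s).orderOf_eq x
  rwa [MulAut.conj_apply] at this

theorem t_central (h : Cfg P S t g) [Finite X] : ∀ s ∈ S, s * t = t * s := by
  intro s hs
  have h1 : s * t * s⁻¹ ∈ S ⊓ centralizer (P : Set X) :=
    ⟨S.mul_mem (S.mul_mem hs h.htS) (S.inv_mem hs), h.conj_mem_K (h.S_le hs) h.htK⟩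
  have h2 : t ∈ S ⊓ centralizer (P : Set X) := ⟨h.htS, h.htK⟩
  have hT : IsPGroup 2 ↥(S ⊓ centralizer (P : Set X)) := h.S_pg.to_le inf_le_left
  have := involution_unique h.rank inf_le_right hT _ _ h1 h2 (by rw [orderOf_conj', h.ht]) h.ht
  calc s * t = s * t * s⁻¹ * s := by group
    _ = t * s := by rw [this]

theorem u_mem (h : Cfg P S t g) : g * t * g⁻¹ ∈ S := h.hgN t h.htS

theorem u_order (h : Cfg P S t g) : orderOf (g * t * g⁻¹) = 2 := by rw [orderOf_conj', h.ht]

theorem u_sq (h : Cfg P S t g) : (g * t * g⁻¹) * (g * t * g⁻¹) = 1 := by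
  have : g * t * g⁻¹ * (g * t * g⁻¹) = g * (t * t) * g⁻¹ := by group
  rw [this, h.t_sq]; group

theorem u_ne_one (h : Cfg P S t g) : g * t * g⁻¹ ≠ 1 := by
  intro h1
  have := h.u_order
  rw [h1, orderOf_one] at this
  omega

theorem u_comm (h : Cfg P S t g) [Finite X] : t * (g * t * g⁻¹) = (g * t * g⁻¹) * t :=
  (h.t_central _ h.u_mem).symm

theorem u_mem_conjK (h : Cfg P S t g) :
    g * t * g⁻¹ ∈ (centralizer (P : Set X)).map (MulAut.conj g).toMonoidHom :=
  ⟨t, h.htK, by simp [MulAut.conj_apply]⟩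

theorem u_not_mem_K (h : Cfg P S t g) : g * t * g⁻¹ ∉ centralizer (P : Set X) := by
  intro hu
  apply h.g_not_mem
  rw [h.norm_eq]
  exact mem_normalizer_of_tight h.tight g _ h.u_order hu h.u_mem_conjK

theorem u_ne_t (h : Cfg P S t g) : t ≠ g * t * g⁻¹ := by
  intro he
  apply h.u_not_mem_K
  rw [← he]; exact h.htK

/-- Elements of `P ∩ C(P)` have odd order dividing `|Z(P)|`. -/
theorem pow_card_center {z : X} (hzP : z ∈ P) (hzK : z ∈ centralizer (P : Set X)) :
    z ^ Nat.card ↥(center ↥P) = 1 := by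
  have hz : (⟨z, hzP⟩ : ↥P) ∈ center ↥P := by
    rw [Subgroup.mem_center_iff]
    rintro ⟨y, hy⟩
    apply Subtype.ext
    exact Subgroup.mem_centralizer_iff.mp hzK y hy
  have h1 : (⟨⟨z, hzP⟩, hz⟩ : ↥(center ↥P)) ^ Nat.card ↥(center ↥P) = 1 := pow_card_eq_one'
  have h2 := congrArg (fun w : ↥(center ↥P) => ((w : ↥P) : X)) h1
  simp only [SubmonoidClass.mk_pow, OneMemClass.coe_one] at h2
  exact h2

theorem comm_PK {p k : X} (hp : p ∈ P) (hk : k ∈ centralizer (P : Set X)) :
    p * k = k * p := Subgroup.mem_centralizer_iff.mp hk p hp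

theorem P_le_normalizer_K (h : Cfg P S t g) :
    P ≤ normalizer (centralizer (P : Set X) : Set X) := by
  rw [← h.norm_eq]; exact le_normalizer

/-- The decomposition `t^g = a b` with `a ∈ P`, `b ∈ C(P)` of order at most 2. -/
theorem exists_decomp (h : Cfg P S t g) : ∃ a b : X, a ∈ P ∧ b ∈ centralizer (P : Set X) ∧
    a * a = 1 ∧ b * b = 1 ∧ g * t * g⁻¹ = a * b := by
  have hmem : g * t * g⁻¹ ∈ ((P ⊔ centralizer (P : Set X) : Subgroup X) : Set X) := h.hgt
  rw [Subgroup.coe_mul_of_left_le_normalizer_right P _ h.P_le_normalizer_K] at hmem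
  obtain ⟨p, hp, k, hk, hpk⟩ := Set.mem_mul.mp hmem
  have hp : p ∈ P := hp
  have hk : k ∈ centralizer (P : Set X) := hk
  have hc : Commute p k := comm_PK hp hk
  obtain ⟨j, hj⟩ := h.zodd
  set m := Nat.card ↥(center ↥P) with hm
  have hsq : p ^ 2 * k ^ 2 = 1 := by
    rw [← hc.mul_pow, hpk, pow_two, h.u_sq]
  have hp2 : p ^ 2 = (k ^ 2)⁻¹ := eq_inv_of_mul_eq_one_left hsq
  have hk2 : k ^ 2 = (p ^ 2)⁻¹ := eq_inv_of_mul_eq_one_right hsq
  have hp2m : (p ^ 2) ^ m = 1 := by
    apply pow_card_center (P.pow_mem hp 2)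
    rw [hp2]; exact Subgroup.inv_mem _ (Subgroup.pow_mem _ hk 2)
  have hk2m : (k ^ 2) ^ m = 1 := by
    apply pow_card_center _ (Subgroup.pow_mem _ hk 2)
    rw [hk2]; exact P.inv_mem (P.pow_mem hp 2)
  refine ⟨p ^ m, k ^ m, P.pow_mem hp m, Subgroup.pow_mem _ hk m, ?_, ?_, ?_⟩
  · rw [← pow_two, ← pow_mul, mul_comm, pow_mul, hp2m]
  · rw [← pow_two, ← pow_mul, mul_comm, pow_mul, hk2m]
  · rw [← hc.mul_pow, hpk, hj, pow_succ, pow_mul, pow_two, h.u_sq, one_pow, one_mul]

/-- `t^g = a b` with `a ∈ P` an involution and `b ∈ {1, t}`. -/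
theorem exists_ab (h : Cfg P S t g) [Finite X] : ∃ a b : X, a ∈ P ∧ orderOf a = 2 ∧ (b = 1 ∨ b = t) ∧
    g * t * g⁻¹ = a * b := by
  obtain ⟨a, b, haP, hbK, ha2, hb2, hab⟩ := h.exists_decomp
  have hta : a * t = t * a := comm_PK haP h.htK
  have htb : b * t = t * b := by
    have h1 := h.u_comm
    rw [hab] at h1
    -- t * (a * b) = a * b * t
    have h2 : a * (t * b) = a * (b * t) := by
      calc a * (t * b) = (a * t) * b := by group
        _ = t * a * b := by rw [hta]
        _ = t * (a * b) := by group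
        _ = a * b * t := h1
        _ = a * (b * t) := by group
    exact (mul_left_cancel h2).symm
  have hb : b = 1 ∨ b = t := by
    by_cases hb1 : b = 1
    · exact Or.inl hb1
    · right
      exact eq_of_commute_of_rankLE h.rank b t hbK h.htK (by rw [pow_two, hb2])
        (by rw [pow_two, h.t_sq]) hb1 h.t_ne_one htb
  have ha1 : a ≠ 1 := by
    intro ha1
    apply h.u_not_mem_K
    rw [hab, ha1, one_mul]; exact hbK
  exact ⟨a, b, haP, orderOf_eq_prime (by rw [pow_two, ha2]) ha1, hb, hab⟩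

/-- `P ∩ O(X)` is central in `P`. -/
theorem inf_oddCore_le (h : Cfg P S t g) [Finite X] :
    P ⊓ pPrimeCore 2 X ≤ centralizer (P : Set X) := by
  have hWn : (pPrimeCore 2 X).Normal := Subgroup.sSup_normal _ (fun _ h => h.1)
  have hn : P ≤ normalizer ((P ⊓ pPrimeCore 2 X : Subgroup X) : Set X) := by
    intro x hx
    rw [Subgroup.mem_normalizer_iff]
    intro y
    constructor
    · rintro ⟨hyP, hyW⟩
      exact ⟨P.mul_mem (P.mul_mem hx hyP) (P.inv_mem hx), hWn.conj_mem y hyW x⟩
    · rintro ⟨hyP, hyW⟩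
      refine ⟨?_, ?_⟩
      · have := P.mul_mem (P.mul_mem (P.inv_mem hx) hyP) hx
        have e : x⁻¹ * (x * y * x⁻¹) * x = y := by group
        rwa [e] at this
      · have := hWn.conj_mem _ hyW x⁻¹
        have e : x⁻¹ * (x * y * x⁻¹) * x⁻¹⁻¹ = y := by group
        rwa [e] at this
  rcases Cfsg.Agent.Helper22.quasisimple_le_or_commutator_eq_bot h.qs inf_le_left hn with h1 | h1
  · exfalso
    obtain ⟨a, b, haP, hoa, -, -⟩ := h.exists_ab
    have haW : a ∈ pPrimeCore 2 X := (h1 haP).2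
    have hdvd : orderOf (⟨a, haW⟩ : ↥(pPrimeCore 2 X)) ∣ Nat.card ↥(pPrimeCore 2 X) :=
      orderOf_dvd_natCard _
    rw [Subgroup.orderOf_mk, hoa] at hdvd
    have hcop := Cfsg.Agent.Helper22.card_pPrimeCore_coprime (G := X) 2
    have := Nat.Coprime.eq_one_of_dvd hcop.symm hdvd
    omega
  · rw [Subgroup.commutator_comm, Subgroup.commutator_eq_bot_iff_le_centralizer] at h1
    exact h1

theorem mem_cent_single {x e : X} : x ∈ centralizer ({e} : Set X) ↔ e * x = x * e := by
  rw [Subgroup.mem_centralizer_singleton_iff]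
  exact eq_comm

/-- `C_{O(X)}(t)` centralizes `P`. -/
theorem cent_t_le (h : Cfg P S t g) [Finite X] :
    pPrimeCore 2 X ⊓ centralizer ({t} : Set X) ≤ centralizer (P : Set X) := by
  have hWn : (pPrimeCore 2 X).Normal := Subgroup.sSup_normal _ (fun _ h => h.1)
  set D := pPrimeCore 2 X ⊓ centralizer ({t} : Set X) with hD
  have hDN : D ≤ normalizer (P : Set X) := by
    rintro x ⟨-, hx⟩
    rw [h.norm_eq]
    have hxt : t * x = x * t := mem_cent_single.mp hx
    refine mem_normalizer_of_tight h.tight x t h.ht h.htK ⟨t, h.htK, ?_⟩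
    show x * t * x⁻¹ = t
    rw [← hxt]; group
  have hcomm : ⁅P, D⁆ ≤ P ⊓ pPrimeCore 2 X := by
    rw [Subgroup.commutator_le]
    intro p hp d hd
    rw [commutatorElement_def]
    constructor
    · have h1 : d * p⁻¹ * d⁻¹ ∈ P :=
        (Subgroup.mem_normalizer_iff.mp (hDN hd) p⁻¹).mp (P.inv_mem hp)
      have e : p * d * p⁻¹ * d⁻¹ = p * (d * p⁻¹ * d⁻¹) := by group
      rw [e]; exact P.mul_mem hp h1
    · have h1 : p * d * p⁻¹ ∈ pPrimeCore 2 X := hWn.conj_mem d hd.1 p
      exact (pPrimeCore 2 X).mul_mem h1 ((pPrimeCore 2 X).inv_mem hd.1)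
  have h1 : ⁅P, D⁆ = ⊥ :=
    commutator_eq_bot_of_perfect (Cfsg.Agent.Helper22.IsQuasisimple.commutator_eq h.qs)
      (le_trans hcomm h.inf_oddCore_le)
  rw [Subgroup.commutator_comm, Subgroup.commutator_eq_bot_iff_le_centralizer] at h1
  exact h1

/-- `t t^g` centralizes `O(X)`. -/
theorem oddCore_le_cent (h : Cfg P S t g) [Finite X] :
    pPrimeCore 2 X ≤ centralizer ({t * (g * t * g⁻¹)} : Set X) := by
  have hWn : (pPrimeCore 2 X).Normal := Subgroup.sSup_normal _ (fun _ h => h.1)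
  set W := pPrimeCore 2 X with hW
  set u := g * t * g⁻¹ with hu
  obtain ⟨a, b, haP, hoa, hb, hab⟩ := h.exists_ab
  have hab' : u = a * b := hab
  -- `D = C_W(t)` centralizes `u`
  have hDu : W ⊓ centralizer ({t} : Set X) ≤ centralizer ({u} : Set X) := by
    intro d hd
    have hdK := h.cent_t_le hd
    have hdt : t * d = d * t := mem_cent_single.mp hd.2
    have hda : a * d = d * a := comm_PK haP hdK
    rw [mem_cent_single, hab']
    rcases hb with hb | hb
    · rw [hb, mul_one]; exact hda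
    · rw [hb]
      calc a * t * d = a * (t * d) := by group
        _ = a * (d * t) := by rw [hdt]
        _ = (a * d) * t := by group
        _ = d * a * t := by rw [hda]
        _ = d * (a * t) := by group
  -- conjugation by `g` maps `C_W(t)` onto `C_W(u)`
  have hmap : (W ⊓ centralizer ({u} : Set X)).map (MulAut.conj g⁻¹).toMonoidHom ≤
      W ⊓ centralizer ({t} : Set X) := by
    rintro _ ⟨x, ⟨hxW, hxu⟩, rfl⟩
    refine ⟨?_, mem_cent_single.mpr ?_⟩
    · have := hWn.conj_mem x hxW g⁻¹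
      simpa [MulAut.conj_apply] using this
    · have hxu' : u * x = x * u := mem_cent_single.mp hxu
      show t * (g⁻¹ * x * g⁻¹⁻¹) = g⁻¹ * x * g⁻¹⁻¹ * t
      have e1 : t * (g⁻¹ * x * g⁻¹⁻¹) = g⁻¹ * (u * x) * g := by rw [hu]; group
      have e2 : g⁻¹ * x * g⁻¹⁻¹ * t = g⁻¹ * (x * u) * g := by rw [hu]; group
      rw [e1, e2, hxu']
  have hcard : Nat.card ↥(W ⊓ centralizer ({u} : Set X)) ≤
      Nat.card ↥(W ⊓ centralizer ({t} : Set X)) := by
    have e := Subgroup.card_map_of_injective (K := W ⊓ centralizer ({u} : Set X))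
      (f := (MulAut.conj g⁻¹).toMonoidHom) (MulAut.conj g⁻¹).injective
    rw [← e]
    exact Subgroup.card_le_of_le hmap
  have heq : W ⊓ centralizer ({t} : Set X) = W ⊓ centralizer ({u} : Set X) :=
    Subgroup.eq_of_le_of_card_ge (le_inf inf_le_left hDu) hcard
  have hDtu : W ⊓ centralizer ({t} : Set X) ≤ centralizer ({t * u} : Set X) := by
    intro d hd
    have h1 : t * d = d * t := mem_cent_single.mp hd.2
    have h2 : u * d = d * u := mem_cent_single.mp (hDu hd)
    rw [mem_cent_single]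
    calc t * u * d = t * (u * d) := by group
      _ = t * (d * u) := by rw [h2]
      _ = (t * d) * u := by group
      _ = d * t * u := by rw [h1]
      _ = d * (t * u) := by group
  have huu : u * u = 1 := h.u_sq
  refine le_of_four_generation W _ hWn (Cfsg.Agent.Helper22.card_pPrimeCore_coprime 2) t u h.t_sq huu
    ?_ h.t_ne_one h.u_ne_one h.u_ne_t hDtu ?_ inf_le_right
  · exact h.u_comm
  · rw [← heq]; exact hDtu

theorem not_le_oddCore (h : Cfg P S t g) [Finite X] : ¬ P ≤ pPrimeCore 2 X := by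
  intro h1
  obtain ⟨a, b, haP, hoa, -, -⟩ := h.exists_ab
  have haW : a ∈ pPrimeCore 2 X := h1 haP
  have hdvd : orderOf (⟨a, haW⟩ : ↥(pPrimeCore 2 X)) ∣ Nat.card ↥(pPrimeCore 2 X) :=
    orderOf_dvd_natCard _
  rw [Subgroup.orderOf_mk, hoa] at hdvd
  have hcop := Cfsg.Agent.Helper22.card_pPrimeCore_coprime (G := X) 2
  have := Nat.Coprime.eq_one_of_dvd hcop.symm hdvd
  omega

/-- **First conclusion of S3153**: `[P, O(X)] = 1`. -/
theorem commutator_oddCore (h : Cfg P S t g) [Finite X] : ⁅P, pPrimeCore 2 X⁆ = ⊥ := by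
  have hWn : (pPrimeCore 2 X).Normal := Subgroup.sSup_normal _ (fun _ h => h.1)
  set W := pPrimeCore 2 X with hW
  set u := g * t * g⁻¹ with hu
  obtain ⟨a, b, haP, hoa, hb, hab⟩ := h.exists_ab
  have hab' : u = a * b := hab
  have ha2 : a * a = 1 := by
    have := pow_orderOf_eq_one a
    rwa [hoa, pow_two] at this
  have ha1 : a ≠ 1 := by
    intro h1; rw [h1, orderOf_one] at hoa; omega
  have hta : a * t = t * a := comm_PK haP h.htK
  -- `c = t u = a k'` with `k' ∈ C(P)`
  obtain ⟨k', hk'K, hc⟩ : ∃ k' ∈ centralizer (P : Set X), t * u = a * k' := by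
    rcases hb with hb | hb
    · refine ⟨t, h.htK, ?_⟩
      rw [hab', hb, mul_one, hta]
    · refine ⟨1, Subgroup.one_mem _, ?_⟩
      rw [hab', hb, mul_one]
      calc t * (a * t) = t * (t * a) := by rw [hta]
        _ = (t * t) * a := by group
        _ = a := by rw [h.t_sq, one_mul]
  set CW := centralizer (W : Set X) with hCW
  have hCWn : CW.Normal := Subgroup.normal_centralizer
  have hcCW : a * k' ∈ CW := by
    rw [← hc, hCW, Subgroup.mem_centralizer_iff]
    intro w hw
    have := h.oddCore_le_cent hw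
    exact (mem_cent_single.mp this).symm
  have hcomm_mem : ∀ x ∈ P, ⁅x, a⁆ ∈ P ⊓ CW := by
    intro x hx
    refine ⟨?_, ?_⟩
    · rw [commutatorElement_def]
      exact P.mul_mem (P.mul_mem (P.mul_mem hx haP) (P.inv_mem hx)) (P.inv_mem haP)
    · have h1 : x * (a * k') * x⁻¹ * (a * k')⁻¹ ∈ CW :=
        CW.mul_mem (hCWn.conj_mem _ hcCW x) (CW.inv_mem hcCW)
      have hk'x : x⁻¹ * k' = k' * x⁻¹ := comm_PK (P.inv_mem hx) hk'K
      have e : x * (a * k') * x⁻¹ * (a * k')⁻¹ = ⁅x, a⁆ := by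
        rw [commutatorElement_def]
        calc x * (a * k') * x⁻¹ * (a * k')⁻¹ = x * a * (k' * x⁻¹) * k'⁻¹ * a⁻¹ := by group
          _ = x * a * (x⁻¹ * k') * k'⁻¹ * a⁻¹ := by rw [hk'x]
          _ = x * a * x⁻¹ * a⁻¹ := by group
      rwa [e] at h1
  have hn : P ≤ normalizer ((P ⊓ CW : Subgroup X) : Set X) := by
    intro x hx
    rw [Subgroup.mem_normalizer_iff]
    intro y
    constructor
    · rintro ⟨hyP, hyW⟩
      exact ⟨P.mul_mem (P.mul_mem hx hyP) (P.inv_mem hx), hCWn.conj_mem y hyW x⟩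
    · rintro ⟨hyP, hyW⟩
      refine ⟨?_, ?_⟩
      · have := P.mul_mem (P.mul_mem (P.inv_mem hx) hyP) hx
        have e : x⁻¹ * (x * y * x⁻¹) * x = y := by group
        rwa [e] at this
      · have := hCWn.conj_mem _ hyW x⁻¹
        have e : x⁻¹ * (x * y * x⁻¹) * x⁻¹⁻¹ = y := by group
        rwa [e] at this
  rcases Cfsg.Agent.Helper22.quasisimple_le_or_commutator_eq_bot h.qs inf_le_left hn with h1 | h1
  · rw [Subgroup.commutator_eq_bot_iff_le_centralizer]
    exact fun x hx => (h1 hx).2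
  · exfalso
    rw [Subgroup.commutator_comm, Subgroup.commutator_eq_bot_iff_le_centralizer] at h1
    have h2 : ⁅P, zpowers a⁆ ≤ centralizer (P : Set X) := by
      rw [Subgroup.commutator_le]
      intro x hx y hy
      obtain ⟨n, rfl⟩ := Subgroup.mem_zpowers_iff.mp hy
      rcases Int.even_or_odd' n with ⟨m, rfl | rfl⟩
      · have : a ^ (2 * m) = 1 := by
          rw [zpow_mul, zpow_ofNat, pow_two, ha2, one_zpow]
        rw [this, commutatorElement_one_right]
        exact Subgroup.one_mem _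
      · have : a ^ (2 * m + 1) = a := by
          rw [zpow_add, zpow_mul, zpow_ofNat, pow_two, ha2, one_zpow, one_mul, zpow_one]
        rw [this]
        exact h1 (hcomm_mem x hx)
    have h3 := commutator_eq_bot_of_perfect
      (Cfsg.Agent.Helper22.IsQuasisimple.commutator_eq h.qs) h2
    rw [Subgroup.commutator_comm, Subgroup.commutator_eq_bot_iff_le_centralizer] at h3
    have haK : a ∈ centralizer (P : Set X) := h3 (mem_zpowers a)
    have h4 := pow_card_center haP haK
    obtain ⟨j, hj⟩ := h.zodd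
    rw [hj, pow_succ, pow_mul, pow_two, ha2, one_pow, one_mul] at h4
    exact ha1 h4

/-- **Second conclusion of S3153**: every 2-component of `X` containing `P` is quasisimple. -/
theorem isQuasisimple_of_le (h : Cfg P S t g) [Finite X] (L : Subgroup X)
    (hL : IsPComponent 2 L) (hPL : P ≤ L) : IsQuasisimple ↥L := by
  have hWn : (pPrimeCore 2 X).Normal := Subgroup.sSup_normal _ (fun _ h => h.1)
  set W := pPrimeCore 2 X with hW
  apply Cfsg.Agent.Helper34.IsPComponent.isQuasisimple_of_commutator_inf_eq_bot hL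
  set H := L ⊓ centralizer ((L ⊓ W : Subgroup X) : Set X) with hH
  have hPW : P ≤ centralizer (W : Set X) := by
    rw [← Subgroup.commutator_eq_bot_iff_le_centralizer]; exact h.commutator_oddCore
  have hPH : P ≤ H :=
    le_inf hPL (le_trans hPW (Subgroup.centralizer_le (by
      intro x hx; exact hx.2)))
  -- `H` is normal in `L`
  have hLn : L ≤ normalizer (H : Set X) := by
    intro x hx
    have key : ∀ z ∈ L, ∀ y ∈ H, z * y * z⁻¹ ∈ H := by
      intro z hz y hy
      refine ⟨L.mul_mem (L.mul_mem hz hy.1) (L.inv_mem hz), Subgroup.mem_centralizer_iff.mpr ?_⟩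
      intro w hw
      have hw' : z⁻¹ * w * z ∈ L ⊓ W := by
        refine ⟨L.mul_mem (L.mul_mem (L.inv_mem hz) hw.1) hz, ?_⟩
        have := hWn.conj_mem w hw.2 z⁻¹
        simpa using this
      have := Subgroup.mem_centralizer_iff.mp hy.2 _ hw'
      calc w * (z * y * z⁻¹) = z * ((z⁻¹ * w * z) * y) * z⁻¹ := by group
        _ = z * (y * (z⁻¹ * w * z)) * z⁻¹ := by rw [this]
        _ = z * y * z⁻¹ * w := by group
    rw [Subgroup.mem_normalizer_iff]
    intro y
    refine ⟨key x hx y, fun hy => ?_⟩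
    have := key x⁻¹ (L.inv_mem hx) _ hy
    have e : x⁻¹ * (x * y * x⁻¹) * x⁻¹⁻¹ = y := by group
    rwa [e] at this
  have hHsub : H.IsSubnormal :=
    Subgroup.IsSubnormal.step H L inf_le_left hL.1
      ((Subgroup.normal_subgroupOf_iff_le_normalizer inf_le_left).mpr hLn)
  have hHL : H = L := by
    apply hL.2.2 H hHsub inf_le_left
    set π := QuotientGroup.mk' W with hπ
    have hle : H.map π ≤ L.map π := Subgroup.map_mono inf_le_left
    have hn : L.map π ≤ normalizer ((H.map π : Subgroup (X ⧸ W)) : Set (X ⧸ W)) := by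
      have := Subgroup.map_mono (f := π) hLn
      exact le_trans this (Subgroup.le_normalizer_map π)
    rcases Cfsg.Agent.Helper22.quasisimple_le_or_commutator_eq_bot hL.2.1.2 hle hn with h1 | h1
    · exact le_antisymm hle h1
    · exfalso
      apply h.not_le_oddCore
      have h2 : ⁅P.map π, P.map π⁆ ≤ ⁅L.map π, H.map π⁆ :=
        Subgroup.commutator_mono (Subgroup.map_mono hPL) (Subgroup.map_mono hPH)
      rw [h1, ← Subgroup.map_commutator,
        Cfsg.Agent.Helper22.IsQuasisimple.commutator_eq h.qs, le_bot_iff] at h2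
      intro x hx
      have : π x ∈ P.map π := Subgroup.mem_map_of_mem π hx
      rw [h2, Subgroup.mem_bot] at this
      exact (QuotientGroup.eq_one_iff x).mp this
  rw [Subgroup.commutator_eq_bot_iff_le_centralizer]
  intro x hx
  have hxH : x ∈ H := by rw [hHL]; exact hx
  exact hxH.2

end Cfg

end Cfsg.Agent.Helper21.StdRankOne
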