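import Mathlib.GroupTheory.Transfer
import Mathlib.GroupTheory.PGroup
import Mathlib.GroupTheory.Abelianization.Defs

/-!
# Evaluating the transfer on an element whose conjugates are controlled (helper21)

* `transfer_eq_pow_index` : if `ϕ (a⁻¹ g^m a) = ϕ g ^ m` whenever `a⁻¹ g^m a ∈ H`, then
  `transfer ϕ g = ϕ g ^ [G:H]`.
-/

set_option autoImplicit false

namespace Cfsg.Agent.Helper21

open MulAction Subgroup

variable {G : Type*} [Group G] {H : Subgroup G} {A : Type*} [CommGroup A]

/-- Evaluation of the transfer on an element `g ∈ H` all of whose conjugate powers falling into `H`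
have the same image as the corresponding power of `g`. -/
theorem transfer_eq_pow_index [H.FiniteIndex] (ϕ : H →* A) (g : G) (hg : g ∈ H)
    (hctrl : ∀ (m : ℕ) (a : G) (h : a⁻¹ * g ^ m * a ∈ H), ϕ ⟨a⁻¹ * g ^ m * a, h⟩ = ϕ ⟨g, hg⟩ ^ m) :
    MonoidHom.transfer ϕ g = ϕ ⟨g, hg⟩ ^ H.index := by
  classical
  let _ := H.fintypeQuotientOfFiniteIndex
  have : Fintype (Quotient (orbitRel (zpowers g) (G ⧸ H))) := Fintype.ofFinite _
  rw [MonoidHom.transfer_eq_prod_quotient_orbitRel_zpowers_quot ϕ g]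
  rw [Finset.prod_congr rfl (fun q _ => hctrl _ _ _), Finset.prod_pow_eq_pow_sum,
    ← Subgroup.index_eq_sum_minimalPeriod H g]

/-- If `x` has `p`-power order in a group, and `x ^ n = 1` with `n` prime to `p`, then `x = 1`. -/
theorem eq_one_of_pow_eq_one_of_coprime {B : Type*} [Group B] {p : ℕ} (x : B) (k n : ℕ)
    (hx : x ^ p ^ k = 1) (hn : x ^ n = 1) (hcop : Nat.Coprime p n) : x = 1 := by
  have := pow_gcd_eq_one.2 ⟨hx, hn⟩
  rwa [Nat.Coprime.pow_left k hcop, pow_one] at this

end Cfsg.Agent.Helper21
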