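import Mathlib
import Cfsg.Agent.Lib.Helper98.UT0
import Cfsg.Agent.Lib.Helper70.UTD3
import Cfsg.Agent.Lib.Helper42.UTD1
import Cfsg.Agent.Lib.Helper21.UTC3

/-!
# UT server (S2283), piece (C3) VERBATIM: `conj_lower`.
-/

set_option autoImplicit false
set_option quotPrecheck false
set_option linter.unusedSectionVars false
set_option linter.unusedVariables false

namespace Cfsg.Agent.Helper21.UT

open Matrix Cfsg Cfsg.Agent.Helper13 Cfsg.Agent.Helper87.PsuA Cfsg.Agent.Helper87.PsuB0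
  Cfsg.Agent.Helper98.UT

variable {F : Type*} [Field F] [Fintype F] {q : ℕ}

local notation "G" => ↥(Cfsg.SU 3 F q)
local notation "H" => Cfsg.hermForm 3 F q

variable (hF : Fintype.card F = q ^ 2) {b : Fin 3 → Fin 3 → F}

/-- (C3) THE KEY IDENTITY (a 3x3 matrix identity through `cm`): with `a' = -a(2λ+1)/((λ+1)β)`,
`b' = c/(1-λ)`, `a1 = -λ²a/(1+λ)`, `b1 = λβ`:  `x⁻(a',b') x(a1,b1) = z t x(a,β) x⁻(a',b')`,
`z = diag(λ, λ⁻², λ)`, `t = x⁻(0,c)`. -/
theorem conj_lower {lam c a β θ : F} (hb : HB q b) (hR : Rel q lam c a β θ) :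
    lEl hF b (-(a * (2 * lam + 1)) / ((lam + 1) * β)) (c / (1 - lam)) *
        yEl hF b (-(lam ^ 2 * a) / (1 + lam)) (lam * β) *
        (lEl hF b (-(a * (2 * lam + 1)) / ((lam + 1) * β)) (c / (1 - lam)))⁻¹ =
      dEl hF b lam (lam⁻¹ ^ 2) lam * lEl hF b 0 c * yEl hF b a β :=
  conj_lower_of hF hb hR (fun a β h => Cfsg.Agent.Helper70.UT.cm_yEl hF hb a β h)
    (fun a β h => Cfsg.Agent.Helper70.UT.cm_lEl hF hb a β h)
    (fun d0 d1 d2 h1 h2 h3 => Cfsg.Agent.Helper70.UT.h70_cm_dEl_core hF hb d0 d1 d2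
      (Cfsg.Agent.Helper42.UT.dEl_act hF hb d0 d1 d2 h1 h2 h3))

end Cfsg.Agent.Helper21.UT
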